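import Cfsg.Agent.H14.X91

/-! Large extraspecial subgroups of order `2⁹`: Siegel maps, intersections of order eight and sixteen. -/

set_option autoImplicit false
set_option linter.unusedSectionVars false

open Subgroup
namespace H20.X9
open H0 H19 H10.Y H14.X9
open H10.R (N8)

universe u
variable {V : Type*} [AddCommGroup V] [Module (ZMod 2) V] {q : V → ZMod 2} {b : V → V → ZMod 2}

/-- the Siegel map -/
def T (q : V → ZMod 2) (b : V → V → ZMod 2) (x u v : V) : V := v + b v x • u + (b v u + q u * b v x) • x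

theorem o2 : (1 : ZMod 2) + 1 = 0 := rfl
theorem z1 {a : ZMod 2} : a ≠ 0 ↔ a = 1 := by revert a; decide

section
variable (s : QS q b) {x u v w : V}
include s

theorem bsm (a : ZMod 2) (u v : V) : b (a • u) v = a * b u v := by rcases z2 a with rfl | rfl <;> simp [s.b0]
theorem bsm' (a : ZMod 2) (u v : V) : b u (a • v) = a * b u v := by rcases z2 a with rfl | rfl <;> simp [s.b0']
theorem qsm (a : ZMod 2) (u : V) : q (a • u) = a * q u := by rcases z2 a with rfl | rfl <;> simp [s.q0]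
theorem dec (hv : b v x = 1) (k : V) : b (k + b k x • v) x = 0 := by rw [s.badd, bsm s, hv, mul_one, z2_self]
theorem nd2 (hv : b v x = 1) (h1 : b u v = 0) (h2 : ∀ w, b w x = 0 → b u w = 0) : u = 0 := s.nd u fun k => by
  simpa [s.badd', bsm' s, h1] using h2 _ (dec s hv k)
theorem exv (x0 : x ≠ 0) : ∃ v, b v x = 1 := by
  by_contra! n
  exact x0 (s.nd x fun w => s.symm w x ▸ by_contra fun k => n w (z1.1 k))
theorem Tadd (x u v w : V) : T q b x u (v + w) = T q b x u v + T q b x u w := by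
  simp only [T, s.badd]; module
theorem Tsm (x u : V) (a : ZMod 2) (w : V) : T q b x u (a • w) = a • T q b x u w := by
  simp only [T, bsm s]; module
theorem Tx (hu : b u x = 0) : T q b x u x = x := by simp [T, s.bs, s.symm x u, hu]
theorem Tp (hw : b w x = 0) (u : V) : T q b x u w = w + b w u • x := by simp [T, hw]
theorem T0 (x v : V) : T q b x 0 v = v := by simp [T, s.b0', s.q0]
theorem TT (hu : b u x = 0) (hw : b w x = 0) (v : V) : T q b x u (T q b x w v) = T q b x (u + w) v := by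
  simp only [T, s.badd, s.badd', bsm s, s.qadd, s.bs, hu, hw, s.symm x u, s.symm w u]
  match_scalars <;> ring
theorem Txx (qx : q x = 0) (v : V) : T q b x x v = v := by simp [T, qx, add_assoc, s.two]

/-- the perpendicular hyperplane -/
def pp (x : V) : AddSubgroup V := (AddMonoidHom.mk' (b · x) fun u v => s.badd u v x).ker
theorem mpp : v ∈ pp s x ↔ b v x = 0 := Iff.rfl
theorem ipp (x : V) : (pp s x).index ≤ 2 := by
  rw [pp, AddSubgroup.index_ker]; exact (AddSubgroup.card_le_card_addGroup _).trans (Nat.card_zmod 2).le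
theorem exo (A : AddSubgroup V) (l : List V) (h : A.index * l.length < 256) : ∃ a ∈ A, a ∉ l := by
  classical
  by_contra! n
  have := s.fin
  have e := A.index_mul_card
  have : Nat.card A ≤ l.length := (Set.ncard_le_ncard (s := (A : Set V)) (t := (l.toFinset : Set V)) fun a ha => by
    simpa using n a ha).trans (by rw [Set.ncard_coe_finset]; exact l.toFinset_card_le)
  rw [s.card] at e
  nlinarith
theorem exs (A : AddSubgroup V) (h : A.index < 64) : ∃ a ∈ A, a ≠ 0 ∧ q a = 0 := by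
  obtain ⟨u, hu, n1⟩ := exo s A [0] (by simp; omega)
  obtain ⟨v, hv, n2⟩ := exo s A [0, u] (by simp; omega)
  obtain ⟨w, hw, n3⟩ := exo s A [0, u, v, u + v] (by simp; omega)
  simp only [List.mem_cons, List.not_mem_nil, or_false, not_or] at n1 n2 n3
  by_contra! n
  have a := z1.1 (n u hu n1)
  have c := z1.1 (n v hv n2.1)
  have d := z1.1 (n w hw n3.1)
  have e := z1.1 (n _ (add_mem hu hv) fun k => n2.2 (s.eq_iff.1 k).symm)
  have f := z1.1 (n _ (add_mem hu hw) fun k => n3.2.1 (s.eq_iff.1 k).symm)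
  have g := z1.1 (n _ (add_mem hv hw) fun k => n3.2.2.1 (s.eq_iff.1 k).symm)
  have i := z1.1 (n _ (add_mem (add_mem hu hv) hw) fun k => n3.2.2.2 (s.eq_iff.1 k).symm)
  simp only [s.qadd, s.badd, a, c, d] at e f g i
  generalize b u v = α, b u w = β, b v w = γ at *
  revert α β γ; decide
end

variable {G : Type*} [Group G] [Finite G] {Q Q' : Subgroup G} {z t y y' c : G} {π : G → V} {ρ : G → V →+ V} {x u v w e₁ e₂ : V}

theorem msm (f : V →+ V) (a : ZMod 2) (v : V) : f (a • v) = a • f v := by rcases z2 a with rfl | rfl <;> simp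

/-- the Siegel map is induced by the centralizer -/
def Sg (q : V → ZMod 2) (b : V → V → ZMod 2) (z : G) (ρ : G → V →+ V) (x u : V) : Prop :=
  ∃ k, Commute z k ∧ ∀ v, ρ k v = T q b x u v
theorem TJ (h : M Q z π ρ q b) (hc : Commute z c) (x u v : V) : ρ c (T q b x u v) = T q b (ρ c x) (ρ c u) (ρ c v) := by
  simp only [T, map_add, msm, h.rb hc, h.rq hc]
theorem Sg.J (h : M Q z π ρ q b) (hc : Commute z c) (k : Sg q b z ρ x u) : Sg q b z ρ (ρ c x) (ρ c u) :=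
  let ⟨k, a, e⟩ := k
  ⟨c * k * c⁻¹, (hc.mul_right a).mul_right hc.inv_right, fun v => by rw [rcj h hc a, e, TJ h hc, h.rinv' hc]⟩
theorem orb (h : M Q z π ρ q b) (irr : ∀ S : AddSubgroup V, (∀ c, Commute z c → ∀ v ∈ S, ρ c v ∈ S) → S = ⊥ ∨ S = ⊤)
    (x0 : x ≠ 0) (v0 : v ≠ 0) : ∃ c, Commute z c ∧ b (ρ c x) v = 1 := by
  by_contra! n
  let S : AddSubgroup V := ⨅ c : C[z], pp h.qs (ρ c x)
  have m : ∀ v, v ∈ S ↔ ∀ c, Commute z c → b v (ρ c x) = 0 := fun v => AddSubgroup.mem_iInf.trans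
    ⟨fun k c hc => k ⟨c, mem_cent1.2 hc.symm⟩, fun k c => k c (mem_cent1.1 c.2).symm⟩
  rcases irr S fun c hc v hv => (m _).2 fun d hd => by
    rw [← h.rb hc.inv_right, h.rinv hc, ← h.rmul hc.inv_right hd]; exact (m v).1 hv _ (hc.inv_right.mul_right hd) with e | e
  · exact v0 (AddSubgroup.mem_bot.1 (e.le ((m v).2 fun c hc => h.qs.symm _ v ▸ by_contra fun k => n c hc (z1.1 k))))
  · exact x0 (h.qs.nd x fun w => by
      simpa [h.r1, h.qs.symm x] using (m w).1 (e.ge (AddSubgroup.mem_top w)) 1 (.one_right z))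

/-- the intersection is spanned by three vectors -/
def Sp (Q Q' : Subgroup G) (π : G → V) (x e₁ e₂ : V) : Prop :=
  ∀ e ∈ Et Q Q' π, ∃ α β γ : ZMod 2, e = α • x + β • e₁ + γ • e₂

section
variable (n : NW Q z π ρ q b Q' t)
include n

theorem Esm (a : ZMod 2) (hu : u ∈ Et Q Q' π) : a • u ∈ Et Q Q' π := by
  rcases z2 a with rfl | rfl <;> simp [hu, n.E0]
theorem exSp (hc : #(Q ⊓ Q' : Subgroup G) ≤ 16) : ∃ e₁ e₂, Sp Q Q' π (π t) e₁ e₂ := by
  by_contra! k
  simp only [Sp, not_forall, not_exists, exists_prop] at k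
  obtain ⟨e1, m1, k1⟩ := k 0 0
  obtain ⟨e2, m2, k2⟩ := k e1 0
  obtain ⟨e3, m3, k3⟩ := k e1 e2
  let F : ZMod 2 × ZMod 2 × ZMod 2 × ZMod 2 →+ V := AddMonoidHom.mk'
    (fun p => p.1 • π t + p.2.1 • e1 + p.2.2.1 • e2 + p.2.2.2 • e3) fun p p' => by simp only [Prod.fst_add, Prod.snd_add]; module
  have i : Function.Injective F := (injective_iff_map_eq_zero F).2 fun ⟨α, β, γ, δ⟩ e => by
    change α • π t + β • e1 + γ • e2 + δ • e3 = 0 at e
    obtain rfl : δ = 0 := by_contra fun j => k3 α β γ (by rw [z1.1 j, one_smul, n.qs.eq_iff] at e; exact e.symm)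
    obtain rfl : γ = 0 := by_contra fun j => k2 α β 0 (by
      rw [z1.1 j, one_smul, zero_smul, add_zero, n.qs.eq_iff] at e; simp [e])
    obtain rfl : β = 0 := by_contra fun j => k1 α 0 0 (by
      rw [z1.1 j, one_smul, zero_smul, zero_smul, add_zero, add_zero, n.qs.eq_iff] at e; simp [e])
    obtain rfl : α = 0 := by_contra fun j => n.x0 (by simpa [z1.1 j] using e)
    rfl
  choose f f1 f2 using fun p : ZMod 2 × ZMod 2 × ZMod 2 × ZMod 2 => show F p ∈ Et Q Q' π from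
    n.Eadd (n.Eadd (n.Eadd (Esm n _ n.Ex) (Esm n _ m1)) (Esm n _ m2)) (Esm n _ m3)
  have zz : ∀ ε : Bool, (bif ε then z else 1) ∈ Q ⊓ Q' ∧ π (bif ε then z else 1) = 0 := fun ε => by
    cases ε; exacts [⟨one_mem _, n.p1⟩, ⟨⟨n.zQ, n.lp.zQ⟩, n.pz⟩]
  have := Nat.card_le_card_of_injective (fun p : Bool × (ZMod 2 × ZMod 2 × ZMod 2 × ZMod 2) =>
    (⟨(bif p.1 then z else 1) * f p.2, mul_mem (zz _).1 (f1 _)⟩ : (Q ⊓ Q' : Subgroup G))) fun ⟨ε, p⟩ ⟨ε', p'⟩ e => by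
      have e := congrArg Subtype.val e
      obtain rfl : p = p' := i (by simpa [n.add _ (zz _).1.1 _ (f1 _).1, (zz _).2, f2] using congrArg π e)
      have e := mul_right_cancel e
      cases ε <;> cases ε' <;> simp_all [n.z1, n.z1.symm]
  simpa using this.trans hc
theorem alt (hy : y ∈ Q' ⊓ C[z]) (hv : b v (π t) = 0) (hw : b w (π t) = 0) : b (ρ y v + v) w = b v (ρ y w + w) := by
  have := n.Eb (n.PE hy hv) (n.PE hy hw)
  simp only [n.qs.badd, n.qs.badd', n.rb (cy hy)] at this ⊢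
  generalize b v w = α, b (ρ y v) w = β, b v (ρ y w) = γ at *
  revert α β γ; decide
theorem alt0 (hy : y ∈ Q' ⊓ C[z]) (hv : b v (π t) = 0) : b (ρ y v + v) v = 0 := by
  have := n.qs.qadd (ρ y v + v) v
  rw [n.qs.can, n.rq (cy hy), n.Eq0 (n.PE hy hv)] at this
  simpa using this
theorem Nx (hy : y ∈ Q' ⊓ C[z]) (v : V) : b (ρ y v + v) (π t) = 0 := by
  rw [n.qs.badd, ← n.rb (cy hy) v, n.yx hy, z2_self]
theorem com (hy : y ∈ Q' ⊓ C[z]) (hy' : y' ∈ Q' ⊓ C[z]) (v : V) : ρ y (ρ y' v) = ρ y' (ρ y v) := by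
  rw [← n.rmul (cy hy) (cy hy'), ← n.rmul (cy hy') (cy hy)]
  by_cases k : y * y' = y' * y
  · rw [k]
  · rw [n.lp.r.es.mul_eq hy.1 hy'.1 k, n.rmul (n.zc n.tQ) ((cy hy').mul_right (cy hy)), n.rQ n.tQ]
theorem sym (hy : y ∈ Q' ⊓ C[z]) (hy' : y' ∈ Q' ⊓ C[z]) {u' : V} (r : ρ y v + v + u ∈ Et Q Q' π)
    (r' : ρ y' v + v + u' ∈ Et Q Q' π) (hw : b w (π t) = 0) : b (ρ y u' + u') w = b (ρ y' u + u) w := by
  have A : ∀ {y e}, y ∈ Q' ⊓ C[z] → e ∈ Et Q Q' π → b (ρ y e + e) w = 0 := fun hy he => by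
    rw [alt n hy (n.Eb he n.Ex) hw, n.Eb he (n.PE hy hw)]
  have e1 := A hy r'
  have e2 := A hy' r
  simp only [map_add, n.qs.badd, com n hy hy'] at e1 e2 ⊢
  generalize b (ρ y' (ρ y v)) w = α, b (ρ y v) w = β, b (ρ y' v) w = γ, b v w = δ, b (ρ y u') w = a, b u' w = c,
    b (ρ y' u) w = d, b u w = f at *
  revert α β γ δ a c d f; decide
theorem tri (S : Sp Q Q' π (π t) e₁ e₂) (hy : y ∈ Q' ⊓ C[z]) (hw : b w (π t) = 0) {w' : V} (hw' : b w' (π t) = 0) :
    b (ρ y w + w) w' = 0 := by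
  have A : ∀ {y w k}, y ∈ Q' ⊓ C[z] → b w (π t) = 0 → b k (π t) = 0 → b k e₁ = 0 → b k e₂ = 0 → b (ρ y w + w) k = 0 :=
    fun hy hw h0 h1 h2 => by
      obtain ⟨α, β, γ, e⟩ := S _ (n.PE hy hw)
      simp [n.qs.symm (_ + _), e, n.qs.badd', bsm' n.qs, h0, h1, h2]
  obtain ⟨v, hv⟩ := exv n.qs n.x0
  have hu := Nx n hy v
  obtain ⟨u, hu, r⟩ : ∃ u, b u (π t) = 0 ∧ ρ y v + v + u ∈ Et Q Q' π := ⟨_, hu, (n.qs.two _).symm ▸ n.E0⟩
  rcases (show ∀ a a' c c' d d' : ZMod 2, (∃ α, c + α * d = 0 ∧ c' + α * d' = 0) ∨ (d = 0 ∧ d' = 0) ∨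
    ∃ α β, a + α * d + β * c = 0 ∧ a' + α * d' + β * c' = 0 by decide) (b u e₁) (b u e₂) (b w' e₁) (b w' e₂) (b w e₁)
    (b w e₂) with ⟨α, a, c⟩ | ⟨a, c⟩ | ⟨α, β, a, c⟩
  · simpa [n.qs.badd', bsm' n.qs, alt0 n hy hw] using A (k := w' + α • w) hy hw (by simp [n.qs.badd, bsm n.qs, hw, hw'])
      (by rwa [n.qs.badd, bsm n.qs]) (by rwa [n.qs.badd, bsm n.qs])
  · rw [alt n hy hw hw', n.qs.symm, A hy hw' hw a c]
  obtain ⟨p, hp, rp⟩ := n.onto (z1.2 hv) hw
  obtain ⟨p', hp', rp'⟩ := n.onto (z1.2 hv) hw'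
  have := A (k := u + α • w + β • w') hp hw' (by simp [n.qs.badd, bsm n.qs, hw, hw', hu])
      (by rwa [n.qs.badd, n.qs.badd, bsm n.qs, bsm n.qs]) (by rwa [n.qs.badd, n.qs.badd, bsm n.qs, bsm n.qs])
  rw [n.qs.badd', n.qs.badd', bsm' n.qs, bsm' n.qs, alt0 n hp hw', sym n hp hp' rp rp' hw, alt0 n hp' hw] at this
  rw [sym n hy hp r rp hw', alt n hp hu hw', n.qs.symm]
  simpa using this
theorem sie (S : Sp Q Q' π (π t) e₁ e₂) (hy : y ∈ Q' ⊓ C[z]) (hv : b v (π t) = 1) (w : V) :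
    ρ y w = T q b (π t) (ρ y v + v) w := by
  have s := n.qs
  have hu := Nx n hy v
  have e := s.qadd (ρ y v + v) v
  rw [s.can, n.rq (cy hy), add_right_comm, right_eq_add, s.symm] at e
  have A : ∀ w, b w (π t) = 0 → ρ y w = T q b (π t) (ρ y v + v) w := fun w hw => by
    rw [Tp s hw, ← s.eq_iff, ← add_assoc]
    refine nd2 s hv ?_ fun k hk => by rw [s.badd, tri n S hy hw hk, bsm s, s.symm _ k, hk]; simp
    have := tri n S hy hw hu
    simp only [s.badd, s.badd', bsm s, s.symm (π t), hv, n.rb (cy hy)] at this ⊢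
    generalize b w v = α, b (ρ y w) v = β, b w (ρ y v) = γ at *
    revert α β γ; decide
  have B : T q b (π t) (ρ y v + v) v = ρ y v := by
    rw [T, hv, mul_one, add_comm (b v _), e]; simp [add_comm _ v, s.can']
  rw [← s.can w (b w (π t) • v), map_add, A _ (dec s hv w), msm, Tadd s _ _ (w + _), Tsm s, B]

/-- the vectors whose Siegel maps are induced by the second group -/
def HG : AddSubgroup V where
  carrier := {u | b u (π t) = 0 ∧ ∃ y ∈ Q' ⊓ C[z], ∀ v, ρ y v = T q b (π t) u v}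
  zero_mem' := ⟨n.qs.b0 _, 1, one_mem _, fun v => by rw [n.r1, T0 n.qs]⟩
  add_mem' := fun ⟨a, y, hy, e⟩ ⟨a', y', hy', e'⟩ => ⟨by rw [n.qs.badd, a, a', add_zero], _, mul_mem hy hy', fun v => by
    rw [n.rmul (cy hy) (cy hy'), e, e', TT n.qs a a']⟩
  neg_mem' := fun a => by rwa [n.qs.neg]
theorem Hx : π t ∈ HG n := ⟨n.qs.bs _, 1, one_mem _, fun v => by rw [n.r1, Txx n.qs (n.Eq0 n.Ex)]⟩
theorem Hs (hu : u ∈ HG n) : Sg q b z ρ (π t) u := let ⟨y, a, e⟩ := hu.2; ⟨y, cy a, e⟩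
theorem Hto (S : Sp Q Q' π (π t) e₁ e₂) (hu : b u (π t) = 0) : ∃ e ∈ Et Q Q' π, u + e ∈ HG n := by
  obtain ⟨v, hv⟩ := exv n.qs n.x0
  obtain ⟨y, hy, e⟩ := n.onto (z1.2 hv) hu
  exact ⟨_, e, by rw [add_comm, n.qs.can]; exact ⟨Nx n hy v, y, hy, sie n S hy hv⟩⟩
theorem HE (hu : u ∈ HG n) (he : u ∈ Et Q Q' π) : u = 0 ∨ u = π t := by
  obtain ⟨v, hv⟩ := exv n.qs n.x0
  obtain ⟨a, y, hy, e⟩ := hu
  have k : ρ y v + v = u + (b v u + q u) • π t := by rw [e, T, hv, one_smul, mul_one, add_comm, add_assoc v, n.qs.can']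
  have := n.F1 hy (z1.2 hv) (k ▸ n.Eadd he (Esm n _ n.Ex))
  rw [n.rQ this, n.qs.two, eq_comm, n.qs.eq_iff] at k
  rcases z2 (b v u + q u) with j | j <;> rw [j] at k <;> simp [k]
theorem Hidx (S : Sp Q Q' π (π t) e₁ e₂) : (HG n).index ≤ 8 := by
  obtain ⟨v, hv⟩ := exv n.qs n.x0
  refine (Nat.card_le_card_of_surjective (fun p : ZMod 2 × ZMod 2 × ZMod 2 =>
    ((p.1 • v + p.2.1 • e₁ + p.2.2 • e₂ : V) : V ⧸ HG n)) fun k => ?_).trans (by simp)
  obtain ⟨k, rfl⟩ := QuotientAddGroup.mk_surjective k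
  obtain ⟨e, he, m⟩ := Hto n S (dec n.qs hv k)
  obtain ⟨α, β, γ, rfl⟩ := S e he
  refine ⟨(b k (π t), β, γ), QuotientAddGroup.eq.2 ?_⟩
  have : α • π t ∈ HG n := by rcases z2 α with rfl | rfl <;> simp [Hx n]
  convert add_mem m this using 1
  rw [n.qs.neg, ← n.qs.can (_ + k) (α • π t)]; congr 1; abel

theorem no12 (irr : ∀ S : AddSubgroup V, (∀ c, Commute z c → ∀ v ∈ S, ρ c v ∈ S) → S = ⊥ ∨ S = ⊤)
    (S : Sp Q Q' π (π t) e₁ e₂) {e : V} (he : e ∈ Et Q Q' π) : e = 0 ∨ e = π t := by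
  have s := n.qs
  have i := Hidx n S
  obtain ⟨c, hc, x1⟩ := orb n.toM irr n.x0 n.x0
  have qx := n.Eq0 n.Ex
  have qx' : q (ρ c (π t)) = 0 := by rw [n.rq hc, qx]
  have := s.fin
  have i' : ((HG n).comap (ρ c⁻¹)).index ≤ 8 := (AddSubgroup.index_comap_of_surjective _
    fun v => ⟨_, n.rinv hc v⟩).le.trans i
  have H' : ∀ u ∈ (HG n).comap (ρ c⁻¹), b u (ρ c (π t)) = 0 ∧ Sg q b z ρ (ρ c (π t)) u := fun u hu =>
    ⟨by rw [← n.rinv' hc u, n.rb hc]; exact hu.1, n.rinv' hc u ▸ (Hs n hu).J n.toM hc⟩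
  have sx := fun u => Hs n (u := u)
  have Ex := n.Ex
  have mx := Hx n
  have he' := fun u => HE n (u := u)
  have ot := fun u => Hto n S (u := u)
  have inv := fun k u => n.Einv (k := k) (u := u)
  have hx : ∀ u ∈ HG n, b u (π t) = 0 := fun u hu => hu.1
  have sm : ∀ (a : ZMod 2), ∀ u ∈ HG n, a • u ∈ HG n := fun a u hu => by rcases z2 a with rfl | rfl <;> simp [hu]
  generalize (HG n).comap (ρ c⁻¹) = K, ρ c (π t) = x' at *
  generalize π t = x, HG n = H at *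
  have x2 : b x x' = 1 := s.symm _ _ ▸ x1
  have i0 : (H ⊓ pp s x').index ≤ 16 := AddSubgroup.index_inf_le.trans (Nat.mul_le_mul i (ipp s _))
  obtain ⟨k, k1, k0, k2, k3, j, hj, ej⟩ : ∃ k ∈ H, k ≠ 0 ∧ q k = 0 ∧ b k x' = 0 ∧ Sg q b z ρ x' k := by
    obtain ⟨h, ⟨h1, h2⟩, h0⟩ := exo s (H ⊓ K) [0] (by
      have := (AddSubgroup.index_inf_le (H := H) (K := K)).trans (Nat.mul_le_mul i i'); simp; omega)
    obtain ⟨h3, j', hj', ej'⟩ := H' h h2
    rcases z2 (q h) with q0 | q1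
    · exact ⟨h, h1, by simpa using h0, q0, h3, j', hj', ej'⟩
    obtain ⟨k, ⟨k1, k2⟩, k0, kq⟩ := exs s (H ⊓ pp s x') (by omega)
    obtain ⟨j, hj, ej⟩ := sx h h1
    have m : k + b k h • h ∈ H := add_mem k1 (sm _ _ h1)
    have := (sx _ m).J n.toM ((hj.mul_right hj').mul_right hj)
    refine ⟨k, k1, k0, kq, k2, ?_⟩
    simp only [n.rmul (hj.mul_right hj') hj, n.rmul hj hj', ej, ej'] at this
    have h4 := hx h h1
    have k4 := hx k k1
    have k5 : b k x' = 0 := k2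
    convert this using 1 <;> simp only [T, s.badd, bsm s, s.bs, s.symm x h, s.symm x' h, h3, h4, x1, x2, q1, k4, k5] <;>
      match_scalars <;> grind
  have jx : ρ j x = x + k := by simp [ej, T, x2, s.symm x k, hx k k1, k2]
  have D : ∀ h ∈ H, b h x' = 0 → b h k = 0 → ∀ e ∈ Et Q Q' π,
      b e k • h + (b e h + q h * b e k) • (x + k) = 0 ∨ b e k • h + (b e h + q h * b e k) • (x + k) = x :=
    fun h h1 h2 h3 e he => by
      obtain ⟨l, hl, el⟩ := (sx h h1).J n.toM hj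
      rw [jx, ej h, Tp s h2, h3, zero_smul, add_zero] at el
      have := n.Eadd he (inv l e hl (by simp [el, T, s.badd', s.bs, s.symm x, hx k k1, hx h h1]) he)
      rw [el, T, add_assoc, s.can', s.badd', n.Eb he Ex, zero_add] at this
      exact he' _ (add_mem (sm _ _ h1) (sm _ _ (add_mem mx k1))) this
  have c1 : ∀ e ∈ Et Q Q' π, b e k = 0 := fun e he => by_contra fun m => by
    obtain ⟨h, ⟨⟨h1, h2⟩, h3⟩, h0⟩ := exo s (H ⊓ pp s x' ⊓ pp s k) [0, k, x, x + k] (by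
      have := (AddSubgroup.index_inf_le (K := pp s k)).trans (Nat.mul_le_mul i0 (ipp s _)); simp; omega)
    have := D h h1 h2 h3 e he
    rw [z1.1 m, one_smul] at this
    simp only [List.mem_cons, List.not_mem_nil, or_false, not_or] at h0
    generalize b e h + q h * 1 = a at this
    rcases z2 a with rfl | rfl
    · simp [h0] at this
    · rw [one_smul, s.eq_iff, add_left_comm, add_eq_left, s.eq_iff] at this; tauto
  refine he' e (s.sep H fun w hw => ?_) he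
  obtain ⟨e', he', m⟩ := ot w (hw x mx)
  have A : ∀ h ∈ H, b h x' = 0 → b h k = 0 → b e h = 0 := fun h h1 h2 h3 => by_contra fun m => by
    have := D h h1 h2 h3 e he
    simp only [c1 e he, z1.1 m, zero_smul, mul_zero, add_zero, one_smul, zero_add, add_eq_left, k0, or_false, s.eq_iff] at this
    simp [this, k3] at x2
  have := A (w + e' + b (w + e') x' • x) (add_mem m (sm _ _ mx))
    (dec s x2 _) (by simp [s.badd, bsm s, hw k k1, c1 e' he', s.symm x, hx k k1])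
  simpa [s.badd', bsm' s, n.Eb he he', n.Eb he Ex, s.symm e] using this
end

theorem d12 : D12.{u} := fun {G _ _ Q z g π ρ e} h p => by
  have n := nw h.toM p
  have : #(Q ⊓ cj g Q : Subgroup G) ≤ 16 → #(Q ⊓ cj g Q : Subgroup G) ≤ 4 := fun k => by
    obtain ⟨e₁, e₂, S⟩ := exSp n k
    have := card_le_mul (A := Q ⊓ cj g Q) (B := zpowers z) π (S := {0, π (g * z * g⁻¹)}) (Set.toFinite _)
      (fun x hx => no12 n h.irr S ⟨x, hx, rfl⟩) fun x hx y hy e => h.le.es.mem_zp.2 ((h.ker _ (mul_mem (inv_mem hx.1) hy.1)).1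
        (by rw [h.add _ (inv_mem hx.1) _ hy.1, h.pinv hx.1, e, h.qs.two]))
    rw [h.le.es.card_zp, Set.ncard_pair n.x0.symm] at this
    exact this
  omega

end H20.X9
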