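import Cfsg.Agent.H20.QF4

/-!
# Fusion systems with a tightly embedded quaternion subgroup, V: uniqueness in the `G₂` case
-/

set_option autoImplicit false
set_option linter.unusedSectionVars false

namespace H20.QF

open Subgroup H25 H25.FS H10
open scoped commutatorElement

variable {Γ : Type*} [Group Γ] {F F' E : FS Γ} {A B R P Q K S U : Subgroup Γ} {n : ℕ}
  {a b c d e f g j r s t u w z θ ρ ρ' : Γ} {i k l m : ℤ}

theorem Qt.of_rel (h3 : 3 ≤ n) (ho : orderOf a = 2 ^ n) (ba : b * a * b⁻¹ = a⁻¹)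
    (bb : b * b = mcZ a n) : Qt (zpowers a ⊔ zpowers b) n a b :=
  let ⟨h1, h2⟩ := H4.mc_of_rel (e := -1) (w := b) (by omega) ho (by decide)
    (by rw [sq, bb]; exact zpow_mem_zpowers _ _) (by simpa using ba)
  ⟨h1, h3, mem_sup_right (mem_zpowers b), h2, by rw [sq, bb]⟩

/-- generator of the second cyclic group -/
def eE (a c : Γ) : Γ := a ^ (1 : ℤ) * c ^ (2 : ℤ)

/-- the quaternion subgroups of order eight -/
abbrev Q0 (a b : Γ) (n : ℕ) (m : ℤ) : Subgroup Γ := mcSub a (a ^ m * b) (n - 2)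

theorem eE_zpow (ac : a * c = c * a) (k : ℤ) : eE a c ^ k = a ^ k * c ^ (2 * k) := by
  rw [eE, Commute.mul_zpow (Commute.zpow_zpow ac 1 2), ← zpow_mul, ← zpow_mul, one_mul]

theorem j_u (h1 : j * a * j⁻¹ = a⁻¹) (h2 : j * c * j⁻¹ = c⁻¹) (k l : ℤ) :
    j * (a ^ k * c ^ l) * j⁻¹ = a ^ (-k) * c ^ (-l) := by
  rw [← conj_mul, ← conj_zpow, ← conj_zpow, h1, h2, inv_zpow', inv_zpow']

theorem Qt.Q0_le (q : Qt R n a b) (m : ℤ) : Q0 a b n m ≤ R :=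
  q.mc.sub_le (mul_mem (q.mc.zpow_mem m) q.bR) _

namespace Co
variable (h : Co S n a b c j)
include h

theorem orda : orderOf a = 2 ^ n := by
  have := h.three
  have key : ∀ m : ℕ, a ^ 2 ^ m = 1 ↔ (2 : ℤ) ^ n ∣ 2 ^ m := fun m => by
    simpa [← zpow_natCast] using h.ind (2 ^ m) 0
  obtain ⟨p, rfl⟩ := Nat.exists_eq_add_of_le' (show 1 ≤ n by omega)
  exact orderOf_eq_prime_pow ((key p).not.2 fun e => by
    have := Int.le_of_dvd (by positivity) e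
    have h0 : (0 : ℤ) < 2 ^ p := by positivity
    rw [pow_succ] at this; omega) ((key _).2 dvd_rfl)

theorem qt : Qt (zpowers a ⊔ zpowers b) n a b := .of_rel h.three h.orda h.ba h.bb

theorem act : Act a b c 1 (-1) := .of_comm h.ac.symm (by
  have e : a * (c * b * c⁻¹) = b := by
    rw [← mul_assoc, ← mul_assoc, h.ac, ← h.bc]
    group
  rw [zpow_neg_one, eq_inv_mul_iff_mul_eq, e])

theorem actj : Act a b j (-1) 0 := ⟨by simpa using h.ja, by rw [h.jb]; simp⟩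

theorem act_u (k l : ℤ) : Act a b (a ^ k * c ^ l) 1 (2 * k - l) := by
  convert (h.qt.acta k).mul (h.act.zpow_one l) using 1 <;> ring

theorem jjb : j * (j * b) = b := by rw [← mul_assoc, h.jj, one_mul]

theorem eE_eE : eE (eE a c) c⁻¹ = a := by simp [eE]

theorem mcZ_e : mcZ (eE a c) n = mcZ a n := by
  rw [mcZ, eE_zpow h.ac, ← h.qt.mc.pow_n, show c ^ (2 : ℤ) ^ n = 1 by
    simpa using (h.ind 0 (2 ^ n)).2 ⟨dvd_zero _, dvd_rfl⟩, mul_one, mcZ]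

theorem symm : Co S n (eE a c) (j * b) c⁻¹ j := by
  have eu : ∀ k l : ℤ, eE a c ^ k * c⁻¹ ^ l = a ^ k * c ^ (2 * k - l) := fun k l => by
    rw [eE_zpow h.ac]; group
  have jc' : j * c⁻¹ * j⁻¹ = c := by rw [← conj_inv, h.jc, inv_inv]
  refine ⟨h.three, mul_mem (zpow_mem h.aS _) (zpow_mem h.cS _), mul_mem h.jS h.bS, inv_mem h.cS, h.jS,
    fun k l => ?_, ?_, ?_, ?_, ?_, ?_, by rw [jc', inv_inv], h.jj, by rw [mul_assoc, h.jb],
    fun s hs => ?_⟩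
  · rw [eu, h.ind]
    exact and_congr_right fun e => ⟨fun e' => dv (dvd_sub (e.mul_left 2) e') (by ring),
      fun e' => dvd_sub (e.mul_left 2) e'⟩
  · have := u_mul h.ac 0 (-1) 1 2
    rw [eE, ← zpow_neg_one, mul_assoc, ← zpow_add, ← one_mul (c ^ (-1 : ℤ)), ← zpow_zero a, this]
    simp
  · calc _ = j * (b * eE a c * b⁻¹) * j⁻¹ := by group
      _ = _ := by rw [eE, w_u h.ac h.ba h.bc, j_u h.ja h.jc, u_inv h.ac]; simp
  · calc _ = (j * (b * c * b⁻¹) * j⁻¹)⁻¹ := by group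
      _ = _ := by rw [h.bc, ← conj_mul, h.ja, h.jc, eE, zpow_one, zpow_two, ← mul_assoc a, h.ac]; group
  · rw [h.mcZ_e, ← h.bb, mul_assoc, ← mul_assoc b, ← h.jb, ← mul_assoc, h.jjb]
  · rw [eE, j_u h.ja h.jc, u_inv h.ac]
  · obtain ⟨k, l, e⟩ := h.cases s hs
    refine ⟨k, 2 * k - l, ?_⟩
    rw [eu, sub_sub_cancel, mul_assoc _ j (j * b), h.jjb, ← mul_assoc]
    tauto

theorem le_cz : zpowers (eE a c) ⊔ zpowers (j * b) ≤ cz (zpowers a ⊔ zpowers b) :=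
  sup_le (zpowers_le.2 (h.qt.cz_of_act (h.act_u 1 2) (by simp) (by simp)))
    (zpowers_le.2 (h.qt.cz_of_act (h.actj.mul h.qt.actb) (by simp) (by simp)))

theorem acts (hs : s ∈ S) : ∃ k l : ℤ, (Act a b s 1 (2 * k - l) ∨ Act a b s (-1) (2 * k - l)) ∧
    (2 ∣ l → s ∈ zpowers a ⊔ zpowers b ⊔ (zpowers (eE a c) ⊔ zpowers (j * b))) := by
  obtain ⟨k, l, e⟩ := h.cases s hs
  have A := h.act_u k l
  refine ⟨k, l, ?_, ?_⟩
  · rcases e with rfl | rfl | rfl | rfl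
    · exact .inl A
    · exact .inr (by simpa using A.mul h.actj)
    · exact .inr (by simpa using A.mul h.qt.actb)
    · exact .inl (by simpa using (A.mul h.actj).mul h.qt.actb)
  · rintro ⟨p, rfl⟩
    set X := zpowers a ⊔ zpowers b ⊔ (zpowers (eE a c) ⊔ zpowers (j * b))
    have a1 : b ∈ X := mem_sup_left (mem_sup_right (mem_zpowers _))
    have a2 : j ∈ X := by
      simpa using mul_mem (mem_sup_right (mem_sup_right (mem_zpowers _)) : j * b ∈ X) (inv_mem a1)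
    have a3 : a ^ k * c ^ (2 * p) ∈ X := by
      have := mul_mem (mem_sup_left (mem_sup_left (zpow_mem_zpowers a (k - p))) : _ ∈ X)
        (mem_sup_right (mem_sup_left (zpow_mem_zpowers (eE a c) p)))
      rwa [eE_zpow h.ac, ← mul_assoc, ← zpow_add, sub_add_cancel] at this
    rcases e with rfl | rfl | rfl | rfl
    exacts [a3, mul_mem a3 a2, mul_mem a3 a1, mul_mem (mul_mem a3 a2) a1]

theorem nrm [Finite Γ] : S ≤ nz (zpowers a ⊔ zpowers b) := fun s hs => by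
  obtain ⟨k, l, A, -⟩ := h.acts hs
  refine mem_nz_of_le ?_
  rw [cj_sup, cj_zpowers, cj_zpowers]
  rcases A with A | A <;> rw [A.1, A.2] <;>
  exact sup_le (zpowers_le.2 (h.qt.mc.zpow_mem _))
    (zpowers_le.2 (mul_mem (h.qt.mc.zpow_mem _) h.qt.bR))

theorem nz_sub (hs : s ∈ S) (hn : s ∈ nz (Q0 a b n m)) :
    s ∈ zpowers a ⊔ zpowers b ⊔ (zpowers (eE a c) ⊔ zpowers (j * b)) := by
  obtain ⟨k, l, A, B⟩ := h.acts hs
  have q := h.qt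
  have a1 := conj_mem_of_mem_nz hn (MC.out_mem_sub (n - 2))
  have key : ∀ x : ℤ, a ^ x * b ∈ Q0 a b n m → 2 ∣ x - m := fun x e => by
    have := (q.mc.zpow_mul_mem_sub_iff (mul_mem (q.mc.zpow_mem m) q.bR) (MC.mul_out q.bout m)
      (d := n - 2) (i := x - m) (by omega)).1 (by rwa [← mul_assoc, ← zpow_add, sub_add_cancel])
    exact (Dvd.intro _ q.e1.symm).trans this
  refine B ?_
  rcases A with A | A <;> rw [A.zb] at a1 <;> have := key _ a1 <;> omega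

theorem cz_sub (hs : s ∈ S) (hn : s ∈ cz (Q0 a b n m)) :
    s ∈ zpowers (eE a c) ⊔ zpowers (j * b) := by
  have q := h.qt
  obtain ⟨r, hr, f, hf, rfl⟩ := (mem_sup_of_le_nz_left (h.le_cz.trans (cz_le_nz _))).1
    (h.nz_sub hs (cz_le_nz _ hn))
  have a1 := (Subgroup.mul_mem_cancel_right _ (cz_anti (q.Q0_le m) (h.le_cz hf))).1 hn
  have a2 := (q.mc.inf_centralizer_sub (mul_mem (q.mc.zpow_mem m) q.bR) (MC.mul_out q.bout m)
    le_rfl).le ⟨hr, a1⟩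
  rw [← h.mcZ_e] at a2
  exact mul_mem (zpowers_le.2 h.symm.qt.zR a2) hf

theorem inf_le_z : (zpowers a ⊔ zpowers b) ⊓ (zpowers (eE a c) ⊔ zpowers (j * b)) ≤
    zpowers (mcZ a n) := fun _ hx => h.qt.mc.inf_centralizer.le ⟨hx.1, h.le_cz hx.2⟩

theorem t_ne : mcZ c n ≠ mcZ a n := fun e => by
  have := ((h.ind (2 ^ (n - 1)) (-2 ^ (n - 1))).1 (by
    rw [zpow_neg, mul_inv_eq_one]; exact e.symm)).1
  have h0 : (0 : ℤ) < 2 ^ (n - 3) := by positivity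
  rw [h.qt.e2] at this
  exact h.qt.not_dvd (by omega) (by omega) this

theorem u_ne (k l : ℤ) : a ^ k * c ^ l * j ≠ 1 ∧ a ^ k * c ^ l * b ≠ 1 ∧ a ^ k * c ^ l * j * b ≠ 1 := by
  have q := h.qt
  refine ⟨fun e => ?_, fun e => ?_, fun e => ?_⟩
  · exact q.not_dvd_odd (x := -1) (by decide) (dv (q.dvd_of_cz ((h.act_u k l).mul h.actj)
      (e ▸ one_mem _)).1 (by ring))
  · exact q.not_dvd_odd (x := -1) (by decide) (dv (q.dvd_of_cz ((h.act_u k l).mul q.actb)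
      (e ▸ one_mem _)).1 (by ring))
  · have q' := h.symm.qt
    have := (h.symm.act_u k (2 * k - l)).mul q'.actb
    rw [eE_zpow h.ac, inv_zpow', mul_assoc (a ^ k), ← zpow_add, ← mul_assoc,
      show 2 * k + -(2 * k - l) = l by ring, e] at this
    exact q'.not_dvd_odd (x := -1) (by decide) (dv (q'.dvd_of_cz this (one_mem _)).1 (by ring))

end Co

/-- an automorphism of odd order of `Q₈ ∘ B` -/
def M1 (F : FS Γ) (a b : Γ) (n : ℕ) (B : Subgroup Γ) : Prop := ∃ m θ, θ ∈ F.A (Q0 a b n m ⊔ B) ∧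
  (orderOf θ).Coprime 2 ∧ θ ∈ cz B ∧ θ ∈ nz (Q0 a b n m) ∧ θ ∉ cz (Q0 a b n m)

theorem M1.same [Finite Γ] (h : M1 F a b n B) (hF : IsPGroup 2 F.S) (q : Qt R n a b) (hR : R ≤ F.S)
    (hB : B ≤ F.S) (hc : c ∈ F.S) (A : Act a b c 1 (-1)) (cB : c ∈ nz B) (RB : R ≤ cz B)
    (h1 : (orderOf θ).Coprime 2) (h2 : θ ∈ cz B) (h3 : θ ∈ nz (Q0 a b n m)) :
    θ ∈ F.A (Q0 a b n m ⊔ B) := by
  obtain ⟨p, φ, a1, a2, a3, a4, a5⟩ := h
  have hQ : ∀ m, Q0 a b n m ⊔ B ≤ F.S := fun m => sup_le ((q.Q0_le m).trans hR) hB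
  have e1 : cj (c ^ (p - m)) (Q0 a b n p) = Q0 a b n m := by
    rw [Q0, mcSub, cj_sup, cj_zpowers, cj_zpowers, (A.zpow_one _).za, (A.zpow_one _).zb, Q0, mcSub]
    congr 4 <;> ring
  have e2 := mem_nz.1 (zpow_mem cB (p - m))
  replace a1 := (F.of_mem (hQ p) (zpow_mem hc (p - m))).cj_A.le (conj_mem_cj _ a1)
  rw [← H25.orderOf_conj' (c ^ (p - m))] at a2
  rw [← conj_mem_cj_iff (g := c ^ (p - m))] at a3 a4 a5
  rw [cj_sup, e1, e2] at a1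
  rw [cj_cz, e2] at a3
  rw [cj_nz, e1] at a4
  rw [cj_cz, e1] at a5
  generalize c ^ (p - m) * φ * (c ^ (p - m))⁻¹ = φ at a1 a2 a3 a4 a5
  have hn : nz (Q0 a b n m) ⊓ cz B ≤ nz (Q0 a b n m ⊔ B) := fun g hg =>
    mem_nz_sup hg.1 (cz_le_nz _ hg.2)
  obtain ⟨k, hk, i, rfl⟩ := H4.exists_of_six (hn.trans (nz_le_nz_ai_self _))
    (q8_relIndex_dvd_of_le (q.sub_q8 m).some inf_le_left fun g hg => by
      obtain ⟨-, x, hx, e⟩ := sup_le (le_ai_self _) (cz_le_ai _ _) hg.2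
      exact ⟨hn hg.1, x, mem_sup_left hx, agree_sup.2 ⟨e, (agree_one_iff.2 hg.1.2).trans
        (agree_one_iff.2 (RB (q.Q0_le m hx))).symm⟩⟩) ⟨h3, h2⟩ ⟨a4, a3⟩ h1 a2
    fun e => a5 (cz_anti le_sup_left (PEl.mem_of_coprime (pel_ai (hF.to_le (hQ m)) _ e) a2))
  exact mul_mem (ai_self_le_A (hQ m) hk) (zpow_mem a1 i)

theorem stab_sup (h1 : θ ∈ nz A) (h2 : θ ∈ cz B) (h3 : B ≤ cz A) (h4 : A ≤ K) :
    θ ∈ stab (A ⊔ B) K := ⟨mem_nz_sup h1 (cz_le_nz _ h2), fun x hx => by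
  obtain ⟨p, hp, q, hq, rfl⟩ := (mem_sup_of_le_nz_left (h3.trans (cz_le_nz _))).1 hx
  have a1 := mul_mem (inv_mem hp) (conj_mem_of_mem_nz h1 hp)
  have a2 := mem_cz.1 (inv_mem (h3 hq)) _ a1
  rw [← conj_mul, mem_cz.1 h2 q hq]
  convert h4 a1 using 1
  rw [← a2]; group⟩

theorem le_step [Finite Γ] (hE : E.Sat 2) (hc : E.Centric Q) (hr : E.Rad 2 Q) (hU : U ≤ E.S)
    (hn : E.S ≤ nz U) (h1 : E.A Q ≤ nz (Q ⊓ U))
    (h2 : ∀ g ∈ nz (Q ⊓ U), (orderOf g).Coprime 2 → g ∈ cz (Q ⊓ U)) : U ≤ Q :=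
  hE.le_of_cr_step (sc_S E) hc hr hU (hc.le.trans hn) (n := 0) (fun _ => U)
    (fun _ ha => H4.pel_of_coprime (h1 ha) h2) (fun _ _ => h1) (fun _ h => absurd h (by omega))
    (commutator_le_iff'.2 fun x hx v hv => by
      rw [mul_assoc, mul_assoc, ← mul_assoc v]
      exact mul_mem hx (conj_mem_of_mem_nz (hn hv.2) (inv_mem hx)))

theorem not_ess [Finite Γ] (hE : E.Sat 2) (hQ : E.Ess Q) (hA : A ≤ E.S) (hB : B ≤ E.S)
    (nA : E.S ≤ nz A) (nB : E.S ≤ nz B) (h1 : E.A Q ≤ nz (Q ⊓ A)) (h2 : E.A Q ≤ nz (Q ⊓ B))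
    (h3 : E.A Q ≤ cz (A ⊓ B)) : A ≤ Q ∨ B ≤ Q := by
  by_contra! h
  obtain ⟨x, x1, x2, x3⟩ := exists_mem_nz_of_not_le hE.pg hQ.le hA (hQ.le.trans nA) h.1
  obtain ⟨v, v1, v2, v3⟩ := exists_mem_nz_of_not_le hE.pg hQ.le hB (hQ.le.trans nB) h.2
  have xA := E.N_le_A Q ⟨hA x1, x2⟩
  have vA := E.N_le_A Q ⟨hB v1, v2⟩
  have xS := mem_ai_of_mem (hA x1) x2
  have vS := mem_ai_of_mem (hB v1) v2
  have x4 : x ∉ ai Q Q := fun e => x3 (hQ.centric.mem_of_mem_ai (hA x1) e)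
  have v4 : v ∉ ai Q Q := fun e => v3 (hQ.centric.mem_of_mem_ai (hB v1) e)
  have sA : E.A Q ≤ nz (stab Q A) := fun g hg => mem_nz_stab (E.A_le_nz Q hg) (h1 hg)
  have sB : E.A Q ≤ nz (stab Q B) := fun g hg => mem_nz_stab (E.A_le_nz Q hg) (h2 hg)
  have x5 := inf_nz_le_stab (hQ.le.trans nA) ⟨x1, x2⟩
  have v5 := inf_nz_le_stab (hQ.le.trans nB) ⟨v1, v2⟩
  refine hQ.not_le fun θ hθ => ?_
  have w1 : θ * v * θ⁻¹ ∈ E.A Q := mul_mem (mul_mem hθ vA) (inv_mem hθ)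
  have w2 := conj_mem_of_mem_nz (sB hθ) v5
  have w3 : PEl 2 (cz Q) (θ * v * θ⁻¹) := by
    have := (pel_ai hE.pg v vS).conj θ
    rwa [mem_nz.1 (mem_nz_cz (E.A_le_nz Q hθ))] at this
  have w4 : θ * v * θ⁻¹ ∈ E.Hx Q := by
    generalize θ * v * θ⁻¹ = w at w1 w2
    have k1 : w * x * w⁻¹ * x⁻¹ ∈ stab Q A := mul_mem (conj_mem_of_mem_nz (sA w1) x5) (inv_mem x5)
    have k2 : w * x * w⁻¹ * x⁻¹ ∈ stab Q B := by
      rw [mul_assoc, mul_assoc, ← mul_assoc x]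
      exact mul_mem w2 (conj_mem_of_mem_nz (sB xA) (inv_mem w2))
    have k3 := (hE.ess_rad hQ).2 (mem_OA_of_chain' (hE.pg' hQ.le) (n := 1)
      (fun i => if i = 0 then A ⊓ B else ⊤)
      (fun g hg => .of_mem (cz_anti inf_le_right (h3 hg))) le_top (fun i _ g hg => by
        split_ifs
        · exact mem_nz_inf (E.A_le_nz Q hg) (cz_le_nz _ (h3 hg))
        · simpa using E.A_le_nz Q hg)
      (mul_mem (mul_mem (mul_mem w1 xA) (inv_mem w1)) (inv_mem xA)) fun i hi y hy => by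
        obtain rfl : i = 0 := by omega
        exact ⟨(mem_stab'.1 k1).2 y hy.1, (mem_stab'.1 k2).2 y hy.1⟩)
    exact hE.mem_Hx_of_ai hQ.fn w1 xS x4 (by simpa using mul_mem (ai_mono hQ.le Q k3) xS)
  obtain ⟨g, g1, g2⟩ := ((hE.syl hQ.fn).mono_right (ai_le_Hx hQ.lt) (E.Hx_le_A Q)).exists_cj_le_of_pel
    (cz_le_ai _ _) ((E.Hx_le_A Q).trans (E.A_le_nz_cz Q)) w3.zpowers (zpowers_le.2 w4)
  refine (Subgroup.mul_mem_cancel_left _ g1).1 (hE.mem_Hx_of_ai hQ.fn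
    (mul_mem (E.Hx_le_A Q g1) hθ) vS v4 ?_)
  convert g2 (conj_mem_cj g (mem_zpowers _)) using 1; group

namespace Hy
variable [Finite Γ] (y : Hy F R n a b) (h : Co F.S n a b c j)
include y h

theorem ess_cases (hQ : Q = (F.CF (zpowers (mcZ a n))).S ∨ (F.CF (zpowers (mcZ a n))).Ess Q)
    (hθ : θ ∈ (F.CF (zpowers (mcZ a n))).A Q) (ho : (orderOf θ).Coprime 2) (h0 : θ ∉ cz Q) :
    (∃ m, Q = Q0 a b n m ⊔ (zpowers (eE a c) ⊔ zpowers (j * b)) ∧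
      θ ∈ cz (zpowers (eE a c) ⊔ zpowers (j * b)) ∧ θ ∈ nz (Q0 a b n m) ∧ θ ∉ cz (Q0 a b n m)) ∨
    ∃ m, Q = Q0 (eE a c) (j * b) n m ⊔ R ∧ θ ∈ cz R ∧ θ ∈ nz (Q0 (eE a c) (j * b) n m) ∧
      θ ∉ cz (Q0 (eE a c) (j * b) n m) := by
  have q' := h.symm.qt
  have a1 := h.le_cz
  have a2 := h.symm.nrm
  have a3 := fun s m => h.nz_sub (s := s) (m := m)
  have a4 := fun s m => h.symm.nz_sub (s := s) (m := m)
  have a5 := fun s m => h.cz_sub (s := s) (m := m)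
  have a6 := h.inf_le_z
  have a7 : zpowers (eE a c) ⊔ zpowers (j * b) ≤ F.S :=
    sup_le (zpowers_le.2 h.symm.aS) (zpowers_le.2 h.symm.bS)
  rw [h.eE_eE, h.jjb] at a4
  rw [y.eq_sup] at a1 a3 a4 a6
  generalize zpowers (eE a c) ⊔ zpowers (j * b) = B at *
  have hE := y.E_sat
  have ES := y.E_S
  obtain ⟨-, hc, hr⟩ := hE.cr_of_ess hQ
  have QS : Q ≤ F.S := ES ▸ hc.le
  have nR : ∀ g ∈ (F.CF (zpowers (mcZ a n))).A Q, g ∈ nz (Q ⊓ R) := fun g => y.E_sc.mem_nz_inf hc.le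
  have θQ := A_le_nz _ _ hθ
  by_cases h8 : ∃ m, Q ⊓ R = Q0 a b n m
  · obtain ⟨m, e⟩ := h8
    have e' : Q ⊓ B = Q ⊓ cz (Q ⊓ R) := le_antisymm (inf_le_inf_left _ (a1.trans
      (cz_anti inf_le_right))) fun x hx => ⟨hx.1, a5 x m (QS hx.1) (e ▸ hx.2)⟩
    have nB : ∀ g ∈ (F.CF (zpowers (mcZ a n))).A Q, g ∈ nz (Q ⊓ B) := fun g hg =>
      e' ▸ mem_nz_inf (A_le_nz _ _ hg) (mem_nz_cz (nR g hg))
    have RQ : ¬ R ≤ Q := fun e1 => y.a_not_mem_sub m (e.le ⟨e1 y.aR, y.aR⟩)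
    have BQ : B ≤ Q := by
      refine (not_ess hE (hQ.resolve_left fun e1 => RQ (e1 ▸ ES ▸ y.le)) (ES ▸ y.le) (ES ▸ a7)
        (ES ▸ y.nrm) (ES ▸ a2) nR nB fun g hg => cz_anti a6 ?_).resolve_left RQ
      rw [NK_A_of_le (hc.C_le.trans' (le_inf (ES ▸ zpowers_le.2 y.zS) (le_cz_comm.1 fun x hx =>
        mem_cz_zpowers.2 (y.zc (QS hx))))) le_rfl hc.le] at hg
      exact hg.2
    have b1 : θ ∈ cz B := q'.odd_cz (inf_eq_right.2 BQ ▸ nB θ hθ) ho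
    have b2 : Q = Q0 a b n m ⊔ B := by
      rw [← e, sup_comm, ← inf_sup_of_le_nz BQ (a7.trans y.nrm), sup_comm]
      exact (inf_eq_left.2 fun x hx => a3 x m (QS hx) (e ▸ mem_nz_inf (le_nz_self Q hx)
        (y.nrm (QS hx)))).symm
    exact .inl ⟨m, b2, b1, e ▸ nR θ hθ, fun e1 => h0 (by rw [b2, cz_sup]; exact ⟨e1, b1⟩)⟩
  have RQ : R ≤ Q := le_step hE hc hr (ES ▸ y.le) (ES ▸ y.nrm) nR fun g hg ho =>
    (y.odd_sub inf_le_right hg ho).resolve_right h8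
  have b1 : θ ∈ cz R := y.odd_cz (inf_eq_right.2 RQ ▸ nR θ hθ) ho
  have e' : Q ⊓ B = Q ⊓ cz R := le_antisymm (inf_le_inf_left _ a1) fun x hx =>
    ⟨hx.1, a5 x 0 (QS hx.1) (cz_anti (y.Q0_le 0) hx.2)⟩
  have nB : θ ∈ nz (Q ⊓ B) := e' ▸ mem_nz_inf θQ (mem_nz_cz (cz_le_nz _ b1))
  obtain ⟨m, e⟩ := (q'.odd_sub inf_le_right nB ho).resolve_left fun e => h0 (PEl.mem_of_coprime
    (pel_cz_step (y.sat.pg' (inf_le_left.trans QS)) nB (fun x hx => e'.ge <| mem_inf.2 ⟨mul_mem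
      (conj_mem_of_mem_nz θQ hx) (inv_mem hx), by
        rw [mul_assoc, mul_assoc, ← mul_assoc x]
        exact mul_mem b1 (conj_mem_of_mem_nz (mem_nz_cz (y.nrm (QS hx))) (inv_mem b1))⟩)
      (.of_mem e)) ho)
  have b2 : Q = Q0 (eE a c) (j * b) n m ⊔ R := by
    rw [Q0, ← e, sup_comm, ← inf_sup_of_le_nz RQ (y.le.trans a2), sup_comm]
    exact (inf_eq_left.2 fun x hx => a4 x m (QS hx) (by
      rw [Q0, ← e]; exact mem_nz_inf (le_nz_self Q hx) (a2 (QS hx)))).symm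
  exact .inr ⟨m, b2, b1, by rw [Q0, ← e]; exact nB,
    fun e1 => h0 (by rw [b2, cz_sup]; exact ⟨e1, b1⟩)⟩

theorem jD : j ∈ Dt F (mcZ c n) := mem_Dt.2 ⟨h.jS, by
  rw [← conj_Z, h.jc, mcZ, mcZ, inv_zpow, inv_eq_iff_mul_eq_one, ← zpow_add, ← two_mul, ← y.mc.pow_n]
  simpa using (h.ind 0 (2 ^ n)).2 ⟨dvd_zero _, dvd_rfl⟩⟩

theorem uD (k l : ℤ) : a ^ k * c ^ l ∈ Dt F (mcZ c n) :=
  mul_mem (zpow_mem (mem_Dt'.2 ⟨h.aS, (Commute.zpow_right h.ac _).eq⟩) _)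
    (zpow_mem (mem_Dt'.2 ⟨h.cS, (Commute.zpow_right rfl _).eq⟩) _)

theorem D_cases (hd : d ∈ Dt F (mcZ c n)) : ∃ k l : ℤ, d = a ^ k * c ^ l ∨ d = a ^ k * c ^ l * j := by
  have hb : b ∉ Dt F (mcZ c n) := fun e => y.z1 (by
    simpa using (y.bt h.act h.cS).symm.trans (mem_Dt.1 e).2)
  obtain ⟨k, l, e | e | rfl | rfl⟩ := h.cases d hd.1
  · exact ⟨k, l, .inl e⟩
  · exact ⟨k, l, .inr e⟩
  · exact absurd ((Subgroup.mul_mem_cancel_left _ (y.uD h k l)).1 hd) hb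
  · exact absurd ((Subgroup.mul_mem_cancel_left _ (mul_mem (y.uD h k l) (y.jD h))).1 hd) hb

theorem pre (r1 : ρ * a * ρ⁻¹ = c) (r2 : ρ * c * ρ⁻¹ = (c * a)⁻¹) (r3 : ρ * j * ρ⁻¹ = j)
    (hT : ∀ P, P ≤ F.S → cj ρ P ≤ F.S → F.T P ρ) : Pre F R n a b c ρ := by
  have ru := rho_u h.ac r1 r2
  have nD : ρ ∈ nz (Dt F (mcZ c n)) := mem_nz_of_conj_mem fun d hd => by
    obtain ⟨k, l, rfl | rfl⟩ := y.D_cases h hd
    · rw [ru]; exact y.uD h _ _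
    · rw [← conj_mul, ru, r3]; exact mul_mem (y.uD h _ _) (y.jD h)
  have T := hT _ (Dt_le _ _) ((mem_nz.1 nD).le.trans (Dt_le _ _))
  have rz : ρ * mcZ a n * ρ⁻¹ = mcZ c n := by rw [← conj_Z, r1]
  have fx : ∀ k l : ℤ, ρ * (a ^ k * c ^ l) * ρ⁻¹ = a ^ k * c ^ l → a ^ k * c ^ l = 1 := fun k l e => by
    rw [ru, ← mul_inv_eq_one, u_inv h.ac, u_mul h.ac, h.ind] at e
    have : (2 : ℤ) ^ n ∣ l := (two_pow_dvd_odd_mul_iff (a := -3) (by decide)).1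
      (dv (dvd_add e.1 e.2) (by ring))
    exact (h.ind k l).2 ⟨dv (dvd_add e.1 this).neg_right (by ring), this⟩
  have fx' : ∀ e ∈ Dt F (mcZ c n), ρ * e * ρ⁻¹ = e → e = 1 ∨ e = j := fun e he e1 => by
    obtain ⟨k, l, rfl | rfl⟩ := y.D_cases h he
    · exact .inl (fx k l e1)
    · rw [← conj_mul, r3, mul_left_inj] at e1
      exact .inr (by rw [fx k l e1, one_mul])
  refine ⟨y, rz ▸ y.Zz.conj T (rz ▸ y.zD (rz ▸ zpow_mem h.cS _)), h.t_ne, h.act, h.cS, T, nD, r1, r2,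
    rz, fun d hd => ?_, fun d hd => ?_, fun e he e1 => ?_, fun e he e1 e2 => ?_⟩
  · obtain ⟨k, l, rfl | rfl⟩ := y.D_cases h hd
    · rw [ru]; exact mul_mem (inv_mem (u_mem _ _ _ _)) (u_mem _ _ _ _)
    · have : (a ^ k * c ^ l * j)⁻¹ * (ρ * (a ^ k * c ^ l * j) * ρ⁻¹) =
          j * ((a ^ k * c ^ l)⁻¹ * (ρ * (a ^ k * c ^ l) * ρ⁻¹)) * j⁻¹ := by
        rw [← conj_mul (b := ρ), r3, mul_inv_rev, inv_eq_of_mul_eq_one_right h.jj]; group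
      rw [this, ru, u_inv h.ac, u_mul h.ac, j_u h.ja h.jc]
      exact u_mem _ _ _ _
  · obtain ⟨k, l, rfl | rfl⟩ := y.D_cases h hd
    · exact ⟨k, l, 1, one_mem _, by simp, by simp⟩
    · exact ⟨k, l, j, y.jD h, r3, rfl⟩
  · rcases fx' e he e1 with rfl | rfl
    exacts [by simp, h.jb.symm]
  · exact (fx' e he e1).resolve_right fun e3 => y.not_dvd_odd (x := -1) (by decide)
      (dv (y.dvd_of_cz h.actj (e3 ▸ e2)).1 (by ring))

end Hy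

namespace Pre
variable [Finite Γ] (y : Pre F R n a b c ρ) (h : Co F.S n a b c j)
include y h

omit h in
theorem not_le (hw : w ∈ F.S) (h0 : w ∉ cz (zpowers u)) (h1 : F.S ≤ nz (zpowers u))
    (h2 : a ∈ cz (zpowers u)) (h3 : c ∈ cz (zpowers u))
    (h4 : ∀ Q, Q = (F.CF (zpowers (mcZ a n))).S ∨ (F.CF (zpowers (mcZ a n))).Ess Q →
      ∀ θ ∈ (F.CF (zpowers (mcZ a n))).A Q, (orderOf θ).Coprime 2 → θ ∉ cz Q →
        θ ∈ stab Q (cz (zpowers u))) : False := by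
  have a1 : ⁅F.S, F.S⁆ ≤ cz (zpowers u) := commutator_le_iff'.2 fun x hx v hv =>
    comm_mem_cz_of_cyclic (h1 hv) (h1 hx)
  refine h0 (y.S_le a1 (H4.foc_le_of_mv y.E_sat (y.E_S ▸ a1) fun Q hQ _ θ hθ ho => ?_) y.o.T
    (fun d hd => sup_le (zpowers_le.2 h2) (zpowers_le.2 h3) (y.o.st d hd))
    (fun E h1 h2 => y.gen h1 h2) hw)
  by_cases e : θ ∈ cz Q
  exacts [cz_le_stab _ _ e, h4 Q hQ θ hθ ho e]

omit h in
theorem A_le (hQ : Q = (F.CF (zpowers (mcZ a n))).S ∨ (F.CF (zpowers (mcZ a n))).Ess Q) :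
    (F.CF (zpowers (mcZ a n))).A Q ≤ F.A Q := A_mono (NK_le _ _ _) (y.E_sat.cr_of_ess hQ).1.le

theorem m1 : M1 F a b n (zpowers (eE a c) ⊔ zpowers (j * b)) := by
  by_contra h0
  have a1 := h.le_cz.trans (cz_anti le_sup_left)
  refine y.not_le (u := a) y.bS (fun e => y.a2 ?_) (fun s hs => mem_nz_of_le (by
    rw [cj_zpowers]; exact zpowers_le.2 (y.conj_mem (y.nrm hs)))) (mem_cz_zpowers.2 (by group))
    (mem_cz_zpowers.2 (by simpa using y.ca.1)) fun Q hQ θ hθ ho e => ?_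
  · rw [mem_cz_zpowers, y.bab, inv_eq_iff_mul_eq_one] at e
    rw [sq, e]
  rcases y.ess_cases h hQ hθ ho e with ⟨m, rfl, b1, b2, b3⟩ | ⟨m, rfl, b1, b2, -⟩
  · exact absurd ⟨m, θ, y.A_le hQ hθ, ho, b1, b2, b3⟩ h0
  · exact stab_sup b2 b1 (le_cz_comm.1 ((h.symm.qt.Q0_le m).trans (y.eq_sup ▸ h.le_cz)))
      ((h.symm.qt.Q0_le m).trans a1)

theorem m2 : M1 F (eE a c) (j * b) n R := by
  by_contra h0
  have q := h.symm.qt
  have a0 := le_cz_comm.1 h.le_cz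
  rw [y.eq_sup] at a0
  have a1 := a0.trans (cz_anti le_sup_left)
  refine y.not_le (u := eE a c) h.symm.bS (fun e => q.a2 ?_) (fun s hs => mem_nz_of_le (by
    rw [cj_zpowers]; exact zpowers_le.2 (q.conj_mem (h.symm.nrm hs)))) (a1 y.aR)
    (inv_mem_iff.1 (mem_cz_zpowers.2 (by simpa using h.symm.act.1))) fun Q hQ θ hθ ho e => ?_
  · rw [mem_cz_zpowers, q.bab, inv_eq_iff_mul_eq_one] at e
    rw [sq, e]
  rcases y.ess_cases h hQ hθ ho e with ⟨m, rfl, b1, b2, -⟩ | ⟨m, rfl, b1, b2, b3⟩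
  · exact stab_sup b2 b1 (le_cz_comm.1 ((y.Q0_le m).trans a0)) ((y.Q0_le m).trans a1)
  · exact absurd ⟨m, θ, y.A_le hQ hθ, ho, b1, b2, b3⟩ h0

theorem le_of (y' : Pre F' R n a b c ρ') (hS : F.S = F'.S) (r : ρ * j * ρ⁻¹ = j)
    (r' : ρ' * j * ρ'⁻¹ = j) : F ≤ F' := by
  have h' : Co F'.S n a b c j := hS ▸ h
  have a0 := h.le_cz
  rw [y.eq_sup] at a0
  have a7 : zpowers (eE a c) ⊔ zpowers (j * b) ≤ F'.S :=
    sup_le (zpowers_le.2 h'.symm.aS) (zpowers_le.2 h'.symm.bS)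
  have key : F.CF (zpowers (mcZ a n)) ≤ F' := H4.le_of_odd y.E_sat (y.E_S.trans hS)
    fun Q hQ _ θ hθ ho => by
      by_cases e : θ ∈ cz Q
      · exact F'.cz_le_A Q e
      rcases y.ess_cases h hQ hθ ho e with ⟨m, rfl, b1, b2, -⟩ | ⟨m, rfl, b1, b2, -⟩
      · exact (y'.m1 h').same y'.sat.pg y'.toQt y'.le a7 y'.cS y'.ca (h'.symm.nrm y'.cS)
          (le_cz_comm.1 a0) ho b1 b2
      · exact (y'.m2 h').same y'.sat.pg h'.symm.qt a7 y'.le h'.symm.cS h'.symm.act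
          (y'.nrm h'.symm.cS) a0 ho b1 b2
  refine y.gen (fun P g H hz e => key P g (y.E_T H hz e)) ?_
  have e : Dt F (mcZ c n) = Dt F' (mcZ c n) := by rw [Dt, FS.C, hS]
  refine (e ▸ y'.o.T).congr fun d hd => ?_
  obtain ⟨k, l, rfl | rfl⟩ := y.D_cases h hd
  · rw [rho_u h.ac y.o.a y.o.c, rho_u h.ac y'.o.a y'.o.c]
  · rw [← conj_mul, ← conj_mul (b := ρ'), rho_u h.ac y.o.a y.o.c, rho_u h.ac y'.o.a y'.o.c, r, r']

end Pre

end H20.QF
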