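import Cfsg.Agent.H18.CL0
import Cfsg.Agent.S5133
import Cfsg.Agent.S5134
set_option autoImplicit false
/-! S5242 chunk GLUE, part 1: fusion systems on the element level. -/
namespace H20.CL
open Subgroup Cfsg Cfsg.FusionSystem

universe u v w

section fs
variable {Ω : Type u} [Group Ω] {S : Subgroup Ω}

theorem resH (F : FusionSystem S) {P Q : Subgroup Ω} {φ : Q →* Ω} (h : φ ∈ F.Hom Q) (hPQ : P ≤ Q) :
    φ.comp (inclusion hPQ) ∈ F.Hom P := by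
  have h1 := F.comp_mem (F.conj_mem (hPQ.trans (F.le_of_mem h).1) S.one_mem) h
    (fun x => by simpa [conjHom] using hPQ x.2)
  convert h1 using 1
  ext x
  show φ _ = φ _
  congr 1
  apply Subtype.ext
  simp [conjHom]

/-- `f` restricted to `P` is a map of `F` -/
def FS (F : FusionSystem S) (P : Subgroup S) (f : S → S) : Prop :=
  ∃ (P0 : Subgroup Ω) (φ : P0 →* Ω), φ ∈ F.Hom P0 ∧ ∀ x ∈ P, ∃ h : (x : Ω) ∈ P0, φ ⟨x, h⟩ = f x

variable {F : FusionSystem S}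

theorem toF {P0 : Subgroup Ω} {φ : P0 →* Ω} (hφ : φ ∈ F.Hom P0) :
    ∃ f : S → S, ∀ (x : S) (h : (x : Ω) ∈ P0), φ ⟨x, h⟩ = f x := by
  classical
  exact ⟨fun y => if hy : (y : Ω) ∈ P0 then ⟨φ ⟨y, hy⟩, (F.le_of_mem hφ).2 _⟩ else y,
    fun x h => by simp only [dif_pos h]⟩

theorem FS.ex {P : Subgroup S} {f : S → S} (h : FS F P f) :
    ∃ φ ∈ F.Hom (P.map S.subtype), ∀ (x : S) (hx : (x : Ω) ∈ P.map S.subtype), φ ⟨x, hx⟩ = f x := by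
  obtain ⟨P0, φ, hφ, h⟩ := h
  have hle : P.map S.subtype ≤ P0 := by
    rintro _ ⟨x, hx, rfl⟩
    exact (h x hx).1
  refine ⟨_, resH F hφ hle, fun x hx => ?_⟩
  obtain ⟨y, hy, e⟩ := hx
  have : y = x := Subtype.ext e
  subst this
  exact (h y hy).2

theorem FS.mul {P : Subgroup S} {f : S → S} (h : FS F P f) {x y : S} (hx : x ∈ P) (hy : y ∈ P) :
    f (x * y) = f x * f y := by
  obtain ⟨P0, φ, hφ, h⟩ := h
  obtain ⟨a, ha⟩ := h x hx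
  obtain ⟨b, hb⟩ := h y hy
  obtain ⟨c, hc⟩ := h _ (P.mul_mem hx hy)
  apply Subtype.ext
  rw [← hc, Subgroup.coe_mul S (f x), ← ha, ← hb, ← map_mul]
  rfl

theorem FS.inj {P : Subgroup S} {f : S → S} (h : FS F P f) {x y : S} (hx : x ∈ P) (hy : y ∈ P)
    (e : f x = f y) : x = y := by
  obtain ⟨P0, φ, hφ, h⟩ := h
  obtain ⟨a, ha⟩ := h x hx
  obtain ⟨b, hb⟩ := h y hy
  have := F.injective_of_mem hφ (ha.trans (by rw [e, ← hb]))
  exact Subtype.ext (congrArg (fun z : P0 => (z : Ω)) this)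

theorem FS.cg {P : Subgroup S} {f g : S → S} (h : FS F P f) (e : ∀ x ∈ P, g x = f x) : FS F P g := by
  obtain ⟨P0, φ, hφ, h⟩ := h
  exact ⟨P0, φ, hφ, fun x hx => by rw [e x hx]; exact h x hx⟩

theorem FS.res {P P' : Subgroup S} {f : S → S} (h : FS F P f) (e : P' ≤ P) : FS F P' f := by
  obtain ⟨P0, φ, hφ, h⟩ := h
  exact ⟨P0, φ, hφ, fun x hx => h x (e hx)⟩

theorem FS.cj (F : FusionSystem S) (s : S) (P : Subgroup S) : FS F P fun x => s * x * s⁻¹ :=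
  ⟨S, conjHom S s, F.conj_mem le_rfl s.2, fun x _ => ⟨x.2, rfl⟩⟩

theorem FS.comp {P Q : Subgroup S} {f g : S → S} (h : FS F P f) (h' : FS F Q g) (e : ∀ x ∈ P, f x ∈ Q) :
    FS F P fun x => g (f x) := by
  obtain ⟨φ, hφ, h⟩ := h.ex
  obtain ⟨Q0, ψ, hψ, h'⟩ := h'
  have hm : ∀ x : P.map S.subtype, φ x ∈ Q0 := by
    rintro ⟨_, x, hx, rfl⟩
    have := h x ⟨x, hx, rfl⟩
    erw [this]
    exact (h' _ (e x hx)).1
  refine ⟨_, _, F.comp_mem hφ hψ hm, fun x hx => ⟨⟨x, hx, rfl⟩, ?_⟩⟩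
  obtain ⟨a, ha⟩ := h' _ (e x hx)
  rw [← ha]
  show ψ _ = ψ _
  congr 1
  exact Subtype.ext (h x ⟨x, hx, rfl⟩)

theorem FS.inv {P Q : Subgroup S} {f : S → S} (h : FS F P f) (e : ∀ y ∈ Q, ∃ x ∈ P, f x = y) :
    ∃ g, FS F Q g ∧ ∀ x ∈ P, g (f x) = x := by
  classical
  obtain ⟨P0, φ, hφ, h⟩ := h
  obtain ⟨ψ, hψ, hi⟩ := F.inv_mem hφ
  obtain ⟨g, hg⟩ := toF hψ
  refine ⟨g, ⟨_, ψ, hψ, fun y hy => ?_⟩, fun x hx => ?_⟩
  · obtain ⟨x, hx, rfl⟩ := e y hy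
    obtain ⟨a, ha⟩ := h x hx
    exact ⟨⟨_, ha⟩, hg _ _⟩
  · obtain ⟨a, ha⟩ := h x hx
    have hm : (f x : Ω) ∈ φ.range := ⟨_, ha⟩
    apply Subtype.ext
    rw [← hg _ hm]
    have := hi ⟨x, a⟩
    simp only [ha] at this
    exact this

theorem FS.ext {A : Subgroup Ω} (hA : F.IsCentral A) {P : Subgroup S} {f : S → S} (h : FS F P f) :
    ∃ g, FS F (P ⊔ A.subgroupOf S) g ∧ (∀ x ∈ P, g x = f x) ∧ ∀ a : S, (a : Ω) ∈ A → g a = a := by
  classical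
  obtain ⟨P0, φ, hφ, h⟩ := h
  obtain ⟨ψ, hψ, h1, h2⟩ := hA.2 P0 φ hφ
  obtain ⟨g, hg⟩ := toF hψ
  refine ⟨g, ⟨_, ψ, hψ, fun y hy => ?_⟩, fun x hx => ?_, fun a ha => ?_⟩
  · have hm : (y : Ω) ∈ P0 ⊔ A := by
      have : P ⊔ A.subgroupOf S ≤ (P0 ⊔ A).subgroupOf S :=
        sup_le (fun x hx => mem_subgroupOf.2 (mem_sup_left (h x hx).1))
          (fun x hx => mem_subgroupOf.2 (mem_sup_right (mem_subgroupOf.1 hx)))
      exact mem_subgroupOf.1 (this hy)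
    exact ⟨hm, hg _ _⟩
  · obtain ⟨a, ha⟩ := h x hx
    apply Subtype.ext
    rw [← hg _ (mem_sup_left a), ← ha]
    exact h1 ⟨x, a⟩
  · apply Subtype.ext
    rw [← hg _ (mem_sup_right ha)]
    exact h2 ⟨a, ha⟩

theorem FS.fixA {A : Subgroup Ω} (hA : F.IsCentral A) {P : Subgroup S} {f : S → S} (h : FS F P f) {a : S}
    (ha : (a : Ω) ∈ A) (haP : a ∈ P) : f a = a := by
  obtain ⟨g, -, h1, h2⟩ := h.ext hA
  rw [← h1 a haP, h2 a ha]

theorem fixH {A : Subgroup Ω} (hA : F.IsCentral A) {P : Subgroup Ω} {φ : P →* Ω} (h : φ ∈ F.Hom P) (a : P)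
    (ha : (a : Ω) ∈ A) : φ a = a := by
  obtain ⟨ψ, -, h1, h2⟩ := hA.2 P φ h
  rw [← h1 a]
  exact h2 ⟨a, ha⟩

theorem cenA {A : Subgroup Ω} (hA : F.IsCentral A) {a : S} (ha : (a : Ω) ∈ A) : a ∈ center S := by
  rw [mem_center_iff]
  intro s
  have := (FS.cj F s ⊤).fixA hA ha (mem_top _)
  exact mul_inv_eq_iff_eq_mul.1 this

theorem FS.sat [Finite S] {p : ℕ} [Fact p.Prime] (hS : IsPGroup p S) (hF : F.IsSaturated p) {A : Subgroup Ω}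
    (hA : F.IsCentral A) (P : Subgroup S) (hAP : A.subgroupOf S ≤ P) :
    ∃ f Q, FS F P f ∧ (∀ y, y ∈ Q ↔ ∃ x ∈ P, f x = y) ∧
      ∀ α, FS F Q α → (∀ x ∈ Q, ((α x * x⁻¹ : S) : Ω) ∈ A) → ∃ s : S, ∀ x ∈ Q, α x = s * x * s⁻¹ := by
  classical
  obtain ⟨Q0, ⟨φ, hφ, hr⟩, ⟨hQS, R, hR⟩, -⟩ := hF (P.map S.subtype) (map_subtype_le P)
  have hAQ : A ≤ Q0 := by
    intro a ha
    have hm : a ∈ P.map S.subtype := ⟨⟨a, hA.1 ha⟩, hAP (mem_subgroupOf.2 ha), rfl⟩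
    rw [← hr]
    exact ⟨⟨a, hm⟩, fixH hA hφ _ ha⟩
  obtain ⟨f, hf⟩ := toF hφ
  refine ⟨f, Q0.subgroupOf S, ⟨_, φ, hφ, fun x hx => ⟨⟨x, hx, rfl⟩, hf _ _⟩⟩, fun y => ?_, ?_⟩
  · rw [mem_subgroupOf, ← hr]
    constructor
    · rintro ⟨⟨_, x, hx, rfl⟩, e⟩
      exact ⟨x, hx, Subtype.ext ((hf x _).symm.trans e)⟩
    · rintro ⟨x, hx, rfl⟩
      exact ⟨_, hf x ⟨x, hx, rfl⟩⟩
  rintro α ⟨P1, ψ, hψ, hα⟩ hαA
  have hle : Q0 ≤ P1 := fun x hx => (hα ⟨x, hQS hx⟩ (mem_subgroupOf.2 hx)).1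
  have hψ' := resH F hψ hle
  set ψ' := ψ.comp (inclusion hle) with hdef
  have hv : ∀ x : Q0, ψ' x = α ⟨x, hQS x.2⟩ := fun x => (hα ⟨x, hQS x.2⟩ (mem_subgroupOf.2 x.2)).2
  have hvA : ∀ x : Q0, ψ' x * (x : Ω)⁻¹ ∈ A := fun x => by
    rw [hv]; exact hαA ⟨x, hQS x.2⟩ (mem_subgroupOf.2 x.2)
  have hm : ∀ x : Q0, ψ' x ∈ Q0 := fun x => by
    have := Q0.mul_mem (hAQ (hvA x)) x.2
    simpa using this
  have : Finite Q0 := Finite.of_injective _ (inclusion_injective hQS)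
  have hinj : Function.Injective (ψ'.codRestrict Q0 hm) := fun a b e =>
    F.injective_of_mem hψ' (congrArg Subtype.val e)
  let β : MulAut Q0 := MulEquiv.ofBijective (ψ'.codRestrict Q0 hm) (Finite.injective_iff_bijective.1 hinj)
  have hβ : β ∈ F.autGroup Q0 := subset_closure (by
    show Q0.subtype.comp β.toMonoidHom ∈ F.Hom Q0
    exact hψ')
  have hfix : ∀ γ ∈ F.autGroup Q0, ∀ a : Q0, (a : Ω) ∈ A → γ a = a := by
    intro γ hγ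
    refine closure_induction (p := fun γ _ => ∀ a : Q0, (a : Ω) ∈ A → γ a = a) ?_ ?_ ?_ ?_ hγ
    · intro γ hγ a ha
      exact Subtype.ext (fixH hA hγ a ha)
    · intro a _; rfl
    · intro x y _ _ hx hy a ha
      rw [MulAut.mul_apply, hy a ha, hx a ha]
    · intro x _ hx a ha
      rw [MulAut.inv_apply, MulEquiv.symm_apply_eq, hx a ha]
  let N : Subgroup (F.autGroup Q0) :=
    { carrier := {γ | ∀ x : Q0, ((γ.1 x * x⁻¹ : Q0) : Ω) ∈ A}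
      one_mem' := fun x => by simp [A.one_mem]
      mul_mem' := fun {a b} ha hb x => by
        have e : (a * b).1 x * x⁻¹ = (a.1 (b.1 x) * (b.1 x)⁻¹) * (b.1 x * x⁻¹) := by
          simp [mul_assoc]
        rw [e, Subgroup.coe_mul]
        exact A.mul_mem (ha _) (hb _)
      inv_mem' := fun {a} ha x => by
        have e : (a⁻¹).1 x * x⁻¹ = (a.1 ((a⁻¹).1 x) * ((a⁻¹).1 x)⁻¹)⁻¹ := by
          simp
        rw [e, Subgroup.coe_inv]
        exact A.inv_mem (ha _) }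
  have hN : N.Normal := ⟨fun n hn g x => by
    have h1 := hn ((g⁻¹).1 x)
    have h2 := hfix g.1 g.2 _ h1
    have e : (g * n * g⁻¹).1 x * x⁻¹ = g.1 (n.1 ((g⁻¹).1 x) * ((g⁻¹).1 x)⁻¹) := by
      simp
    show (((g * n * g⁻¹).1 x * x⁻¹ : Q0) : Ω) ∈ A
    rw [e, h2]
    exact h1⟩
  have hNp : IsPGroup p N := by
    obtain ⟨k, hk⟩ := hS.exists_card_eq
    intro γ
    refine ⟨k, Subtype.ext (Subtype.ext (MulEquiv.ext fun x => ?_))⟩
    have h1 := γ.2 x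
    have h2 := hfix γ.1.1 γ.1.2 _ h1
    have h3 : ∀ n : ℕ, (γ.1.1 ^ n) x = (γ.1.1 x * x⁻¹) ^ n * x := by
      intro n
      induction n with
      | zero => simp
      | succ n ih => rw [pow_succ', MulAut.mul_apply, ih, map_mul, map_pow, h2, pow_succ]; group
    have h4 : (γ.1.1 x * x⁻¹) ^ p ^ k = 1 := by
      apply inclusion_injective hQS
      rw [map_pow, map_one, ← hk]
      exact pow_card_eq_one'
    show (γ.1.1 ^ p ^ k) x = x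
    rw [h3, h4, one_mul]
  have hβN : (⟨β, hβ⟩ : F.autGroup Q0) ∈ N := fun x => hvA x
  have hβR := hNp.le_sylow_of_normal R hβN
  rw [hR, mem_subgroupOf] at hβR
  have : ∃ g ∈ S, ∀ x : Q0, ((β x : Q0) : Ω) = g * (x : Ω) * g⁻¹ := by
    refine closure_induction (p := fun γ _ => ∃ g ∈ S, ∀ x : Q0, ((γ x : Q0) : Ω) = g * (x : Ω) * g⁻¹)
      (fun γ hγ => hγ) ⟨1, S.one_mem, fun x => by simp⟩ ?_ ?_ hβR
    · rintro x y _ _ ⟨g, hg, hx⟩ ⟨g', hg', hy⟩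
      refine ⟨g * g', S.mul_mem hg hg', fun a => ?_⟩
      rw [MulAut.mul_apply, hx, hy]; group
    · rintro x _ ⟨g, hg, hx⟩
      refine ⟨g⁻¹, S.inv_mem hg, fun a => ?_⟩
      have := hx (x⁻¹ a)
      rw [MulAut.apply_inv_self] at this
      rw [this]; group
  obtain ⟨g, hg, hx⟩ := this
  refine ⟨⟨g, hg⟩, fun x hx' => Subtype.ext ?_⟩
  have := hx ⟨x, mem_subgroupOf.1 hx'⟩
  have e := hv ⟨x, mem_subgroupOf.1 hx'⟩
  exact e.symm.trans this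

/-- pulling back a conjugation along an injective homomorphism -/
theorem pull {G : Type w} [Group G] {ι : S →* G} (hι : Function.Injective ι) (P : Subgroup Ω) (hP : P ≤ S)
    (g : G) (hg : ∀ x : P, g * ι ⟨x, hP x.2⟩ * g⁻¹ ∈ ι.range) :
    ∃ (φ : P →* Ω) (hφ : ∀ x, φ x ∈ S), ∀ x : P, ι ⟨φ x, hφ x⟩ = g * ι ⟨x, hP x.2⟩ * g⁻¹ := by
  choose t ht using hg
  refine ⟨MonoidHom.mk' (fun x => (t x : Ω)) (fun a b => ?_), fun x => (t x).2, fun x => ht x⟩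
  rw [← Subgroup.coe_mul]
  congr 1
  apply hι
  rw [map_mul, ht, ht, ht]
  have : (⟨((a * b : P) : Ω), hP (a * b).2⟩ : S) = ⟨a, hP a.2⟩ * ⟨b, hP b.2⟩ := rfl
  rw [this, map_mul]; group

theorem real_of [Finite S] {p : ℕ} [Fact p.Prime] (hS : IsPGroup p S) {G : Type w} [Group G] [Finite G]
    (ι : S →* G) (h : F.IsRealizedBy ι) (hi : ¬ p ∣ ι.range.index) : F.IsRealizable p := by
  let e : G ≃* Shrink.{u} G := (Shrink.mulEquiv).symm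
  refine ⟨Shrink.{u} G, inferInstance, Finite.of_equiv _ e.toEquiv, e.toMonoidHom.comp ι,
    ⟨e.injective.comp h.1, fun P hP φ hφ => (h.2 P hP φ hφ).trans ⟨?_, ?_⟩⟩, ?_⟩
  · rintro ⟨g, hg⟩
    exact ⟨e g, fun x => by simp [hg x]⟩
  · rintro ⟨g, hg⟩
    refine ⟨e.symm g, fun x => e.injective ?_⟩
    simpa using hg x
  · have h1 : IsPGroup p (e.toMonoidHom.comp ι).range := hS.of_surjective _ (MonoidHom.rangeRestrict_surjective _)
    have h2 : ¬ p ∣ (e.toMonoidHom.comp ι).range.index := by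
      rw [← MonoidHom.map_range, index_map_of_bijective (by exact e.bijective)]
      exact hi
    exact ⟨h1.toSylow h2, rfl⟩

end fs
end H20.CL
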