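import Cfsg.Agent.H20.CL1
set_option autoImplicit false
/-! S5242 chunk GLUE, part 2. -/
namespace H20.CL
open Subgroup Cfsg Cfsg.FusionSystem

universe u v w

section gl
variable {Ω : Type u} [Group Ω] {S : Subgroup Ω} {F : FusionSystem S} {A : Subgroup Ω}
  {Ω' : Type v} [Group Ω'] {S' : Subgroup Ω'} {θ : S →* Ω'} {E : FusionSystem S'}

theorem mem_pre {P' : Subgroup Ω'} {x : Ω} : x ∈ preimageAlong θ P' ↔ ∃ h : x ∈ S, θ ⟨x, h⟩ ∈ P' := by
  constructor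
  · rintro ⟨y, hy, rfl⟩
    exact ⟨y.2, hy⟩
  · rintro ⟨h, hy⟩
    exact ⟨⟨x, h⟩, hy, rfl⟩

theorem thS (hE : F.IsFactorSystem A θ E) (s : S) : θ s ∈ S' := hE.2.2.1 ▸ ⟨s, rfl⟩

/-- `θ` with codomain `S'` -/
def th (hE : F.IsFactorSystem A θ E) : S →* S' := θ.codRestrict S' (thS hE)

theorem th_surj (hE : F.IsFactorSystem A θ E) : Function.Surjective (th hE) := by
  rintro ⟨y, hy⟩
  rw [← hE.2.2.1] at hy
  obtain ⟨s, rfl⟩ := hy
  exact ⟨s, rfl⟩

theorem th_eq_one (hE : F.IsFactorSystem A θ E) (s : S) : th hE s = 1 ↔ (s : Ω) ∈ A := by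
  rw [← hE.2.1 s, Subtype.ext_iff]; rfl

theorem down [Finite S] {p : ℕ} [Fact p.Prime] (hS : IsPGroup p S) (hA : F.IsCentral A)
    (hE : F.IsFactorSystem A θ E) (h : F.IsRealizable p) : E.IsRealizable p := by
  obtain ⟨G, _, _, ι, ⟨hι, hR⟩, T, hT⟩ := h
  have : Finite S' := Finite.of_surjective _ (th_surj hE)
  let A' : Subgroup G := (A.subgroupOf S).map ι
  let C : Subgroup G := centralizer (A' : Set G)
  have hιC : ∀ s, ι s ∈ C := by
    rintro s _ ⟨a, ha, rfl⟩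
    rw [← map_mul, ← map_mul, mem_center_iff.1 (cenA hA (mem_subgroupOf.1 ha)) s]
  have hN : (A'.subgroupOf C).Normal := ⟨fun n hn g => by
    have : g * n * g⁻¹ = n := Subtype.ext (by
      have := g.2 n (mem_subgroupOf.1 hn)
      show (g : G) * n * (g : G)⁻¹ = n
      rw [← this, mul_inv_cancel_right])
    rw [this]; exact hn⟩
  let ρ : S →* C ⧸ A'.subgroupOf C := (QuotientGroup.mk' _).comp (ι.codRestrict C hιC)
  have hρ : ∀ s, ρ s = 1 ↔ (s : Ω) ∈ A := by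
    intro s
    show ((ι.codRestrict C hιC s : C) : C ⧸ A'.subgroupOf C) = 1 ↔ _
    rw [QuotientGroup.eq_one_iff, mem_subgroupOf]
    exact (mem_map_iff_mem hι).trans mem_subgroupOf
  have hker : (th hE).ker ≤ ρ.ker := fun s hs => (hρ s).2 ((th_eq_one hE s).1 hs)
  let κ : S' →* C ⧸ A'.subgroupOf C := (th hE).liftOfSurjective (th_surj hE) ⟨ρ, hker⟩
  have hκ : ∀ s, κ (th hE s) = ρ s := fun s => (th hE).liftOfRightInverse_comp_apply _ _ ⟨ρ, hker⟩ s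
  have hκi : Function.Injective κ := by
    rw [injective_iff_map_eq_one]
    intro y hy
    obtain ⟨s, rfl⟩ := th_surj hE y
    rw [hκ] at hy
    exact (th_eq_one hE s).2 ((hρ s).1 hy)
  refine real_of (hS.of_surjective _ (th_surj hE)) κ ⟨hκi, fun P' hP' φ' hφ' => ⟨fun h => ?_, fun h => ?_⟩⟩ ?_
  · obtain ⟨-, φ, hφ, hP, hφS, hPP', hind⟩ := (hE.2.2.2 P' φ').1 h
    obtain ⟨g, hg⟩ := (hR _ hP φ hφS).1 hφ
    have hgC : g ∈ C := by
      rintro _ ⟨a, ha, rfl⟩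
      have ha' : (a : Ω) ∈ A := mem_subgroupOf.1 ha
      have hm : (a : Ω) ∈ preimageAlong θ P' := mem_pre.2 ⟨a.2, by rw [(hE.2.1 a).2 ha']; exact P'.one_mem⟩
      have h1 := hg ⟨a, hm⟩
      have h2 : (⟨φ ⟨a, hm⟩, hφS _⟩ : S) = a := Subtype.ext (fixH hA hφ _ ha')
      rw [h2] at h1
      exact (mul_inv_eq_iff_eq_mul.1 h1.symm).symm
    refine ⟨((⟨g, hgC⟩ : C) : C ⧸ A'.subgroupOf C), fun x => ?_⟩
    obtain ⟨s, hs⟩ := th_surj hE ⟨x, hP' x.2⟩
    have hs' : θ s = x := congrArg Subtype.val hs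
    have hm : (s : Ω) ∈ preimageAlong θ P' := mem_pre.2 ⟨s.2, by rw [hs']; exact x.2⟩
    have h1 := hind ⟨s, hm⟩
    have h2 : (⟨φ' x, hφ' x⟩ : S') = th hE ⟨φ ⟨s, hm⟩, hφS _⟩ := by
      apply Subtype.ext
      show φ' x = θ _
      rw [← h1]
      congr 1
      exact Subtype.ext hs'.symm
    rw [h2, ← hs, hκ, hκ]
    show ((ι.codRestrict C hιC _ : C) : C ⧸ A'.subgroupOf C) = _ * ((ι.codRestrict C hιC s : C) : C ⧸ _) * _
    rw [← QuotientGroup.mk_inv, ← QuotientGroup.mk_mul, ← QuotientGroup.mk_mul]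
    congr 1
    exact Subtype.ext (hg ⟨s, hm⟩)
  · obtain ⟨h, hh⟩ := h
    obtain ⟨g, rfl⟩ := QuotientGroup.mk_surjective h
    have hP : preimageAlong θ P' ≤ S := map_subtype_le _
    have hPP' : ∀ x : preimageAlong θ P', θ ⟨x, hP x.2⟩ ∈ P' := fun x => (mem_pre.1 x.2).2
    have key : ∀ (x : preimageAlong θ P') (t : S), th hE t = ⟨φ' ⟨_, hPP' x⟩, hφ' _⟩ →
        ρ t = ((g * ι.codRestrict C hιC ⟨x, hP x.2⟩ * g⁻¹ : C) : C ⧸ A'.subgroupOf C) := by
      intro x t ht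
      rw [← hκ, ht, hh ⟨_, hPP' x⟩, QuotientGroup.mk_mul, QuotientGroup.mk_mul, QuotientGroup.mk_inv]
      congr 2
      exact hκ ⟨x, hP x.2⟩
    obtain ⟨φ, hφS, hφ⟩ := pull hι (preimageAlong θ P') hP g (fun x => by
      obtain ⟨t, ht⟩ := th_surj hE ⟨φ' ⟨_, hPP' x⟩, hφ' _⟩
      have h1 := key x t ht
      have h2 := mem_subgroupOf.1 (QuotientGroup.eq.1 h1)
      obtain ⟨a, -, ha⟩ := h2
      refine ⟨t * a, ?_⟩
      rw [map_mul, ha]
      show ι t * ((ι t)⁻¹ * _) = _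
      rw [mul_inv_cancel_left]; rfl)
    refine (hE.2.2.2 P' φ').2 ⟨hP', φ, (hR _ hP φ hφS).2 ⟨g, hφ⟩, hP, hφS, hPP', fun x => ?_⟩
    obtain ⟨t, ht⟩ := th_surj hE ⟨φ' ⟨_, hPP' x⟩, hφ' _⟩
    have h1 := key x t ht
    have h2 : ρ t = ρ ⟨φ x, hφS x⟩ := by
      rw [h1]
      show _ = ((ι.codRestrict C hιC _ : C) : C ⧸ A'.subgroupOf C)
      congr 1
      exact Subtype.ext (hφ x).symm
    rw [← hκ, ← hκ] at h2
    have h3 := congrArg Subtype.val (ht.symm.trans (hκi h2))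
    exact h3
  · have h1 : κ.range = (ι.range.subgroupOf C).map (QuotientGroup.mk' _) := by
      ext y
      constructor
      · rintro ⟨y, rfl⟩
        obtain ⟨s, rfl⟩ := th_surj hE y
        exact ⟨ι.codRestrict C hιC s, mem_subgroupOf.2 ⟨s, rfl⟩, (hκ s).symm⟩
      · rintro ⟨c, hc, rfl⟩
        obtain ⟨s, hs⟩ := mem_subgroupOf.1 hc
        refine ⟨th hE s, ?_⟩
        rw [hκ]
        show ((ι.codRestrict C hιC _ : C) : C ⧸ A'.subgroupOf C) = (c : C ⧸ A'.subgroupOf C)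
        congr 1
        exact Subtype.ext hs
    intro hd
    rw [h1] at hd
    have h2 := hd.trans (index_map_dvd _ (QuotientGroup.mk'_surjective _))
    have h3 : ι.range ≤ C := by
      rintro _ ⟨s, rfl⟩
      exact hιC s
    have h4 := h2.trans (relIndex_dvd_index_of_le h3)
    rw [← hT] at h4
    exact T.not_dvd_index h4

/-- conjugations in the realizing group of the factor lift to maps of `F` -/
theorem liftH (hE : F.IsFactorSystem A θ E) {H : Type w} [Group H] {κ : S' →* H} (hκ : E.IsRealizedBy κ) (h : H) :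
    ∃ f, FS F (((κ.comp (th hE)).range.comap (MulAut.conj h).toMonoidHom).comap (κ.comp (th hE))) f ∧
      ∀ x, h * κ (th hE x) * h⁻¹ ∈ (κ.comp (th hE)).range → κ (th hE (f x)) = h * κ (th hE x) * h⁻¹ := by
  let P' : Subgroup Ω' := (((κ.comp (th hE)).range.comap (MulAut.conj h).toMonoidHom).comap κ).map S'.subtype
  have hP' : P' ≤ S' := map_subtype_le _
  obtain ⟨φ', hφ'S, hφ'⟩ := pull hκ.1 P' hP' h (by
    rintro ⟨_, y, hy, rfl⟩
    obtain ⟨s, hs⟩ := hy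
    exact ⟨th hE s, hs⟩)
  obtain ⟨-, φ, hφ, hP, hφS, hPP', hind⟩ := (hE.2.2.2 P' φ').1 ((hκ.2 P' hP' φ' hφ'S).2 ⟨h, hφ'⟩)
  obtain ⟨f, hf⟩ := toF hφ
  have hm : ∀ x, h * κ (th hE x) * h⁻¹ ∈ (κ.comp (th hE)).range → (x : Ω) ∈ preimageAlong θ P' :=
    fun x hx => mem_pre.2 ⟨x.2, th hE x, hx, rfl⟩
  refine ⟨f, ⟨_, φ, hφ, fun x hx => ⟨hm x hx, hf _ _⟩⟩, fun x hx => ?_⟩
  have h1 := hφ' ⟨_, hPP' ⟨x, hm x hx⟩⟩
  refine Eq.trans ?_ h1
  congr 1
  apply Subtype.ext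
  show θ (f x) = φ' _
  rw [hind ⟨x, hm x hx⟩]
  congr 1
  exact Subtype.ext (hf x _).symm

/-- maps of `F` induce conjugations in the realizing group of the factor -/
theorem barH (hE : F.IsFactorSystem A θ E) (hM : F.IsMorphism E θ) {H : Type w} [Group H] {κ : S' →* H}
    (hκ : E.IsRealizedBy κ) {P : Subgroup S} {f : S → S} (hf : FS F P f) :
    ∃ h : H, ∀ x ∈ P, κ (th hE (f x)) = h * κ (th hE x) * h⁻¹ := by
  obtain ⟨P0, φ, hφ, hf⟩ := hf
  obtain ⟨φ', hφ', hP, hφS, hPP', hind⟩ := hM.2 P0 φ hφ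
  obtain ⟨h, hh⟩ := (hκ.2 _ (E.le_of_mem hφ').1 φ' (E.le_of_mem hφ').2).1 hφ'
  refine ⟨h, fun x hx => ?_⟩
  obtain ⟨a, ha⟩ := hf x hx
  refine Eq.trans ?_ (hh ⟨_, hPP' ⟨x, a⟩⟩)
  congr 1
  apply Subtype.ext
  show θ (f x) = φ' _
  rw [hind ⟨x, a⟩]
  congr 1
  exact Subtype.ext ha.symm

/-- transport of `F` along `j` -/
def Fm (F : FusionSystem S) {G : Type w} [Group G] (j : S →* G) (P : Subgroup G) (φ : G → G) : Prop :=
  P ≤ j.range ∧ ∃ f, FS F (P.comap j) f ∧ ∀ s, j s ∈ P → φ (j s) = j (f s)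

theorem Fm.mk' {G : Type w} [Group G] {j : S →* G} (hj : Function.Injective j) {P : Subgroup G} (hP : P ≤ j.range)
    {f : S → S} (hf : FS F (P.comap j) f) : ∃ φ, Fm F j P φ ∧ ∀ s, φ (j s) = j (f s) :=
  have e : ∀ s, j (f (Function.invFun j (j s))) = j (f s) := fun s => by
    rw [Function.leftInverse_invFun hj s]
  ⟨fun y => j (f (Function.invFun j y)), ⟨hP, f, hf, fun s _ => e s⟩, e⟩

theorem fz [Finite S] {p : ℕ} [Fact p.Prime] (hS : IsPGroup p S) (hF : F.IsSaturated p) (hA : F.IsCentral A)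
    (hE : F.IsFactorSystem A θ E) (hM : F.IsMorphism E θ) {H : Type w} [Group H] {κ : S' →* H}
    (hκ : E.IsRealizedBy κ) {G : Type*} [Group G] (q : G →* H) (j : S →* G) (hq : Function.Surjective q)
    (hj : Function.Injective j) (hqj : ∀ s, q (j s) = κ (th hE s)) (hker : q.ker = (A.subgroupOf S).map j) :
    H18.CL.Fz j.range q.ker (Fm F j) where
  le P φ h := h.1
  mem P φ h x hx := by
    obtain ⟨s, rfl⟩ := h.1 hx
    obtain ⟨f, -, hf⟩ := h.2
    exact ⟨_, (hf s hx).symm⟩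
  mul P φ h x hx y hy := by
    obtain ⟨s, rfl⟩ := h.1 hx
    obtain ⟨t, rfl⟩ := h.1 hy
    obtain ⟨f, h1, hf⟩ := h.2
    rw [hf s hx, hf t hy, ← map_mul, hf _ (by rw [map_mul]; exact P.mul_mem hx hy), h1.mul hx hy, map_mul]
  cg P φ ψ h e := by
    obtain ⟨f, h1, hf⟩ := h.2
    exact ⟨h.1, f, h1, fun s hs => by rw [e _ hs, hf s hs]⟩
  res P P' φ h e := by
    obtain ⟨f, h1, hf⟩ := h.2
    exact ⟨e.trans h.1, f, h1.res (comap_mono e), fun s hs => hf s (e hs)⟩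
  cj := by
    rintro _ ⟨s, rfl⟩ P hP
    exact ⟨hP, _, FS.cj F s _, fun t _ => by simp⟩
  comp P Q φ ψ h h' e := by
    obtain ⟨f, h1, hf⟩ := h.2
    obtain ⟨g, h2, hg⟩ := h'.2
    have e' : ∀ x ∈ P.comap j, j (f x) ∈ Q := fun x hx => by rw [← hf x hx]; exact e _ hx
    exact ⟨h.1, _, h1.comp h2 e', fun s hs => by simp only [hf s hs, hg _ (e' s hs)]⟩
  inv P Q φ h e := by
    obtain ⟨f, h1, hf⟩ := h.2
    have hQ : Q ≤ j.range := fun y hy => by
      obtain ⟨x, hx, rfl⟩ := (e y).1 hy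
      obtain ⟨s, rfl⟩ := h.1 hx
      exact ⟨_, (hf s hx).symm⟩
    obtain ⟨g, h2, hg⟩ := h1.inv (Q := Q.comap j) (fun y hy => by
      obtain ⟨x, hx, e'⟩ := (e _).1 hy
      obtain ⟨s, rfl⟩ := h.1 hx
      exact ⟨s, hx, hj (by rw [← hf s hx, e'])⟩)
    obtain ⟨ψ, h3, hψ⟩ := Fm.mk' hj hQ h2
    refine ⟨ψ, h3, fun x hx => ?_⟩
    obtain ⟨s, rfl⟩ := h.1 hx
    rw [hf s hx, hψ, hg s hx]
  fixA P φ h a ha haP := by
    obtain ⟨f, h1, hf⟩ := h.2
    rw [hker] at ha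
    obtain ⟨s, hs, rfl⟩ := ha
    rw [hf s haP, h1.fixA hA (mem_subgroupOf.1 hs) haP]
  ext P φ h := by
    obtain ⟨f, h1, hf⟩ := h.2
    obtain ⟨g, h2, hg, -⟩ := h1.ext hA
    have hk : q.ker ≤ j.range := by rw [hker]; exact map_le_range _ _
    have e : (P ⊔ q.ker).comap j = P.comap j ⊔ A.subgroupOf S := by
      rw [← comap_sup_eq_of_le_range j h.1 hk, hker, comap_map_eq_self_of_injective hj]
    obtain ⟨ψ, h3, hψ⟩ := Fm.mk' (F := F) hj (sup_le h.1 hk) (e ▸ h2)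
    refine ⟨ψ, h3, fun x hx => ?_⟩
    obtain ⟨s, rfl⟩ := h.1 hx
    rw [hf s hx, hψ, hg s hx]
  bar P φ h _ := by
    obtain ⟨f, h1, hf⟩ := h.2
    obtain ⟨k, hk⟩ := barH hE hM hκ h1
    obtain ⟨g, rfl⟩ := hq k
    refine ⟨g, fun x hx => ?_⟩
    obtain ⟨s, rfl⟩ := h.1 hx
    rw [MonoidHom.mem_ker, hf s hx, map_mul, map_inv, map_mul, map_mul, map_inv, hqj, hqj, hk s hx,
      mul_inv_cancel]
  lift g P _ hP hg := by
    obtain ⟨f, h1, hf⟩ := liftH hE hκ (q g)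
    have hm : ∀ s, j s ∈ P → q g * κ (th hE s) * (q g)⁻¹ ∈ (κ.comp (th hE)).range := fun s hs => by
      obtain ⟨t, ht⟩ := hg _ hs
      refine ⟨t, ?_⟩
      show κ (th hE t) = _
      rw [← hqj, ← hqj, ht, map_mul, map_mul, map_inv]
    obtain ⟨φ, h3, hφ⟩ := Fm.mk' (F := F) hj hP (h1.res (P' := P.comap j) hm)
    refine ⟨φ, h3, fun x hx => ?_⟩
    obtain ⟨s, rfl⟩ := hP hx
    rw [MonoidHom.mem_ker, hφ, map_mul, map_inv, map_mul, map_mul, map_inv, hqj, hqj, hf s (hm s hx),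
      mul_inv_cancel]
  sat P hAP hP := by
    have hAP' : A.subgroupOf S ≤ P.comap j := by rw [← map_le_iff_le_comap, ← hker]; exact hAP
    obtain ⟨f, Q, h1, hQ, hs⟩ := FS.sat hS hF hA _ hAP'
    obtain ⟨φ, h3, hφ⟩ := Fm.mk' hj hP h1
    refine ⟨φ, Q.map j, h3, fun y => ⟨?_, ?_⟩, fun α hα hαA => ?_⟩
    · rintro ⟨t, ht, rfl⟩
      obtain ⟨s, hs, rfl⟩ := (hQ t).1 ht
      exact ⟨j s, hs, hφ s⟩
    · rintro ⟨x, hx, rfl⟩
      obtain ⟨s, rfl⟩ := hP hx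
      exact ⟨f s, (hQ _).2 ⟨s, hx, rfl⟩, (hφ s).symm⟩
    · obtain ⟨β, h4, hβ⟩ := hα.2
      rw [comap_map_eq_self_of_injective hj] at h4
      obtain ⟨s, hs⟩ := hs β h4 (fun x hx => by
        have h5 := hαA _ (mem_map_of_mem j hx)
        rw [hβ x (mem_map_of_mem j hx), hker, ← map_inv, ← map_mul, mem_map_iff_mem hj] at h5
        exact mem_subgroupOf.1 h5)
      refine ⟨j s, ⟨s, rfl⟩, ?_⟩
      rintro _ ⟨x, hx, rfl⟩
      rw [hβ x (mem_map_of_mem j hx), hs x hx, map_mul, map_mul, map_inv]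

end gl

theorem glue : H18.CL.GLUE.{u, v} := by
  intro hEXT hCOH hALP Ω _ S _ p _ hS F hF A hA Ω' _ S' _ θ E hE
  have hsc : F.StronglyClosed A := ⟨hA.1, fun R hR φ hφ x => by rw [fixH hA hφ x (hR x.2)]; exact hR x.2⟩
  have hM := Cfsg.Agent.S5134.result p hS F hF A hsc θ E hE
  have hEs := Cfsg.Agent.S5133.result p hS F hF E θ hM
  refine ⟨fun h => ⟨hEs, fun hr => h.2 ?_⟩, fun h => ⟨hF, fun hr => h.2 (down hS hA hE hr)⟩⟩
  obtain ⟨H, _, _, κ, hκ, T0, hT0⟩ := hr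
  have hrg : (κ.comp (th hE)).range = κ.range := by
    rw [← MonoidHom.map_range, MonoidHom.range_eq_top.2 (th_surj hE), ← MonoidHom.range_eq_map]
  have hkr : (κ.comp (th hE)).ker = A.subgroupOf S := by
    ext s
    rw [MonoidHom.mem_ker, mem_subgroupOf, ← th_eq_one hE, MonoidHom.comp_apply, map_eq_one_iff _ hκ.1]
  have hi0 : ¬ p ∣ (κ.comp (th hE)).range.index := by rw [hrg, ← hT0]; exact T0.not_dvd_index
  obtain ⟨G, _, _, q, j, hq, hj, hqj, hker, hcen⟩ := hEXT p S H (κ.comp (th hE)) hS hi0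
    (by rw [hkr]; exact fun a ha => cenA hA (mem_subgroupOf.1 ha)) (fun g => by
      obtain ⟨f, h1, hf⟩ := liftH hE hκ g
      refine ⟨f, fun x y hx hy => h1.mul hx hy, hf, fun a ha => h1.fixA hA (mem_subgroupOf.1 (hkr ▸ ha)) ?_⟩
      show g * (κ.comp (th hE)) a * g⁻¹ ∈ (κ.comp (th hE)).range
      rw [MonoidHom.mem_ker.1 ha]
      simp)
  rw [hkr] at hker
  have hk : q.ker ≤ j.range := by rw [hker]; exact map_le_range _ _
  have hij : ¬ p ∣ j.range.index := by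
    have : j.range = (κ.comp (th hE)).range.comap q := by
      have e : κ.comp (th hE) = q.comp j := MonoidHom.ext fun s => (hqj s).symm
      rw [e, ← MonoidHom.map_range, comap_map_eq, sup_eq_left.2 hk]
    rw [this, index_comap_of_surjective _ hq]
    exact hi0
  have hpj : IsPGroup p j.range := hS.of_surjective _ (MonoidHom.rangeRestrict_surjective _)
  let T : Sylow p G := hpj.toSylow hij
  have hZ : H18.CL.Fz (T : Subgroup G) q.ker (Fm F j) := fz hS hF hA hE hM.1 hκ q j hq hj hqj hker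
  obtain ⟨χ, hχ, h1⟩ := hCOH p G T q.ker (Fm F j) hk hcen hZ
  have h2 := hALP p G T q.ker (Fm F j) χ hk hcen hZ hχ h1
  have hjT : ∀ s, j s ∈ (T : Subgroup G) := fun s => ⟨s, rfl⟩
  let ι : S →* G := MonoidHom.mk' (fun s => j s * χ (j s)) (fun a b => by
    rw [map_mul, hχ.2.1 _ (hjT a) _ (hjT b), mul_assoc, mul_assoc, ← mul_assoc (j b),
      mem_center_iff.1 (hcen (hχ.1 _ (hjT a))) (j b), mul_assoc])
  have hι : Function.Injective ι := by
    rw [injective_iff_map_eq_one]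
    intro s hs
    have h3 : j s * χ (j s) = 1 := hs
    have h4 : j s ∈ q.ker := by
      rw [eq_inv_of_mul_eq_one_left h3]
      exact inv_mem (hχ.1 _ (hjT s))
    rw [hχ.2.2 _ h4, mul_one] at h3
    exact (map_eq_one_iff _ hj).1 h3
  refine real_of hS ι ⟨hι, fun P hP φ hφ => ?_⟩ ?_
  · classical
    let f : S → S := fun y => if hy : (y : Ω) ∈ P then ⟨φ ⟨y, hy⟩, hφ _⟩ else y
    have hf : ∀ (x : S) (h : (x : Ω) ∈ P), f x = ⟨φ ⟨x, h⟩, hφ _⟩ := fun x h => by simp only [f, dif_pos h]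
    let ψ : G → G := fun y => j (f (Function.invFun j y))
    have hψ : ∀ s, ψ (j s) = j (f s) := fun s => by
      show j (f (Function.invFun j (j s))) = _
      rw [Function.leftInverse_invFun hj s]
    have h3 := h2 ((P.subgroupOf S).map j) ψ (map_le_range _ _) (fun x _ => hjT _)
    constructor
    · intro h
      obtain ⟨g, hg⟩ := h3.1 ⟨map_le_range _ _, f, ⟨P, φ, h, fun x hx => by
        rw [comap_map_eq_self_of_injective hj] at hx
        exact ⟨mem_subgroupOf.1 hx, by rw [hf x (mem_subgroupOf.1 hx)]⟩⟩, fun s _ => hψ s⟩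
      refine ⟨g, fun x => ?_⟩
      have := hg (j ⟨x, hP x.2⟩) (mem_map_of_mem j (mem_subgroupOf.2 x.2))
      rw [hψ, hf _ x.2] at this
      exact this
    · rintro ⟨g, hg⟩
      obtain ⟨-, f', ⟨P0, φ0, h4, h5⟩, h6⟩ := h3.2 ⟨g, by
        rintro _ ⟨x, hx, rfl⟩
        rw [hψ, hf x (mem_subgroupOf.1 hx)]
        exact hg ⟨x, mem_subgroupOf.1 hx⟩⟩
      have hm : ∀ x : P, j ⟨x, hP x.2⟩ ∈ (P.subgroupOf S).map j :=
        fun x => mem_map_of_mem j (mem_subgroupOf.2 x.2)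
      have hle : P ≤ P0 := fun x hx => (h5 _ (hm ⟨x, hx⟩)).1
      have e : φ = φ0.comp (inclusion hle) := by
        ext x
        have h7 := h6 _ (hm x)
        rw [hψ, hf _ x.2] at h7
        have h8 := congrArg Subtype.val (hj h7)
        exact h8.trans (h5 _ (hm x)).2.symm
      rw [e]
      exact resH F h4 hle
  · have hle : ι.range ≤ j.range := by
      rintro _ ⟨s, rfl⟩
      exact mul_mem ⟨s, rfl⟩ (hk (hχ.1 _ (hjT s)))
    have : ι.range = j.range := eq_of_le_of_card_ge hle (by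
      rw [← Nat.card_congr (MonoidHom.ofInjective hι).toEquiv, ← Nat.card_congr (MonoidHom.ofInjective hj).toEquiv])
    rw [this]
    exact hij

end H20.CL
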