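import Cfsg.Agent.H18.CL0
set_option autoImplicit false
set_option linter.unusedSectionVars false
/-! S5242 chunk RED, part 1: the abstract reduction. -/
namespace H20.CL
open Subgroup MulAction Pointwise H18.CL

section core
variable {p : ℕ} [Fact p.Prime] {K G : Type*} [Group K] [Finite K] [Group G] {ρ : K →* G}

theorem sylC (hρ : Function.Surjective ρ) {S : Subgroup G} (hS : IsPGroup p S) {P P' : Subgroup K}
    (hP : IsPGroup p P) (hP' : IsPGroup p P') (h : P.map ρ ≤ S) (h' : P'.map ρ ≤ S) :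
    ∃ c ∈ ρ.ker, ∃ R : Subgroup K, IsPGroup p R ∧ P ≤ R ∧ (∀ u ∈ P', c⁻¹ * u * c ∈ R) ∧ R.map ρ = S := by
  rw [map_le_iff_le_comap] at h h'
  obtain ⟨Q, hQ⟩ := (hP.comap_of_injective (S.comap ρ).subtype (subtype_injective _)).exists_le_sylow
  obtain ⟨Q', hQ'⟩ := (hP'.comap_of_injective (S.comap ρ).subtype (subtype_injective _)).exists_le_sylow
  obtain ⟨l, rfl⟩ := MulAction.exists_smul_eq (S.comap ρ) Q Q'
  have hs := ρ.subgroupComap_surjective_of_surjective S hρ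
  have ht : (Q : Subgroup (S.comap ρ)).map (ρ.subgroupComap S) = ⊤ :=
    ((Q.mapSurjective hs).is_maximal' (hS.to_subgroup ⊤) le_top).symm
  have hr : ∀ s : S, ∃ r ∈ (Q : Subgroup (S.comap ρ)), ρ r = s := fun s => by
    obtain ⟨r, hr, e⟩ := ht.ge (mem_top s)
    exact ⟨r, hr, congrArg Subtype.val e⟩
  obtain ⟨r, hrQ, hrl⟩ := hr ⟨ρ l, l.2⟩
  refine ⟨l * (r : K)⁻¹, by simp [MonoidHom.mem_ker, hrl], (Q : Subgroup (S.comap ρ)).map (S.comap ρ).subtype,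
    Q.2.map _, fun u hu => ⟨⟨u, h hu⟩, hQ hu, rfl⟩, fun u hu => ?_, le_antisymm ?_ fun s hs => ?_⟩
  · have h1 : (⟨u, h' hu⟩ : S.comap ρ) ∈ ((l • Q : Sylow p _) : Subgroup (S.comap ρ)) := hQ' hu
    rw [Sylow.coe_subgroup_smul, mem_pointwise_smul_iff_inv_smul_mem] at h1
    refine ⟨_, mul_mem (mul_mem hrQ h1) (inv_mem hrQ), ?_⟩
    simp [mul_assoc]
  · rintro _ ⟨_, ⟨x, -, rfl⟩, rfl⟩
    exact x.2
  · obtain ⟨r, hr, e⟩ := hr ⟨s, hs⟩
    exact ⟨r, ⟨r, hr, rfl⟩, e⟩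

variable (p ρ) in
/-- `P` contains a Sylow subgroup of the kernel -/
def Mx (P : Subgroup K) : Prop := ∀ T ≤ ρ.ker, IsPGroup p T → Nat.card T ≤ Nat.card (P ⊓ ρ.ker : Subgroup K)

theorem Mx.mono {P P' : Subgroup K} (h : Mx p ρ P) (e : P ≤ P') : Mx p ρ P' := fun T hT hp =>
  (h T hT hp).trans (card_le_of_le (inf_le_inf_right _ e))

theorem Mx.mem {P R : Subgroup K} (h : Mx p ρ P) (e : P ≤ R) (hR : IsPGroup p R) {r : K} (hr : r ∈ R)
    (hk : r ∈ ρ.ker) : r ∈ P := by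
  have := eq_of_le_of_card_ge (inf_le_inf_right ρ.ker e) (h _ inf_le_right hR.to_inf_left)
  exact (this.ge (show r ∈ R ⊓ ρ.ker from ⟨hr, hk⟩)).1

theorem Mx.le {P R : Subgroup K} (h : Mx p ρ P) (e : P ≤ R) (hR : IsPGroup p R) (hm : R.map ρ ≤ P.map ρ) :
    R ≤ P := fun r hr => by
  obtain ⟨s, hs, es⟩ := hm (mem_map_of_mem ρ hr)
  have := h.mem e hR (mul_mem (inv_mem (e hs)) hr) (by simp [MonoidHom.mem_ker, es])
  simpa using mul_mem hs this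

theorem mx_ex : ∃ T : Subgroup K, IsPGroup p T ∧ T ≤ ρ.ker ∧ Mx p ρ T := by
  obtain ⟨T, ⟨h1, h2⟩, h3⟩ := Set.exists_max_image {T : Subgroup K | T ≤ ρ.ker ∧ IsPGroup p T}
    (fun T => Nat.card T) (Set.toFinite _) ⟨⊥, bot_le, IsPGroup.of_bot⟩
  refine ⟨T, h2, h1, fun T' a b => ?_⟩
  rw [inf_eq_left.2 h1]
  exact h3 T' ⟨a, b⟩

theorem Mx.cj {P P' : Subgroup K} (h : Mx p ρ P) (g : K) (e : ∀ u ∈ P, g * u * g⁻¹ ∈ P') : Mx p ρ P' := by
  intro T hT hp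
  refine (h T hT hp).trans (Nat.card_le_card_of_injective
    (fun x : (P ⊓ ρ.ker : Subgroup K) => (⟨g * x * g⁻¹, e _ x.2.1, (MonoidHom.normal_ker ρ).conj_mem _ x.2.2 g⟩ :
      (P' ⊓ ρ.ker : Subgroup K))) fun a b hab => ?_)
  have := congrArg Subtype.val hab
  exact Subtype.ext (by simpa using this)

variable {X : Type*} [Finite X] [MulAction K X] {D : Type*} [AddCommGroup D] [DistribMulAction G D]

variable (p ρ) in
structure Su (Y : Set X) (Q : Subgroup G → Prop) (e : ℕ) (τ : X → X → D) : Prop where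
  sj : Function.Surjective ρ
  inv : ∀ g : K, ∀ y ∈ Y, g • y ∈ Y
  pg : ∀ y ∈ Y, IsPGroup p (stabilizer K y)
  nd : ¬ p ∣ Y.ncard
  tor : ∀ d : D, p ^ e • d = 0
  up : ∀ P P', P ≤ P' → Q P → Q P'
  cj : ∀ (g : G) P, Q P → Q (MulAut.conj g • P)
  eqv : ∀ (g : K) x y, τ (g • x) (g • y) = ρ g • τ x y
  cy : ∀ x ∈ Y, ∀ y ∈ Y, ∀ z ∈ Y, ∀ R, Mx p ρ R → Q (R.map ρ) → R ≤ stabilizer K x → R ≤ stabilizer K y →
    R ≤ stabilizer K z → τ x y + τ y z = τ x z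

variable {Y : Set X} {Q : Subgroup G → Prop} {e : ℕ} {τ : X → X → D}

open Classical in
/-- fixed points of `R` in `Y` -/
noncomputable def Fs (Y : Set X) (R : Subgroup K) : Finset X :=
  (Set.toFinite {y | y ∈ Y ∧ R ≤ stabilizer K y}).toFinset

theorem mem_Fs {R : Subgroup K} {y : X} : y ∈ Fs Y R ↔ y ∈ Y ∧ R ≤ stabilizer K y := by
  simp [Fs]

theorem Su.ndF (H : Su p ρ Y Q e τ) {R : Subgroup K} (hR : IsPGroup p R) : ¬ p ∣ (Fs Y R).card := by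
  let Ys : SubMulAction K X := ⟨Y, fun g {y} hy => H.inv g y hy⟩
  have h1 := hR.card_modEq_card_fixedPoints Ys
  have h2 : Nat.card Ys = Y.ncard := Nat.card_coe_set_eq Y
  have h3 : Nat.card (fixedPoints R Ys) = (Fs Y R).card := by
    rw [← Nat.card_eq_finsetCard]
    refine Nat.card_congr ⟨fun y => ⟨y.1.1, mem_Fs.2 ⟨y.1.2, fun r hr => congrArg Subtype.val (y.2 ⟨r, hr⟩)⟩⟩,
      fun y => ⟨⟨y.1, (mem_Fs.1 y.2).1⟩, fun r => Subtype.ext ((mem_Fs.1 y.2).2 r.2)⟩, fun _ => rfl, fun _ => rfl⟩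
  rw [h2, h3] at h1
  exact fun h => H.nd ((h1.dvd_iff dvd_rfl).2 h)

theorem Su.lift (H : Su p ρ Y Q e τ) (S : Sylow p G) {R : Subgroup K} (hR : IsPGroup p R) (h : R.map ρ ≤ S) :
    ∃ x ∈ Y, R ≤ stabilizer K x ∧ (stabilizer K x).map ρ = S := by
  obtain ⟨-, -, R1, h1, h2, -, h3⟩ := sylC H.sj S.2 hR hR h h
  obtain ⟨x, hx⟩ := Finset.card_pos.1 (Nat.pos_of_ne_zero fun h0 => H.ndF h1 (h0 ▸ dvd_zero p))
  obtain ⟨a, b⟩ := mem_Fs.1 hx
  exact ⟨x, a, h2.trans b, S.is_maximal' ((H.pg x a).map ρ) (h3.ge.trans (map_mono b))⟩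

variable (p e τ) in
/-- averaging -/
noncomputable def av (Z : Finset X) (x : X) : D := Z.card ^ (Nat.totient (p ^ e) - 1) • ∑ y ∈ Z, τ y x

theorem Su.av_eqv (H : Su p ρ Y Q e τ) {Z Z' : Finset X} (g : K) (h : ∀ y, y ∈ Z ↔ g • y ∈ Z') (x : X) :
    av p e τ Z' (g • x) = ρ g • av p e τ Z x := by
  unfold av
  have e : ∑ y ∈ Z, ρ g • τ y x = ∑ y ∈ Z', τ y (g • x) :=
    Finset.sum_equiv (toPerm g) h fun y _ => (H.eqv g y x).symm
  rw [← e, ← Finset.smul_sum, Finset.card_equiv (toPerm g) h, smul_comm]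

theorem Su.av_sub (H : Su p ρ Y Q e τ) {R : Subgroup K} (hR : IsPGroup p R) (h1 : Mx p ρ R) (h2 : Q (R.map ρ))
    {x y : X} (hx : x ∈ Y) (hy : y ∈ Y) (a : R ≤ stabilizer K x) (b : R ≤ stabilizer K y) :
    τ x y = av p e τ (Fs Y R) y - av p e τ (Fs Y R) x := by
  unfold av
  rw [← smul_sub, ← Finset.sum_sub_distrib,
    Finset.sum_congr rfl (g := fun _ => τ x y) (fun z hz => by
      rw [← H.cy z (mem_Fs.1 hz).1 x hx y hy R h1 h2 (mem_Fs.1 hz).2 a b, add_sub_cancel_left]),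
    Finset.sum_const, smul_smul, ← pow_succ, Nat.sub_add_cancel (Nat.totient_pos.2 (pow_pos (Fact.out : p.Prime).pos e))]
  have h3 := Nat.ModEq.pow_totient (((Nat.Prime.coprime_iff_not_dvd Fact.out).2 (H.ndF hR)).symm.pow_right e)
  have h4 : 0 < (Fs Y R).card := Nat.pos_of_ne_zero fun h0 => H.ndF hR (by rw [h0]; exact dvd_zero p)
  obtain ⟨k, hk⟩ := (Nat.modEq_iff_dvd' (Nat.one_le_pow _ _ h4)).1 h3.symm
  rw [Nat.eq_add_of_sub_eq (Nat.one_le_pow _ _ h4) hk,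
    add_smul, one_smul, mul_comm, mul_smul, H.tor, smul_zero, zero_add]

theorem st_le {x y : X} (g : K) (h : stabilizer K x ≤ stabilizer K y) :
    stabilizer K (g • x) ≤ stabilizer K (g • y) := by
  rw [stabilizer_smul_eq_stabilizer_map_conj, stabilizer_smul_eq_stabilizer_map_conj]
  exact map_mono h

theorem st_cj {x : X} {g u : K} : u ∈ stabilizer K (g • x) ↔ g⁻¹ * u * g ∈ stabilizer K x := by
  simp only [mem_stabilizer_iff, mul_smul, inv_smul_eq_iff]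

theorem st_map (x : X) (g : K) :
    (stabilizer K (g • x)).map ρ = MulAut.conj (ρ g) • (stabilizer K x).map ρ := by
  ext s
  rw [mem_pointwise_smul_iff_inv_smul_mem]
  constructor
  · rintro ⟨u, hu, rfl⟩
    exact ⟨_, st_cj.1 hu, by simp⟩
  · rintro ⟨u, hu, h⟩
    refine ⟨g * u * g⁻¹, st_cj.2 (by simpa [mul_assoc] using hu), ?_⟩
    simp [h, mul_assoc]

variable (K p e τ Y) in
noncomputable def s0 (x : X) : D := av p e τ (Fs Y (stabilizer K x)) x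

theorem Su.s0_eqv (H : Su p ρ Y Q e τ) (g : K) (x : X) : s0 p K Y e τ (g • x) = ρ g • s0 p K Y e τ x := by
  refine H.av_eqv g (fun y => ?_) x
  rw [mem_Fs, mem_Fs]
  refine ⟨fun h => ⟨H.inv g y h.1, st_le g h.2⟩, fun h => ⟨by simpa using H.inv g⁻¹ _ h.1, ?_⟩⟩
  simpa using st_le g⁻¹ h.2

variable (K p e τ Y) in
noncomputable def t1 (x y : X) : D := τ x y - s0 p K Y e τ y + s0 p K Y e τ x

theorem Su.t1_eqv (H : Su p ρ Y Q e τ) (g : K) (x y : X) :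
    t1 p K Y e τ (g • x) (g • y) = ρ g • t1 p K Y e τ x y := by
  simp only [t1, H.s0_eqv, H.eqv, smul_add, smul_sub]

theorem Su.t1_cy (H : Su p ρ Y Q e τ) {x y z : X} (hx : x ∈ Y) (hy : y ∈ Y) (hz : z ∈ Y) {R : Subgroup K}
    (h1 : Mx p ρ R) (h2 : Q (R.map ρ)) (a : R ≤ stabilizer K x) (b : R ≤ stabilizer K y) (c : R ≤ stabilizer K z) :
    t1 p K Y e τ x y + t1 p K Y e τ y z = t1 p K Y e τ x z := by
  simp only [t1]
  rw [← H.cy x hx y hy z hz R h1 h2 a b c]; abel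

theorem Su.wd (H : Su p ρ Y Q e τ) {x x' : X} (hx : x ∈ Y) (hx' : x' ∈ Y) {R : Subgroup K}
    (h1 : Mx p ρ R) (h2 : Q (R.map ρ)) (a : R ≤ stabilizer K x) (b : R ≤ stabilizer K x')
    (h : (stabilizer K x).map ρ = (stabilizer K x').map ρ) : t1 p K Y e τ x x' = 0 := by
  obtain ⟨c, hc, R1, k1, k2, k3, k4⟩ := sylC H.sj ((H.pg x hx).map ρ) (H.pg x hx) (H.pg x' hx') le_rfl h.ge
  have k5 := (h1.mono a).le k2 k1 k4.le
  have hcx := H.inv c x hx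
  have k6 : stabilizer K x' ≤ stabilizer K (c • x) := fun u hu => st_cj.2 (k5 (k3 u hu))
  have hc1 : ρ c = 1 := hc
  have k7 : stabilizer K (c • x) = stabilizer K x' := le_antisymm ((h1.mono b).le k6 (H.pg _ hcx) (by
    rw [st_map, hc1, map_one, one_smul, h])) k6
  set P := stabilizer K x ⊓ stabilizer K x' with hP
  have hRP : R ≤ P := le_inf a b
  have hPp : IsPGroup p P := (H.pg x hx).to_inf_left
  have n1 : ∀ u ∈ P, c⁻¹ * u * c ∈ P := fun u hu => by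
    have m1 : c⁻¹ * u * c * u⁻¹ ∈ R := h1.mem a (H.pg x hx) (mul_mem (k5 (k3 u hu.2)) (inv_mem hu.1))
      (by simp [MonoidHom.mem_ker, hc1])
    simpa using mul_mem (hRP m1) hu
  have n2 : c⁻¹ ∈ normalizer (P : Set K) := mem_normalizer_fintype (fun u hu => by simpa using n1 u hu)
  have n3 : ∀ u ∈ P, c * u * c⁻¹ ∈ P := fun u hu => (mem_normalizer_iff.1 (inv_mem n2) u).1 hu |> fun h => by
    simpa using h
  have e1 : t1 p K Y e τ x (c • x) = 0 := by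
    have := H.av_eqv (Z := Fs Y P) (Z' := Fs Y P) c (fun y => by
      rw [mem_Fs, mem_Fs]
      refine ⟨fun h => ⟨H.inv c y h.1, fun u hu => st_cj.2 (h.2 (n1 u hu))⟩,
        fun h => ⟨by simpa using H.inv c⁻¹ _ h.1, fun u hu => ?_⟩⟩
      simpa [mul_assoc] using st_cj.1 (h.2 (n3 u hu))) x
    rw [t1, H.s0_eqv, H.av_sub hPp (h1.mono hRP) (H.up _ _ (map_mono hRP) h2) hx hcx inf_le_left
      (inf_le_right.trans k6), this, hc1, one_smul, one_smul]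
    abel
  have e2 : t1 p K Y e τ (c • x) x' = 0 := by
    rw [t1, H.av_sub (H.pg x' hx') (h1.mono b) (H.up _ _ (map_mono b) h2) hcx hx' k6 le_rfl, s0, s0, k7]
    abel
  rw [← H.t1_cy hx hcx hx' h1 h2 a (b.trans k6) b, e1, e2, add_zero]

variable (p ρ Y Q) in
/-- `(x, y)` is an edge lying over `(S₁, S₂)` -/
def Ov (S₁ S₂ : Sylow p G) (x y : X) : Prop :=
  x ∈ Y ∧ y ∈ Y ∧ (stabilizer K x).map ρ = S₁ ∧ (stabilizer K y).map ρ = S₂ ∧
    ∃ R, Mx p ρ R ∧ Q (R.map ρ) ∧ R ≤ stabilizer K x ∧ R ≤ stabilizer K y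

theorem Su.un (H : Su p ρ Y Q e τ) {S₁ S₂ : Sylow p G} {x y x' y' : X} (h : Ov p ρ Y Q S₁ S₂ x y)
    (h' : Ov p ρ Y Q S₁ S₂ x' y') : t1 p K Y e τ x y = t1 p K Y e τ x' y' := by
  have key : ∀ {x y x' y' : X}, x ∈ Y → y ∈ Y → x' ∈ Y → y' ∈ Y →
      (stabilizer K x).map ρ = (stabilizer K x').map ρ → (stabilizer K y).map ρ = (stabilizer K y').map ρ →
      ∀ R, Mx p ρ R → Q (R.map ρ) → R ≤ stabilizer K x → R ≤ stabilizer K y → R ≤ stabilizer K x' →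
        R ≤ stabilizer K y' → t1 p K Y e τ x y = t1 p K Y e τ x' y' := by
    intro x y x' y' hx hy hx' hy' e1 e2 R h1 h2 a b c d
    rw [← H.t1_cy hx hx' hy h1 h2 a c b, H.wd hx hx' h1 h2 a c e1, ← H.t1_cy hx' hy hy' h1 h2 c b d,
      H.wd hy hy' h1 h2 b d e2, zero_add, add_zero]
  obtain ⟨hx, hy, e1, e2, R, h1, h2, a, b⟩ := h
  obtain ⟨hx', hy', e1', e2', R', h1', h2', a', b'⟩ := h'
  obtain ⟨c, hc, R1, k1, k2, k3, k4⟩ := sylC H.sj (S := (S₁ : Subgroup G) ⊓ S₂) S₁.2.to_inf_left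
    ((H.pg x hx).to_le a) ((H.pg x' hx').to_le a') (le_inf (e1 ▸ map_mono a) (e2 ▸ map_mono b))
    (le_inf (e1' ▸ map_mono a') (e2' ▸ map_mono b'))
  obtain ⟨x1, m1, m2, m3⟩ := H.lift S₁ k1 (k4.le.trans inf_le_left)
  obtain ⟨y1, n1, n2, n3⟩ := H.lift S₂ k1 (k4.le.trans inf_le_right)
  have hc1 : ρ c = 1 := hc
  rw [key hx hy m1 n1 (e1.trans m3.symm) (e2.trans n3.symm) R h1 h2 a b (k2.trans m2) (k2.trans n2),
    key hx' hy' (H.inv c _ m1) (H.inv c _ n1) (by rw [st_map, hc1, map_one, one_smul, e1', m3])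
      (by rw [st_map, hc1, map_one, one_smul, e2', n3]) R' h1' h2' a' b'
      (fun u hu => st_cj.2 (m2 (k3 u hu))) (fun u hu => st_cj.2 (n2 (k3 u hu))), H.t1_eqv, hc1, one_smul]

theorem Su.ov_eqv (H : Su p ρ Y Q e τ) {S₁ S₂ : Sylow p G} {x y : X} (h : Ov p ρ Y Q S₁ S₂ x y) (g : K) :
    Ov p ρ Y Q (ρ g • S₁) (ρ g • S₂) (g • x) (g • y) := by
  obtain ⟨hx, hy, e1, e2, R, h1, h2, a, b⟩ := h
  have hs : ∀ u ∈ stabilizer K x ⊓ stabilizer K y, g * u * g⁻¹ ∈ stabilizer K (g • x) ⊓ stabilizer K (g • y) :=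
    fun u hu => ⟨st_cj.2 (by simpa [mul_assoc] using hu.1), st_cj.2 (by simpa [mul_assoc] using hu.2)⟩
  refine ⟨H.inv g x hx, H.inv g y hy, by rw [st_map, e1, Sylow.coe_subgroup_smul],
    by rw [st_map, e2, Sylow.coe_subgroup_smul], stabilizer K (g • x) ⊓ stabilizer K (g • y),
    (h1.mono (le_inf a b)).cj g hs, H.up _ _ ?_ (H.cj (ρ g) _ h2), inf_le_left, inf_le_right⟩
  intro s hs'
  rw [mem_pointwise_smul_iff_inv_smul_mem] at hs'
  obtain ⟨u, hu, e⟩ := hs'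
  refine ⟨_, hs u (le_inf a b hu), ?_⟩
  simp [e, mul_assoc]

theorem Su.core (H : Su p ρ Y Q e τ) (hBT : ∀ τ : Sylow p G → Sylow p G → D, Cy D Q τ → Cb D Q τ) :
    ∃ h : X → D, (∀ (g : K), ∀ x ∈ Y, Mx p ρ (stabilizer K x) → Q ((stabilizer K x).map ρ) →
      h (g • x) = ρ g • h x) ∧
      ∀ x ∈ Y, ∀ y ∈ Y, ∀ R, Mx p ρ R → Q (R.map ρ) → R ≤ stabilizer K x → R ≤ stabilizer K y →
        τ x y = h y - h x := by
  classical
  let tb : Sylow p G → Sylow p G → D := fun S₁ S₂ =>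
    if h : ∃ z : X × X, Ov p ρ Y Q S₁ S₂ z.1 z.2 then t1 p K Y e τ h.choose.1 h.choose.2 else 0
  have htb : ∀ S₁ S₂ x y, Ov p ρ Y Q S₁ S₂ x y → tb S₁ S₂ = t1 p K Y e τ x y := fun S₁ S₂ x y h => by
    have h' : ∃ z : X × X, Ov p ρ Y Q S₁ S₂ z.1 z.2 := ⟨(x, y), h⟩
    simp only [tb, dif_pos h']
    exact H.un h'.choose_spec h
  obtain ⟨σ, hσ1, hσ2⟩ := hBT tb ⟨fun g S₁ S₂ => by
    obtain ⟨k, rfl⟩ := H.sj g
    by_cases h : ∃ z : X × X, Ov p ρ Y Q S₁ S₂ z.1 z.2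
    · obtain ⟨z, hz⟩ := h
      rw [htb _ _ _ _ hz, htb _ _ _ _ (H.ov_eqv hz k), H.t1_eqv]
    · have h' : ¬ ∃ z : X × X, Ov p ρ Y Q (ρ k • S₁) (ρ k • S₂) z.1 z.2 := fun ⟨z, hz⟩ =>
        h ⟨(k⁻¹ • z.1, k⁻¹ • z.2), by simpa using H.ov_eqv hz k⁻¹⟩
      simp only [tb, dif_neg h, dif_neg h', smul_zero], fun S₁ S₂ S₃ hQ => by
    obtain ⟨T, t1', t2, t3⟩ := mx_ex (p := p) (ρ := ρ)
    have t4 : T.map ρ ≤ (S₁ : Subgroup G) ⊓ S₂ ⊓ S₃ := by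
      rintro _ ⟨u, hu, rfl⟩
      rw [show ρ u = 1 from t2 hu]
      exact one_mem _
    obtain ⟨-, -, R, k1, k2, -, k4⟩ := sylC H.sj (S := (S₁ : Subgroup G) ⊓ S₂ ⊓ S₃)
      S₃.2.to_inf_right t1' t1' t4 t4
    obtain ⟨x, a1, a2, a3⟩ := H.lift S₁ k1 (k4.le.trans (inf_le_left.trans inf_le_left))
    obtain ⟨y, b1, b2, b3⟩ := H.lift S₂ k1 (k4.le.trans (inf_le_left.trans inf_le_right))
    obtain ⟨z, c1, c2, c3⟩ := H.lift S₃ k1 (k4.le.trans inf_le_right)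
    have q : Q (R.map ρ) := k4 ▸ hQ
    have m := t3.mono k2
    rw [htb _ _ x y ⟨a1, b1, a3, b3, R, m, q, a2, b2⟩, htb _ _ y z ⟨b1, c1, b3, c3, R, m, q, b2, c2⟩,
      htb _ _ x z ⟨a1, c1, a3, c3, R, m, q, a2, c2⟩, H.t1_cy a1 b1 c1 m q a2 b2 c2]⟩
  have hex : ∀ x : X, ∃ z : X × Sylow p G, x ∈ Y →
      z.1 ∈ Y ∧ stabilizer K x ≤ stabilizer K z.1 ∧ (stabilizer K z.1).map ρ = z.2 := fun x => by
    by_cases hx : x ∈ Y
    · obtain ⟨S, hS⟩ := ((H.pg x hx).map ρ).exists_le_sylow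
      obtain ⟨y, h⟩ := H.lift S (H.pg x hx) hS
      exact ⟨(y, S), fun _ => h⟩
    · exact ⟨(x, default), fun h => absurd h hx⟩
  choose z hz using hex
  have key : ∀ x ∈ Y, ∀ x' ∈ Y, ∀ y ∈ Y, ∀ y' ∈ Y, ∀ (S S' : Sylow p G) R, Mx p ρ R → Q (R.map ρ) →
      R ≤ stabilizer K x → R ≤ stabilizer K x' → R ≤ stabilizer K y → R ≤ stabilizer K y' →
      (stabilizer K y).map ρ = S → (stabilizer K y').map ρ = S' →
      τ x x' = (σ S' + s0 p K Y e τ y' - τ x' y') - (σ S + s0 p K Y e τ y - τ x y) := by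
    intro x hx x' hx' y hy y' hy' S S' R h1 h2 a a' b b' e1 e2
    have m1 := htb S S' y y' ⟨hy, hy', e1, e2, R, h1, h2, b, b'⟩
    rw [hσ2 S S' (H.up _ _ (le_inf (e1 ▸ map_mono b) (e2 ▸ map_mono b')) h2), t1] at m1
    have m2 := H.cy x hx y hy y' hy' R h1 h2 a b b'
    have m3 := H.cy x hx x' hx' y' hy' R h1 h2 a a' b'
    rw [eq_sub_of_add_eq m3, ← m2, eq_add_of_sub_eq m1]; abel
  refine ⟨fun x => σ (z x).2 + s0 p K Y e τ (z x).1 - τ x (z x).1, fun g x hx h1 h2 => ?_,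
    fun x hx y hy R h1 h2 a b => ?_⟩
  · obtain ⟨a1, a2, a3⟩ := hz x hx
    have hgx := H.inv g x hx
    obtain ⟨b1, b2, b3⟩ := hz _ hgx
    have h1' : Mx p ρ (stabilizer K (g • x)) := h1.cj g fun u hu => st_cj.2 (by simpa [mul_assoc] using hu)
    have h2' : Q ((stabilizer K (g • x)).map ρ) := by rw [st_map]; exact H.cj _ _ h2
    have m1 := key _ hgx _ hgx _ b1 _ (H.inv g _ a1) _ (ρ g • (z x).2) _ h1' h2' le_rfl le_rfl b2 (st_le g a2) b3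
      (by rw [st_map, a3, Sylow.coe_subgroup_smul])
    have m2 := H.cy _ hgx _ hgx _ hgx _ h1' h2' le_rfl le_rfl le_rfl
    rw [add_eq_left.1 m2, hσ1, H.s0_eqv, H.eqv] at m1
    simp only [smul_sub, smul_add]
    exact (sub_eq_zero.1 m1.symm).symm
  · obtain ⟨a1, a2, a3⟩ := hz x hx
    obtain ⟨b1, b2, b3⟩ := hz y hy
    exact key x hx y hy _ a1 _ b1 _ _ R h1 h2 a b (a.trans a2) (b.trans b2) a3 b3

end core
end H20.CL
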