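import Cfsg.Agent.H20.CL3
set_option autoImplicit false
set_option linter.unusedSectionVars false
/-! S5242 chunk RED, part 2. -/
namespace H20.CL
open Subgroup MulAction Pointwise H18.CL

universe u v

section tr
variable {Γ : Type*} [Group Γ] [Finite Γ] {M : Type*} [AddCommGroup M] [DistribMulAction Γ M] {K : Subgroup Γ}
  {D : AddSubgroup M} {G : Type*} [Group G] [DistribMulAction G D] [FaithfulSMul G D] {ρ : K →* G}

theorem ker_iff (hρ : ∀ (k : K) (d : D), ((ρ k • d : D) : M) = (k : Γ) • (d : M)) (k : K) :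
    k ∈ ρ.ker ↔ (k : Γ) ∈ Cen Γ D := by
  rw [MonoidHom.mem_ker, mem_Cen]
  constructor
  · intro h d hd
    have := hρ k ⟨d, hd⟩
    rw [h, one_smul] at this
    exact this.symm
  · intro h
    exact eq_of_smul_eq_smul (α := D) fun d => Subtype.ext (by rw [hρ, h d d.2, one_smul])

theorem card_im (hρ : ∀ (k : K) (d : D), ((ρ k • d : D) : M) = (k : Γ) • (d : M)) {B : Subgroup Γ} (hB : B ≤ K) :
    Nat.card B = Nat.card (B ⊓ Cen Γ D : Subgroup Γ) * Nat.card ((B.subgroupOf K).map ρ) := by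
  rw [← Nat.card_congr (subgroupOfEquivOfLe hB).toEquiv, ← relIndex_ker,
    ← card_mul_index (ρ.ker.subgroupOf (B.subgroupOf K))]
  congr 1
  refine Nat.card_congr ⟨fun x => ⟨x.1.1, x.1.2, (ker_iff hρ _).1 x.2⟩,
    fun x => ⟨⟨⟨x.1, hB x.2.1⟩, x.2.1⟩, (ker_iff hρ _).2 x.2.2⟩, fun _ => rfl, fun _ => rfl⟩

theorem card_fx (hρ : ∀ (k : K) (d : D), ((ρ k • d : D) : M) = (k : Γ) • (d : M)) {B : Subgroup Γ} (hB : B ≤ K) :
    Nat.card (D ⊓ fx M B : AddSubgroup M) = Nat.card (fx D ((B.subgroupOf K).map ρ)) := by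
  refine Nat.card_congr ⟨fun x => ⟨⟨x.1, x.2.1⟩, ?_⟩, fun x => ⟨x.1.1, x.1.2, fun g hg => ?_⟩,
    fun _ => rfl, fun _ => rfl⟩
  · rintro _ ⟨k, hk, rfl⟩
    exact Subtype.ext ((hρ k _).trans (x.2.2 k hk))
  · exact (hρ ⟨g, hB hg⟩ x.1).symm.trans (congrArg Subtype.val (x.2 _ ⟨⟨g, hB hg⟩, hg, rfl⟩))

theorem jd_iff (hρ : ∀ (k : K) (d : D), ((ρ k • d : D) : M) = (k : Γ) • (d : M)) {P : Subgroup Γ} (hP : P ≤ K) :
    ¬ JD D P ≤ Cen Γ D ↔ Qf D ((P.subgroupOf K).map ρ) := by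
  have pre : ∀ (B : Subgroup Γ) (A : Subgroup G), A ≤ (B.subgroupOf K).map ρ →
      (((A.comap ρ).map K.subtype ⊓ B).subgroupOf K).map ρ = A := fun B A hA => by
    apply le_antisymm
    · rintro _ ⟨k, ⟨⟨k', hk', e⟩, -⟩, rfl⟩
      rw [← Subtype.ext (p := (· ∈ K)) e]
      exact hk'
    · intro a ha
      obtain ⟨k, hk, rfl⟩ := hA ha
      exact ⟨k, ⟨⟨k, ha, rfl⟩, hk⟩, rfl⟩
  have cen : ∀ (B : Subgroup Γ) (A : Subgroup G), B ≤ K → B ⊓ Cen Γ D ≤ (A.comap ρ).map K.subtype ⊓ B :=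
    fun B A hB g hg => ⟨⟨⟨g, hB hg.1⟩, by
      show ρ _ ∈ A
      rw [MonoidHom.mem_ker.1 ((ker_iff hρ ⟨g, hB hg.1⟩).2 hg.2)]
      exact A.one_mem, rfl⟩, hg.1⟩
  have eqC : ∀ B B₀ : Subgroup Γ, B ⊓ Cen Γ D ≤ B₀ → B₀ ≤ B → B₀ ⊓ Cen Γ D = B ⊓ Cen Γ D := fun B B₀ h1 h2 =>
    le_antisymm (inf_le_inf_right _ h2) (le_inf h1 inf_le_right)
  constructor
  · intro h
    rw [JD, sSup_le_iff] at h
    push Not at h
    obtain ⟨B, ⟨h1, h2, h3⟩, h4⟩ := h
    have hB := h1.trans hP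
    refine ⟨(B.subgroupOf K).map ρ, map_mono (comap_mono h1), fun h => h4 fun g hg => ?_, ?_, fun A hA => ?_⟩
    · refine (ker_iff hρ ⟨g, hB hg⟩).1 ?_
      exact mem_bot.1 (h ▸ mem_map_of_mem ρ (mem_subgroupOf.2 hg))
    · rintro _ ⟨a, ha, rfl⟩ _ ⟨b, hb, rfl⟩
      refine eq_of_smul_eq_smul (α := D) fun d => Subtype.ext ?_
      rw [mul_smul, mul_smul, hρ, hρ, hρ, hρ]
      exact h2 a ha b hb d d.2
    · have h5 := h3 _ (cen B A hB) inf_le_right
      rw [card_im hρ (inf_le_right.trans hB), card_fx hρ (inf_le_right.trans hB), pre B A hA,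
        eqC B _ (cen B A hB) inf_le_right, card_im hρ hB, card_fx hρ hB, mul_assoc, mul_assoc] at h5
      exact Nat.le_of_mul_le_mul_left h5 Nat.card_pos
  · rintro ⟨A, h1, h2, h3, h4⟩ h
    have hB : (A.comap ρ).map K.subtype ⊓ P ≤ K := inf_le_right.trans hP
    have h5 : Best D ((A.comap ρ).map K.subtype ⊓ P) := by
      refine ⟨?_, fun B₀ a b => ?_⟩
      · rintro _ ⟨⟨a, ha, rfl⟩, -⟩ _ ⟨⟨b, hb, rfl⟩, -⟩ d hd
        have := congrArg (fun g : G => ((g • (⟨d, hd⟩ : D) : D) : M)) (h3 _ ha _ hb)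
        simp only [mul_smul, hρ] at this
        exact this
      · rw [card_im hρ (b.trans hB), card_fx hρ (b.trans hB), eqC _ B₀ a b, card_im hρ hB, card_fx hρ hB,
          mul_assoc, mul_assoc, pre P A h1]
        exact Nat.mul_le_mul_left _ (h4 _ ((map_mono (comap_mono b)).trans (pre P A h1).le))
    have h6 := (le_sSup (s := {B | B ≤ P ∧ Best D B}) ⟨inf_le_right, h5⟩).trans h
    apply h2
    rw [← pre P A h1, eq_bot_iff]
    rintro _ ⟨k, hk, rfl⟩
    exact mem_bot.2 ((ker_iff hρ k).2 (h6 hk))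

theorem ns_iff {p : ℕ} (hρ : ∀ (k : K) (d : D), ((ρ k • d : D) : M) = (k : Γ) • (d : M)) {P : Subgroup Γ}
    (hP : P ≤ K) : ¬ NS p (K ⊓ Cen Γ D) P ↔ Mx p ρ (P.subgroupOf K) := by
  have e : Nat.card (P ⊓ (K ⊓ Cen Γ D) : Subgroup Γ) = Nat.card (P.subgroupOf K ⊓ ρ.ker : Subgroup K) :=
    Nat.card_congr ⟨fun x => ⟨⟨x.1, x.2.2.1⟩, x.2.1, (ker_iff hρ _).2 x.2.2.2⟩,
      fun x => ⟨x.1.1, x.2.1, x.1.2, (ker_iff hρ _).1 x.2.2⟩, fun _ => rfl, fun _ => rfl⟩
  rw [NS, Mx, e]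
  push Not
  constructor
  · intro h T h1 h2
    have := h (T.map K.subtype) (by
      rintro _ ⟨k, hk, rfl⟩
      exact ⟨k.2, (ker_iff hρ k).1 (h1 hk)⟩) (h2.map _)
    rwa [card_subtype] at this
  · intro h T h1 h2
    have := h (T.subgroupOf K) (fun k hk => (ker_iff hρ k).2 (h1 hk).2) (h2.comap_of_injective _ (subtype_injective _))
    rwa [Nat.card_congr (subgroupOfEquivOfLe (h1.trans inf_le_left)).toEquiv] at this

end tr

theorem qf_cj {G : Type*} [Group G] {D : Type*} [AddCommGroup D] [DistribMulAction G D] (g : G) (P : Subgroup G)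
    (h : Qf D P) : Qf D (MulAut.conj g • P) := by
  obtain ⟨A, h1, h2, h3, h4⟩ := h
  have c1 : ∀ (g : G) (B : Subgroup G), Nat.card (MulAut.conj g • B : Subgroup G) = Nat.card B := fun g B =>
    (Nat.card_congr (equivSMul (MulAut.conj g) B).toEquiv).symm
  have c2 : ∀ (g : G) (B : Subgroup G), Nat.card (fx D (MulAut.conj g • B)) = Nat.card (fx D B) := fun g B => by
    refine Nat.card_congr ⟨fun x => ⟨g⁻¹ • x.1, fun b hb => ?_⟩, fun x => ⟨g • x.1, fun b hb => ?_⟩,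
      fun _ => by simp, fun _ => by simp⟩
    · have := x.2 _ (smul_mem_pointwise_smul b (MulAut.conj g) B hb)
      rw [eq_inv_smul_iff, ← mul_smul, ← mul_smul]
      exact this
    · have := x.2 _ (mem_pointwise_smul_iff_inv_smul_mem.1 hb)
      rw [← inv_smul_eq_iff]
      simpa [mul_smul] using this
  refine ⟨MulAut.conj g • A, pointwise_smul_le_pointwise_smul_iff.2 h1, fun h => h2 ?_, ?_, fun B hB => ?_⟩
  · have := c1 g A
    rw [h, card_bot] at this
    exact card_eq_one.1 this.symm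
  · rintro _ ⟨a, ha, rfl⟩ _ ⟨b, hb, rfl⟩
    show MulAut.conj g a * MulAut.conj g b = MulAut.conj g b * MulAut.conj g a
    rw [← map_mul, ← map_mul, h3 a ha b hb]
  · have := h4 (MulAut.conj g⁻¹ • B) (by
      rw [map_inv]; exact subset_pointwise_smul_iff.1 hB)
    rwa [c1, c2, ← c1 g A, ← c2 g A] at this

theorem dd0 {X M : Type*} [AddCommGroup M] (f : List X → M) : dd [] f = 0 := rfl

theorem dd1 {X M : Type*} [AddCommGroup M] (x : X) (l : List X) (f : List X → M) :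
    dd (x :: l) f = f l - dd l (fun l' => f (x :: l')) := rfl

theorem red : RED.{u, v} := by
  intro hBT p _ Γ _ _ X _ _ M _ _ K Y D _ e htor hKD hM f hf hdf
  classical
  let _ : DistribMulAction K D :=
    { smul := fun k d => ⟨(k : Γ) • (d : M), hKD k k.2 d d.2⟩
      one_smul := fun d => Subtype.ext (one_smul Γ (d : M))
      mul_smul := fun a b d => Subtype.ext (mul_smul (a : Γ) (b : Γ) (d : M))
      smul_zero := fun a => Subtype.ext (smul_zero (a : Γ))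
      smul_add := fun a b c => Subtype.ext (smul_add (a : Γ) (b : M) (c : M)) }
  let ρ0 : K →* (D ≃ₗ[ℤ] D) := DistribMulAction.toModuleAut ℤ D
  let ρ : K →* ρ0.range := ρ0.rangeRestrict
  have hsj : Function.Surjective ρ := ρ0.rangeRestrict_surjective
  have : Finite ρ0.range := Finite.of_surjective _ hsj
  have hρ : ∀ (k : K) (d : D), ((ρ k • d : D) : M) = (k : Γ) • (d : M) := fun _ _ => rfl
  have hPK : ∀ l : List X, Pst K l ≤ K := fun l g hg => hg.1
  have fam : ∀ l : List X, (¬ NS p (K ⊓ Cen Γ D) (Pst K l) ∧ ¬ JD D (Pst K l) ≤ Cen Γ D) ↔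
      Mx p ρ ((Pst K l).subgroupOf K) ∧ Qf D (((Pst K l).subgroupOf K).map ρ) := fun l => by
    rw [ns_iff hρ (hPK l), jd_iff hρ (hPK l)]
  have up : ∀ P P' : Subgroup ρ0.range, P ≤ P' → Qf D P → Qf D P' := fun P P' h ⟨A, a, b⟩ => ⟨A, a.trans h, b⟩
  set R := Rf K Y fun P => ¬ NS p (K ⊓ Cen Γ D) P ∧ ¬ JD D P ≤ Cen Γ D with hRdef
  have mkR : ∀ (l : List X) (T : Subgroup K), (∀ x ∈ l, x ∈ Y) → Mx p ρ T → Qf D (T.map ρ) →
      (∀ x ∈ l, T ≤ stabilizer K x) → R l := fun l T h1 h2 h3 h4 => by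
    have : T ≤ (Pst K l).subgroupOf K := fun t ht => ⟨t.2, fun x hx => h4 x hx ht⟩
    exact ⟨h1, (fam l).2 ⟨h2.mono this, up _ _ (map_mono this) h3⟩⟩
  have stl : ∀ (l : List X), ∀ x ∈ l, (Pst K l).subgroupOf K ≤ stabilizer K x := fun l x hx t ht => ht.2 x hx
  have Rinv : ∀ (g : K) (l : List X), R l → R (l.map ((g : Γ) • ·)) := fun g l h => by
    obtain ⟨h2, h3⟩ := (fam l).1 h.2
    refine mkR _ (((Pst K l).subgroupOf K).map (MulAut.conj g).toMonoidHom) (fun x hx => ?_)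
      (h2.cj g fun u hu => ⟨u, hu, rfl⟩) (up _ _ ?_ (qf_cj (ρ g) _ h3)) (fun x hx => ?_)
    · obtain ⟨y, hy, rfl⟩ := List.mem_map.1 hx
      exact hM.inv g g.2 y (h.1 y hy)
    · rintro _ ⟨_, ⟨u, hu, rfl⟩, rfl⟩
      exact ⟨_, ⟨u, hu, rfl⟩, by simp⟩
    · obtain ⟨y, hy, rfl⟩ := List.mem_map.1 hx
      rintro _ ⟨u, hu, rfl⟩
      exact (st_cj (g := g)).2 (by simpa [mul_assoc] using stl l y hy hu)
  have fD : ∀ x y, f [x, y] ∈ D := fun x y => by
    by_cases h : R [x, y]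
    · exact (hf.mem _ rfl h).1
    · rw [hf.off _ rfl h]; exact D.zero_mem
  have H : Su p ρ Y (Qf D) e (fun x y => (⟨f [x, y], fD x y⟩ : D)) :=
    { sj := hsj
      inv := fun g y hy => hM.inv g g.2 y hy
      pg := fun y hy => ((hM.pg y hy).comap_of_injective K.subtype (subtype_injective _)).to_le
        fun t ht => ⟨t.2, fun x hx => by rw [List.mem_singleton.1 hx]; exact ht⟩
      nd := hM.nd
      tor := fun d => Subtype.ext (htor d d.2)
      up := up
      cj := qf_cj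
      eqv := fun g x y => by
        apply Subtype.ext
        rw [hρ]
        by_cases h : R [x, y]
        · exact sub_eq_zero.1 (AddSubgroup.mem_bot.1 (hf.eqv g g.2 _ rfl h))
        · have h' : ¬ R [g • x, g • y] := fun h' => h (by simpa [Subgroup.smul_def] using Rinv g⁻¹ _ h')
          show f [g • x, g • y] = _ • f [x, y]
          rw [hf.off _ rfl h, hf.off _ rfl h', smul_zero]
      cy := fun x hx y hy z hz T h1 h2 a b c => by
        have := AddSubgroup.mem_bot.1 (hdf [x, y, z] rfl (mkR _ T (by simp [hx, hy, hz]) h1 h2 (by simp [a, b, c])))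
        apply Subtype.ext
        simp only [dd0, dd1, sub_zero] at this
        show f [x, y] + f [y, z] = f [x, z]
        rw [sub_eq_zero.1 this]; abel }
  obtain ⟨h, h1, h2⟩ := H.core (hBT p ρ0.range D e H.tor)
  let h' : List X → M := fun l => if R l then (match l with | [x] => (h x : M) | _ => 0) else 0
  have hh : ∀ x, R [x] → h' [x] = h x := fun x hx => by simp only [h', if_pos hx]
  have hst : ∀ x : X, (Pst K [x]).subgroupOf K = stabilizer K x := fun x =>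
    le_antisymm (stl _ x (by simp)) fun t ht => ⟨t.2, fun y hy => by rw [List.mem_singleton.1 hy]; exact ht⟩
  have heq : ∀ (g : K) x, R [x] → (h (g • x) : M) = (g : Γ) • (h x : M) := fun g x hx => by
    obtain ⟨a, b⟩ := (fam _).1 hx.2
    rw [hst] at a b
    rw [h1 g x (hx.1 x (by simp)) a b, hρ]
  refine ⟨h', fun m hm => ?_, fun l hl hR => ?_⟩
  · obtain rfl : m = 1 := by omega
    refine ⟨fun l hl hR => ?_, fun l _ hR => by simp only [h', if_neg hR], fun g hg l hl hR => ?_⟩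
    · obtain ⟨x, rfl⟩ := List.length_eq_one_iff.1 hl
      rw [hh x hR]
      refine ⟨(h x).2, fun g hg => ?_⟩
      rw [← heq ⟨g, hg.1⟩ x hR]
      congr 2
      exact hg.2 x (by simp)
    · obtain ⟨x, rfl⟩ := List.length_eq_one_iff.1 hl
      have := Rinv ⟨g, hg⟩ _ hR
      rw [AddSubgroup.mem_bot, sub_eq_zero, hh x hR, ← heq ⟨g, hg⟩ x hR]
      exact hh _ this
  · obtain ⟨x, y, rfl⟩ := List.length_eq_two.1 hl
    obtain ⟨a, b⟩ := (fam _).1 hR.2
    have hx := hR.1 x (by simp)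
    have hy := hR.1 y (by simp)
    have sx := stl [x, y] x (by simp)
    have sy := stl [x, y] y (by simp)
    have := congrArg Subtype.val (h2 x hx y hy _ a b sx sy)
    rw [AddSubgroup.mem_bot, sub_eq_zero]
    simp only [dd0, dd1, sub_zero]
    rw [hh x (mkR _ _ (by simp [hx]) a b (by simp [sx])), hh y (mkR _ _ (by simp [hy]) a b (by simp [sy]))]
    exact this

end H20.CL
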