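import Mathlib

/-! The model `2 × A₅`. -/

set_option autoImplicit false
set_option maxRecDepth 100000
set_option synthInstance.maxSize 2000

namespace H20.J1
open Equiv

abbrev M : Type := Multiplicative (ZMod 2) × alternatingGroup (Fin 5)

instance instDecM : DecidableEq M := inferInstance
instance instFinM : Fintype M := inferInstance

def a0 : M := (Multiplicative.ofAdd 1, 1)
def b0 : M := (1, ⟨swap 0 1 * swap 2 3, Perm.mem_alternatingGroup.2 (by decide)⟩)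
def c0 : M := (1, ⟨swap 0 2 * swap 1 3, Perm.mem_alternatingGroup.2 (by decide)⟩)
def e0 : M := (1, ⟨swap 1 3 * swap 1 2, Perm.mem_alternatingGroup.2 (by decide)⟩)
def f0 : M := (1, ⟨swap 0 4 * swap 2 3, Perm.mem_alternatingGroup.2 (by decide)⟩)
def τ : M ≃* M := MulEquiv.prodCongr (MulEquiv.refl _) (MulAut.conjNormal (swap (2 : Fin 5) 3))

theorem τ_a : τ a0 = a0 := by decide +kernel
theorem τ_b : τ b0 = b0 := by decide +kernel
theorem τ_e : τ e0 = e0⁻¹ := by decide +kernel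
theorem card_M : Nat.card M = 120 := by rw [Nat.card_eq_fintype_card]; decide +kernel
theorem m_cen : ∀ x : M, x * a0 = a0 * x := by decide +kernel
theorem m_center : ∀ x : M, x * b0 = b0 * x → x * e0 = e0 * x → x * f0 = f0 * x → x = 1 ∨ x = a0 := by
  decide +kernel
theorem m_rel : a0 * a0 = 1 ∧ b0 * b0 = 1 ∧ c0 * c0 = 1 ∧ f0 * f0 = 1 ∧ b0 * c0 = c0 * b0 ∧
    e0 ^ 3 = 1 ∧ e0 * b0 * e0⁻¹ = c0 ∧ e0 * c0 * e0⁻¹ = b0 * c0 ∧ f0 * e0 * f0 = e0⁻¹ ∧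
    (f0 * b0) ^ 3 = 1 := by decide +kernel
theorem m_S : ∀ x : M, x * b0 = b0 * x ↔ x = 1 ∨ x = a0 ∨ x = b0 ∨ x = c0 ∨ x = a0 * b0 ∨
    x = b0 * c0 ∨ x = a0 * b0 * c0 ∨ x = a0 * c0 := by decide +kernel
theorem m_S2 : ∀ x : M, x * b0 = b0 * x → x * x = 1 ∧ ∀ y : M, y * b0 = b0 * y → x * y = y * x := by
  decide +kernel
theorem m_four : ∀ s : M, s * b0 = b0 * s → s ≠ 1 → s ≠ a0 → ∀ x : M, x * s = s * x →
    x * b0 = b0 * x := by decide +kernel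
theorem m_seven : ∀ x : M, x ^ 7 = 1 → x = 1 := by decide +kernel
theorem m_cardS : (Finset.univ.filter fun x : M => x * b0 = b0 * x).card = 8 := by decide +kernel
theorem m_cardN : (Finset.univ.filter fun x : M =>
    ∀ y : M, y * b0 = b0 * y → x * y * x⁻¹ * b0 = b0 * (x * y * x⁻¹)).card = 24 := by decide +kernel
theorem m_focal : ∀ x : M, x * b0 = b0 * x → ∀ n : M, (x⁻¹ * (n⁻¹ * x * n)).1 = 1 := by
  decide +kernel
theorem m_orb : ∀ s : M, s * b0 = b0 * s → s ≠ 1 → s ≠ a0 →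
    (∃ k < 3, e0 ^ k * s * (e0 ^ k)⁻¹ = b0) ∨ ∃ k < 3, e0 ^ k * s * (e0 ^ k)⁻¹ = a0 * b0 := by
  decide +kernel

theorem m_orb1 : ∀ k < 3, ∀ x : M, (e0 ^ k * x * (e0 ^ k)⁻¹ = b0 → x.1 = 1) ∧
    (e0 ^ k * x * (e0 ^ k)⁻¹ = a0 * b0 → x.1 ≠ 1) := by decide +kernel
/-- an involution commuting with an element of order `3` or `5` is central -/
theorem m_inv : ∀ x : M, x * x = 1 → x ≠ 1 → x ≠ a0 → ∀ y : M, y ^ 15 = 1 → x * y = y * x → y = 1 := by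
  decide +kernel
theorem m_three : ∀ x : M, x ^ 3 = 1 → x ≠ 1 → ∃ g : M, g * (f0 * b0) * g⁻¹ = x := by
  decide +kernel
theorem m_odd : ∀ x : M, x ^ 30 = 1 := by decide +kernel
theorem m_cent_e : ∀ x : M, x * e0 = e0 * x → ∃ k < 3, x = e0 ^ k ∨ x = a0 * e0 ^ k := by
  decide +kernel
theorem m_cent_y : ∀ x : M, x * (f0 * b0) = f0 * b0 * x → x ^ 6 = 1 := by decide +kernel
theorem m_two : ∀ x : M, x ^ 8 = 1 → x * (f0 * b0) = f0 * b0 * x ∨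
    x * (e0⁻¹ * f0 * c0 * e0) = e0⁻¹ * f0 * c0 * e0 * x → x = 1 ∨ x = a0 := by decide +kernel
theorem m_cardx : (Finset.univ.filter fun x : M =>
    x * (e0⁻¹ * f0 * c0 * e0) = e0⁻¹ * f0 * c0 * e0 * x).card = 10 := by decide +kernel
theorem m_cardJ : (Finset.univ.filter fun x : M => x * x = 1 ∧ x * b0 ≠ b0 * x).card = 24 := by
  decide +kernel
theorem m_list1 : ∀ z : M, z ^ 15 = 1 → z ≠ 1 → a0 * c0 * z * (a0 * c0) = z⁻¹ → ∃ k < 5,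
    (z ^ 3 = 1 ∧ (z ^ k = e0 * f0 * b0 * e0⁻¹ ∨ z ^ k = b0 * e0 * f0 * b0 * e0⁻¹ * b0)) ∨
      z ^ k = f0 * c0 ∨ z ^ k = b0 * f0 * c0 * b0 := by decide +kernel
theorem m_list2 : ∀ z : M, z ^ 15 = 1 → z ≠ 1 → b0 * c0 * z * (b0 * c0) = z⁻¹ → ∃ k < 5,
    (z ^ 3 = 1 ∧ (z ^ k = e0⁻¹ * f0 * b0 * e0 ∨ z ^ k = b0 * e0⁻¹ * f0 * b0 * e0 * b0)) ∨
      z ^ k = f0 * b0 * c0 ∨ z ^ k = b0 * f0 * c0 := by decide +kernel
theorem m_gen : ∀ x : M, ∃ s : M, s * b0 = b0 * s ∧ ∃ i < 3, x = s * e0 ^ i ∨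
    ∃ t : M, t * b0 = b0 * t ∧ x = s * e0 ^ i * f0 * t := by decide +kernel

end H20.J1
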