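import Cfsg.Agent.H21.MS3

/-! S5899: the configuration `|Y| = 4`. -/

set_option autoImplicit false
set_option linter.unusedVariables false
set_option linter.unusedSectionVars false

namespace H20.MS
open Cfsg Subgroup H18 H17.GS H28.S H2.GW H27.MS
open H19 hiding eq_bot_mono
open H28.NG hiding Hyp Uniq Ch
open H29.PU (bm)

universe u
variable {G : Type u} [Group G] [Finite G] {N Q T X S Y U : Subgroup G} {z y s t g x m : G}

/-- `s` interchanges two generators of the four-group `Y` -/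
structure B (Y : Subgroup G) (z y s : G) : Prop where
  k4 : K4 z y
  eY : Y = V4 z y
  sz : s * z * s⁻¹ = y
  sy : s * y * s⁻¹ = z

namespace B
variable (h : B Y z y s)
include h

theorem symm : B Y y z s := ⟨h.k4.symm, h.eY.trans (V4_comm _ _), h.sy, h.sz⟩
theorem zz : z * z = 1 := h.k4.tt
theorem zY : z ∈ Y := h.eY ▸ left_mem_V4 z y
theorem yY : y ∈ Y := h.eY ▸ right_mem_V4 z y
theorem ZY : zpowers z ≤ Y := zpowers_le' h.zY
theorem mem : x ∈ Y ↔ x = 1 ∨ x = z ∨ x = y ∨ x = z * y := h.eY ▸ h.k4.mem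
theorem Yle : Y ≤ T ↔ z ∈ T ∧ y ∈ T := h.eY ▸ V4_le
theorem centY : C(Y) = C[z] ⊓ C[y] := h.eY ▸ cent_V4 z y
theorem Yab : Abelem 2 Y := h.eY ▸ ⟨h.k4.ab, fun x a => by rw [pow_two, h.k4.sq a]⟩
theorem ZZ : zpowers z ⊓ zpowers y = ⊥ := H17.GS.zp_inf_eq_bot h.k4.ss fun k =>
  ((H17.GS.mem_zp h.zz).1 k).elim h.k4.s1 h.k4.ne.symm

theorem sN : s ∈ N(Y) :=
  mem_norm_of_cj_le (by rw [h.eY, cj_V4, V4_le, ← h.eY, h.sz, h.sy]; exact ⟨h.yY, h.zY⟩)

theorem ss : s * s ∈ C(Y) := h.centY ▸ ⟨mem_cent1_conj.2 (by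
  rw [← conj_conj', h.sz, h.sy]), mem_cent1_conj.2 (by rw [← conj_conj', h.sy, h.sz])⟩

theorem conj_y (h1 : g ∈ C[z]) (h2 : g ∈ N(Y)) : g ∈ C[y] ∨ g * y * g⁻¹ = z * y := by
  rcases h.mem.1 (conj_mem_of_norm h2 h.yY) with k | k | k | k
  · exact (h.k4.s1 (conj_eq_one_iff.1 k)).elim
  · exact (h.k4.ne (by simpa using (mem_cent1_conj.1 h1).trans k.symm)).elim
  · exact .inl (mem_cent1_conj.2 k)
  · exact .inr k

theorem conj_z (h1 : g ∉ C[z]) (h2 : g ∈ N(Y)) : g * z * g⁻¹ = y ∨ g * z * g⁻¹ = z * y := by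
  rcases h.mem.1 (conj_mem_of_norm h2 h.zY) with k | k | k | k
  · exact (h.k4.t1 (conj_eq_one_iff.1 k)).elim
  · exact (h1 (mem_cent1_conj.2 k)).elim
  · exact .inl k
  · exact .inr k

theorem G0Cm : C[z] ⊓ N(Y) ≤ Cm (zpowers z) Y := fun g ⟨a, b⟩ =>
  mem_Cm_of (cent1_le_norm_zpowers z a) (h.Yle.2 ⟨Cm_self (zpowers_le' (cent1_le_norm_zpowers z a))
    (mem_zpowers z), mem_Cm_symm ((mem_Cm1 (cent1_le_norm_zpowers z h.k4.sC)).2
      ⟨cent1_le_norm_zpowers z a, (h.conj_y a b).elim (fun k => by simp [mem_cent1_conj.1 k])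
        fun k => by simp [k]⟩) (mem_zpowers y) (cent1_le_norm_zpowers z h.k4.sC)⟩)

theorem Kz : C(Y) ≤ C[z] := cent_le_cent1 h.zY

theorem G0_le (h1 : C(Y) ≤ T) (ht : t ∈ T) (tz : t ∈ C[z]) (ty : t * y * t⁻¹ = z * y) :
    C[z] ⊓ N(Y) ≤ T := fun g ⟨a, b⟩ => (h.conj_y a b).elim (fun k => h1 (h.centY ▸ ⟨a, k⟩)) fun k => by
  have : t⁻¹ * g ∈ C(Y) := h.centY ▸ ⟨mul_mem (C[z].inv_mem tz) a, mem_cent1_conj.2 (by
    rw [← conj_conj', k, ← ty]; group)⟩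
  simpa using mul_mem ht (h1 this)

theorem M_le (h1 : C(Y) ≤ T) (ht : t ∈ T) (tN : t ∈ N(Y)) (tz : t ∈ C[z]) (ty : t * y * t⁻¹ = z * y)
    (hs : s ∈ T) : N(Y) ≤ T := by
  have h0 := h.G0_le h1 ht tz ty
  have key : ∀ g ∈ N(Y), ∀ τ ∈ T, τ ∈ N(Y) → τ * z * τ⁻¹ = g * z * g⁻¹ → g ∈ T := fun g p τ q r e => by
    have : τ⁻¹ * g ∈ T := h0 ⟨mem_cent1_conj.2 (by rw [← conj_conj', ← e]; group),
      mul_mem (N(Y).inv_mem r) p⟩
    simpa using mul_mem q this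
  intro g hg
  by_cases c : g ∈ C[z]
  · exact h0 ⟨c, hg⟩
  rcases h.conj_z c hg with k | k
  · exact key g hg s hs h.sN (h.sz.trans k.symm)
  · exact key g hg _ (mul_mem ht hs) (mul_mem tN h.sN) (by rw [← conj_conj', h.sz, k, ty])

theorem solM (hc : Sol C(Y)) (tN : t ∈ N(Y)) (tz : t ∈ C[z]) (ty : t * y * t⁻¹ = z * y) : Sol N(Y) := by
  have n := norm_le_norm_cent Y
  have r : t * s ∈ C(Y) ⊔ zpowers (t * s) := mem_sup_right (mem_zpowers _)
  have k : zpowers t ≤ N(C(Y) ⊔ zpowers (t * s)) := zpowers_le' (mem_norm_of_cj_le (by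
    rw [cj_sup, cj_of_mem_norm (n tN), cj_zpowers]
    refine sup_le le_sup_left (zpowers_le' ?_)
    convert mul_mem (mem_sup_left (sq_cent h.zz (h.G0Cm ⟨tz, tN⟩))) (inv_mem (mul_mem r (mem_sup_left
      (inv_mem h.ss)))) using 1
    group))
  refine sol_mono (sol_sup (sol_sup hc (sol_zpowers (t * s)) (zpowers_le' (n (mul_mem tN h.sN))))
    (sol_zpowers t) k) (h.M_le (le_sup_of_le_left le_sup_left) (mem_sup_right (mem_zpowers t)) tN tz ty ?_)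
  simpa using mul_mem (inv_mem (mem_sup_right (mem_zpowers t))) (mem_sup_left r)

end B

theorem perf (h : Fr N Q T) : N ≤ ⁅N, N⁆ := by
  by_contra k
  have l := (der_normal N).le
  refine h.ns (sol_of_quo (der_normal N).norm (h.sol _ (inf_le_left.trans_lt (l.lt_of_ne fun e => k e.ge)))
    (sol_of_ab ((ab_quo_iff (der_normal N).norm).2 le_rfl)))

theorem der_le (h : ∀ g ∈ N, g * g ∈ X) : ⁅N, N⁆ ≤ X := commg_le_iff.2 fun a ha b hb => by
  convert mul_mem (mul_mem (h a ha) (h _ (mul_mem (inv_mem ha) hb))) (inv_mem (h b hb)) using 1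
  group

theorem SN (h : Mn S Y) : S ≤ N(Y) := (H29.PU.nrm_bm le_normalizer).trans h.NB

section E1
variable (e : En S Y Q z y) (h : B Y z y s) (eU : U = Kc Y C[z])
include e h eU

theorem nU : C[z] ≤ N(U) := eU ▸ Kc_norm
theorem YU : Y ≤ U := eU ▸ le_Kc
theorem U_le (h1 : Y ≤ T) (h2 : C[z] ≤ N(T)) : U ≤ T := eU ▸ Kc_le_of h1 h2
theorem UQ : U ≤ Q := U_le e h eU e.yq e.lc.nq.norm
theorem QG : Q ≤ C[z] ⊓ N(Y) := le_inf e.lc.nq.le ((H21.MS.fr_le e.lc.toFr).trans (SN e.toMn))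
theorem UG : U ≤ C[z] ⊓ N(Y) := (UQ e h eU).trans (QG e h eU)

theorem QCm : Q ≤ Cm (zpowers z) U :=
  have nZ := cent1_le_norm_zpowers z
  Cm_symm (U_le e h eU (Cm_symm ((QG e h eU).trans h.G0Cm) ((e.yq.trans e.lc.nq.le).trans nZ))
    (norms_Cm nZ e.lc.nq.norm)) (e.lc.nq.le.trans nZ)

theorem ea : EA (zpowers z) U := by
  have ab := commg_of_Cm ((UQ e h eU).trans (QCm e h eU))
  have nZ := cent1_le_norm_zpowers z
  have n := ((UQ e h eU).trans e.lc.nq.le).trans nZ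
  have YV := YU e h eU
  refine ⟨h.ZY.trans YV, ab, fun v hv => ?_, pg_zpowers h.zz⟩
  have := U_le e h eU (T := qpre (zpowers z) (Ohm1 2 (quo (zpowers z) U)))
    ((quo_le_iff (YV.trans n)).1 (abelem_le_Ohm1 (abelem_quo h.Yab _) (quo_mono _ YV)))
    (norms_qpre nZ (norms_Ohm1 2 (quo_norms (nU e h eU))))
  rw [← qm_eq_one (mul_mem (n hv) (n hv)), qm_mul (n hv) (n hv), ← pow_two]
  exact pow_of_mem_Ohm1 ((ab_quo_iff n).2 ab) ((mem_qpre (n hv)).1 (this hv))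

theorem sec : Sec C[z] Q (zpowers z) U :=
  ⟨ea e h eU, nU e h eU, cent1_le_norm_zpowers z, QCm e h eU, fun k => e.nz (by
    rw [e.eZ, cent_zpowers]; exact norm_of_Cm k h.ZY (YU e h eU))⟩

theorem abel (k : U ≤ C[y]) : Abelem 2 U :=
  have c : U ≤ C(U) := U_le e h eU (cents_symm (h.centY ▸ le_inf ((UG e h eU).trans inf_le_left) k))
    (norms_cent (nU e h eU))
  abelem_mono (abelem_Ohm1 (comm_iff_le_cent.2 c) 2)
    (U_le e h eU (abelem_le_Ohm1 h.Yab (YU e h eU)) (norms_Ohm1 2 (nU e h eU)))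

theorem cz : cj s C[z] = C[y] := by rw [cj_cent1, h.sz]
theorem cy : cj s C[y] = C[z] := by rw [cj_cent1, h.sy]
theorem ea' : EA (zpowers y) (cj s U) := by
  have := (ea e h eU).J s
  rwa [cj_zpowers, h.sz] at this
theorem nU' : C[y] ≤ N(cj s U) := by rw [← cj_norm, ← cz e h eU]; exact cj_mono s (nU e h eU)
theorem YU' : Y ≤ cj s U := (cj_of_mem_norm h.sN).ge.trans (cj_mono s (YU e h eU))
theorem UG' : cj s U ≤ C[y] ⊓ N(Y) := by
  rw [← cz e h eU, ← cj_of_mem (h.sN : s ∈ N(Y)), ← cj_inf]; exact cj_mono s (UG e h eU)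
theorem RR : cj s (U ⊓ C[y]) = cj s U ⊓ C[z] := by rw [cj_inf, cy e h eU]
theorem RK : cj s U ⊓ C[z] ≤ C(Y) :=
  h.centY ▸ le_inf inf_le_right (inf_le_left.trans ((UG' e h eU).trans inf_le_left))
theorem KR : C(Y) ≤ N(cj s U ⊓ C[z]) :=
  norms_inf (h.symm.Kz.trans (nU' e h eU)) (norms_of_le h.Kz)

theorem RQ {u : G} (hu : u ∈ U) (uy : u * y * u⁻¹ = z * y) : cj s U ⊓ C[z] ⊓ Q ≤ U := fun x ⟨⟨a, b⟩, c⟩ => by
  have n := (UG e h eU).trans inf_le_right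
  have n' := (UG' e h eU).trans inf_le_right
  have u' : s * u * s⁻¹ ∈ cj s U := conj_mem_cj.2 hu
  have k1 : u ∈ Cm Y (zpowers x) := Cm_mono h.ZY n (Cm_symm (zpowers_le' (QCm e h eU c)) (ea e h eU).norm) hu
  have k2 : s * u * s⁻¹ ∈ Cm Y (zpowers x) :=
    Cm_mono h.symm.ZY n' ((ea' e h eU).cm.trans (Cm_anti (zpowers_le' a))) u'
  have k3 := YU e h eU ((mul_mem k2 k1).2 x (mem_zpowers x))
  have k4 : s * u * s⁻¹ * u * s ∈ C[z] := mem_cent1_conj.2 (by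
    calc _ = s * (u * (s⁻¹ * (u * (s * z * s⁻¹) * u⁻¹) * s) * u⁻¹) * s⁻¹ := by group
      _ = s * (u * (s⁻¹ * (s * y * s⁻¹ * (s * z * s⁻¹)) * s) * u⁻¹) * s⁻¹ := by rw [h.sz, h.sy, uy]
      _ = s * (u * y * u⁻¹ * (u * z * u⁻¹)) * s⁻¹ := by group
      _ = z := by
        rw [uy, mem_cent1_conj.1 (UG e h eU hu).1, mul_assoc z, ← h.k4.comm, h.k4.tts, h.sy])
  have k5 := conj_mem_of_norm (nU e h eU k4) (mem_cj.1 a)
  convert mul_mem (inv_mem k3) k5 using 1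
  group

theorem nq (k : ¬ U ≤ C[y]) (l : cj s U ⊓ C[z] ≤ U) : False := by
  set E := U ⊓ C[y] with hE
  have eR : cj s U ⊓ C[z] = E := eq_of_le_of_card_eq
    (le_inf l (inf_le_left.trans ((UG' e h eU).trans inf_le_left))) (by rw [← RR e h eU, card_cj])
  have E' : E ≤ cj s U := eR ▸ inf_le_left
  have sq : ∀ x ∈ E, x * x = 1 := fun x a =>
    mem_bot.1 (h.ZZ ▸ ⟨(ea e h eU).sq x a.1, (ea' e h eU).sq x (E' a)⟩)
  have ab : E ≤ C(E) := commg_eq_bot.1 (le_bot_iff.1 (h.ZZ ▸ le_inf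
    ((commutator_mono inf_le_left inf_le_left).trans (ea e h eU).ab) ((commutator_mono E' E').trans (ea' e h eU).ab)))
  have yU := YU e h eU h.yY
  have cm := (ea e h eU).cm.trans (Cm_anti (zpowers_le' yU))
  have nrm : ∀ c ∈ C[z], c * y * c⁻¹ ∈ C[y] → c ∈ N(E) := fun c a b => mem_norm_iff_cj.2 (eq_of_le_of_card_eq (by
    rw [hE, cj_inf, cj_of_mem_norm (nU e h eU a), cj_cent1]
    exact le_inf inf_le_left (le_cent1_iff.2 (ab ⟨conj_mem_of_norm (nU e h eU a) yU, b⟩))) (card_cj _ _).symm).symm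
  refine k ((U_le e h eU (le_inf (YU e h eU) (h.eY ▸ h.k4.le_cent1')) ((perf e.lc.toFr).trans
    (der_le fun c a => ?_))).trans inf_le_right)
  by_cases c1 : c * y * c⁻¹ ∈ C[y]
  · exact mul_mem (nrm c a c1) (nrm c a c1)
  by_cases c2 : c⁻¹ * y * c⁻¹⁻¹ ∈ C[y]
  · exact mul_mem (inv_mem_iff.1 (nrm _ (inv_mem a) c2)) (inv_mem_iff.1 (nrm _ (inv_mem a) c2))
  have m1 := conj_mem_of_norm (nU e h eU a) yU
  have m2 := conj_mem_of_norm (nU e h eU (inv_mem a)) yU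
  have := sq _ ⟨mul_mem m1 m2, mul_cent h.zz (cm m1) (cm m2) c1 c2⟩
  refine nrm _ (mul_mem a a) (mem_cent1.2 ?_)
  have yi : y⁻¹ = y := inv_eq_of_mul_eq_one_right h.k4.ss
  calc _ = c * (c * y * c⁻¹ * (c⁻¹ * y * c⁻¹⁻¹) * (c * y * c⁻¹ * (c⁻¹ * y * c⁻¹⁻¹))) * c⁻¹ *
        (y⁻¹ * (c * c * y⁻¹ * (c * c)⁻¹)) := by group
    _ = _ := by rw [this, yi]; group

end E1

theorem e1 : E1.{u} := fun {G} _ _ {S Y Q z y} e => by
  obtain ⟨s, -, a, b⟩ := e.sw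
  have h : B Y z y s := ⟨e.k4, e.eV, a, b⟩
  refine or_iff_not_imp_left.2 fun na => ?_
  obtain ⟨U, eU⟩ : ∃ U, U = Kc Y C[z] := ⟨_, rfl⟩
  have k : ¬ U ≤ C[y] := fun k => na (eU ▸ abel e h eU k)
  obtain ⟨u, hu, k'⟩ := SetLike.not_le_iff_exists.1 k
  have uy := (h.conj_y (UG e h eU hu).1 (UG e h eU hu).2).resolve_left k'
  have rq := RQ e h eU hu uy
  have rk := RK e h eU
  have kr := KR e h eU
  have a' := ea' e h eU
  have r0 : U ⊓ C[y] ≤ C(Y) := h.centY ▸ inf_le_inf_right _ ((UG e h eU).trans inf_le_left)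
  refine ⟨U, cj s U ⊓ C[z], U ⊓ C[y], e, eU, UQ e h eU, sec e h eU,
    ((le_Oc ⟨rk, kr⟩ (a'.pgV.infl _)).trans (Oc_le_Oc (cent_normal_norm Y))).trans
      (Oc_le_hall (e.syl.of_le (SN e.toMn) le_top)), rq, fun l => nq e h eU k ((le_inf le_rfl l).trans rq),
    ⟨le_inf (YU' e h eU) (e.yq.trans e.lc.nq.le), ((commutator_mono inf_le_left inf_le_left).trans a'.ab).trans h.symm.ZY,
      fun v hv => h.symm.ZY (a'.sq v hv.1), ab_pg h.Yab⟩,
    h.G0_le (norms_sup kr (h.Kz.trans e.lc.nq.norm)) (le_normalizer (mem_sup_right (UQ e h eU hu))) (UG e h eU hu).1 uy,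
    le_inf (commg_le_left (inf_le_right.trans (nU e h eU))) (((commutator_mono le_rfl rk).trans (commg_le_right
      (((UG e h eU).trans inf_le_right).trans (norm_le_norm_cent Y)))).trans h.symm.Kz),
    le_inf (commg_le_right (r0.trans kr)) ((commutator_mono (inf_le_left.trans (UQ e h eU)) le_rfl).trans
      (commg_le_left (inf_le_right.trans e.lc.nq.norm))),
    (commutator_mono (inf_le_left.trans inf_le_left) inf_le_left).trans a'.ab, rk, fun r hr => ?_⟩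
  have c1 := card_le_cent h.zz ((ea e h eU).cm.trans (Cm_anti (zpowers_le' (YU e h eU h.yY))))
  have c2 := card_le_cent h.k4.ss ((inf_le_left.trans inf_le_left : cj s U ⊓ C[z] ⊓ Q ≤ _).trans
    (a'.cm.trans (Cm_anti (zpowers_le' hr.1))))
  have c3 : #(cj s U ⊓ C[z] ⊓ Q ⊓ C[r] : Subgroup G) ≤ #(U ⊓ Cm (zpowers z) (zpowers r) : Subgroup G) := card_le_of_le (le_inf
    (inf_le_left.trans rq) (Cm_of_cent ((inf_le_left.trans rq).trans (ea e h eU).norm) (cent_zpowers r ▸ inf_le_right)))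
  rw [← card_cj s (U ⊓ C[y]), RR e h eU] at c1
  calc _ ≤ #(cj s U ⊓ C[z] : Subgroup G) * 2 * (#(U ⊓ Cm (zpowers z) (zpowers r) : Subgroup G) * 2) :=
        Nat.mul_le_mul c1 (c2.trans (Nat.mul_le_mul_right 2 c3))
    _ = _ := by ring

theorem exz (h : Mn S Y) (c : #Y = 4) : ∃ z, orderOf z = 2 ∧ Zs S = zpowers z := by
  have ZY : Zs S ≤ Y := le_Kc.trans h.eY.ge
  have z0 : Zs S ≠ ⊥ := fun k => by
    have := h.eY.le.trans (Kc_le_of k.le (le_top.trans norm_bot.ge))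
    rw [le_bot_iff.1 this, card_bot] at c; omega
  have zn : Zs S ≠ Y := fun k => h.nz (k ▸ cent_le_norm _)
  have d : #(Zs S) ∣ 2 ^ 2 := (card_dvd_of_le ZY).trans c.dvd
  obtain ⟨i, i2, hi⟩ := (Nat.dvd_prime_pow Nat.prime_two).1 d
  have c2 : #(Zs S) = 2 := by
    interval_cases i
    · exact (z0 (card_eq_one.1 hi)).elim
    · exact hi
    · exact (zn (eq_of_le_of_card_eq ZY (hi.trans c.symm))).elim
  obtain ⟨z, a, b⟩ := exists_invol (K := Zs S) (by rw [c2]; decide)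
  exact ⟨z, b, (eq_of_le_of_card_eq (zpowers_le' a) (by rw [Nat.card_zpowers, b, c2])).symm⟩

theorem e0 (lc : LC.{u}) (cm : CM.{u}) : E0.{u} := fun {G} _ _ {S Y} h c => by
  obtain ⟨z, z2, eZ⟩ := exz h c
  have zz := mul_self_of_two z2
  have zS : z ∈ Zs S := eZ ▸ mem_zpowers z
  have zY : z ∈ Y := (le_Kc.trans h.eY.ge) zS
  have Sz : S ≤ C[z] := le_cent1_iff.2 (Ohm1_le _ _ zS).2
  obtain ⟨m, mN, mz⟩ := SetLike.not_le_iff_exists.1 fun k : N(Y) ≤ C[z] => by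
    have := card_le_of_le (h.eY.le.trans (Kc_le_of eZ.le (k.trans (cent1_le_norm_zpowers z))))
    rw [c, Nat.card_zpowers, z2] at this; omega
  obtain ⟨y, my⟩ : ∃ y, m * z * m⁻¹ = y := ⟨_, rfl⟩
  have yY : y ∈ Y := my ▸ conj_mem_of_norm mN zY
  have k : K4 z y := ⟨z2, my ▸ conj2 z2 m, fun e => mz (mem_cent1_conj.2 (my.trans e.symm)),
    mul_comm_of_comm h.ab.1 zY yY⟩
  have eV : Y = V4 z y := (eq_of_le_of_card_eq (V4_le.2 ⟨zY, yY⟩) (k.card.trans c.symm)).symm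
  have YS : Y ≤ S := h.YB.trans H29.PU.bm_le
  have ny : ¬ S ≤ C[y] := fun e => ((H17.GS.mem_zp zz).1 (eZ ▸ H19.mem_Ohm1 ⟨YS yY, le_cent1_iff.1 e⟩
    (by rw [pow_two, k.ss]))).elim k.s1 k.ne.symm
  obtain ⟨t, tS, b⟩ := SetLike.not_le_iff_exists.1 ny
  have tz := mem_cent1_conj.1 (Sz tS)
  have tN := SN h tS
  have ty : t * y * t⁻¹ = z * y := by
    rcases k.mem.1 (eV ▸ conj_mem_of_norm tN yY) with e | e | e | e
    · exact (k.s1 (conj_eq_one_iff.1 e)).elim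
    · exact (k.ne (by simpa using tz.trans e.symm)).elim
    · exact (b (mem_cent1_conj.2 e)).elim
    · exact e
  obtain ⟨s, hb⟩ : ∃ s, B Y z y s := by
    rcases k.mem.1 (eV ▸ conj_mem_of_norm mN yY) with e | e | e | e
    · exact (k.s1 (conj_eq_one_iff.1 e)).elim
    · exact ⟨m, k, eV, my, e⟩
    · exact (k.ne (by simpa using my.trans e.symm)).elim
    · refine ⟨m * t, k, eV, by rw [← conj_conj', tz, my], ?_⟩
      calc _ = m * z * m⁻¹ * (m * y * m⁻¹) := by rw [← conj_conj', ty]; group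
        _ = z := by rw [my, e, k.comm, k.symm.tts]
  have Y0 : Y ≠ ⊥ := ne_bot_of_mem zY k.t1
  have sM : Sol N(Y) := hb.solM (by_contra fun n => h.hz.nch ⟨_, _, (cent_le_norm Y).lt_of_ne fun e =>
    mz (hb.Kz (e.ge mN)), H21.MS.norm_ne h.hz.toHy Y0 fun e => h.nz (cent_le_norm _ |>.trans (by
      rw [e, norm_top]; exact le_top)), n⟩) tN (Sz tS) ty
  have ns : ¬ Sol C[z] := fun n => by
    obtain ⟨R, r0, rp, rs⟩ := h.hz.ex
    obtain ⟨T, hT⟩ := exists_syl 2 N(R)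
    obtain ⟨a, b⟩ := cm h.hz (lc h.hz.toHy r0 rp le_rfl rs hT).1
    obtain ⟨g, -, rfl⟩ := h.syl.sconj a
    refine rs (b.elim (fun e => e ▸ ?_) fun e => e.1 ▸ ?_)
    · rw [Zs, ← cj_cent, ← cj_inf, ← H19.cj_Ohm1, ← cj_cent]
      exact sol_J (sol_mono n (eZ ▸ (cent_zpowers z).le : C(Zs S) ≤ _)) g
    · rw [← show cj g (bm 2 S) = bm 2 (cj g S) from H29.PU.map_bm (MulAut.conj g).injective S, ← cj_norm]
      exact sol_J (sol_mono sM h.NB) g
  have l := (lc h.hz.toHy (ne_bot_of_mem (mem_zpowers z) k.t1) (pg_zpowers zz) (cent1_le_norm_zpowers z) ns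
    (h.syl.of_le Sz le_top)).1
  refine ⟨_, z, y, h, l, k, eV, eZ, ⟨s, hb.sN, hb.sz, hb.sy⟩, ny, by_contra fun nq => ?_⟩
  set Q := Oc {2} C[z]
  have nZ := cent1_le_norm_zpowers z
  have YC := YS.trans Sz
  have q1 : Y ≤ Cm (zpowers z) Q := Cm_symm ((le_inf l.nq.le ((H21.MS.fr_le l.toFr).trans (SN h))).trans hb.G0Cm)
    (YC.trans nZ)
  have q2 : C[z] ≤ Cm (zpowers z) Q := ((l.smp _ (inf_normal_of_norm' (norms_Cm nZ l.nq.norm))).resolve_left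
    fun e => nq ((le_inf YC q1).trans e)).ge.trans inf_le_right
  have q3 : ⁅Q, C[z]⁆ ≤ C(C[z]) := (commg_of_Cm' q2).trans (cents_symm (cent_zpowers z).ge)
  have q4 := three_subgroup (H := C[z]) (K := C[z]) (L := Q) (commg_eq_bot.2 ((commg_comm C[z] Q).le.trans q3)) (commg_eq_bot.2 q3)
  exact ns (sol_mono l.pg.sol ((perf l.toFr).trans ((commg_eq_bot.1 q4).trans l.chr)))

end H20.MS
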