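import Cfsg.Agent.H27.MS3
import Cfsg.Agent.H12.MS0

/-! S5899 part 3: the subgroups `O₂(C(v))` and `⟨V ^ C(v)⟩`. -/

set_option autoImplicit false
set_option linter.unusedVariables false
set_option linter.unusedSectionVars false

namespace H20.MS
open Cfsg Subgroup H18 H17.GS H28.S H2.GW H27.MS H12.MS
open H19 hiding eq_bot_mono
open H28.NG hiding Hyp Uniq Ch
open H29.PU (bm)

universe u
variable {G : Type u} [Group G] [Finite G] {N Q T V W D H P R : Subgroup G} {v : G}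

/-- the centralizer of `O₂(C(v))/⟨v⟩` -/
theorem cmD (c : H28.NG.Ch C[v]) (vv : v * v = 1) : C[v] ⊓ Cm (zpowers v) (Oc {2} C[v]) ≤ Oc {2} C[v] :=
  le_Oc ⟨inf_le_left, norms_inf (norms_of_le le_rfl) (norms_Cm (cent1_le_norm_zpowers v) (Oc_norm _ _))⟩
    (pg_of_odd (fun x a b => c.le ⟨a.1, cent_of_stable b (pg_zpowers vv) (zp_cent le_rfl a.1) a.2⟩) (Oc_pi _ _))

/-- normal closures that are elementary abelian modulo `⟨v⟩` -/
theorem kc_ea (a : Abelem 2 W) (l : W ≤ D) (c : ⁅W, D⁆ ≤ zpowers v) (hH : H ≤ C[v]) (hD : D ≤ C[v])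
    (n : H ≤ N(D)) : Kc W H ≤ D ∧ D ≤ Cm (zpowers v) (Kc W H) ∧ ⁅Kc W H, Kc W H⁆ ≤ zpowers v ∧
      ∀ e ∈ Kc W H, e * e ∈ zpowers v := by
  have nZ := cent1_le_norm_zpowers v
  have k := Kc_le_of l n
  have m : D ≤ Cm (zpowers v) (Kc W H) := Cm_symm (Kc_le_of (le_Cm ((l.trans hD).trans nZ) c)
    (norms_Cm (hH.trans nZ) n)) (hD.trans nZ)
  have ab := commg_of_Cm (k.trans m)
  have n' := (k.trans hD).trans nZ
  refine ⟨k, m, ab, fun e he => ?_⟩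
  have := Kc_le_of (H := H) (M := qpre (zpowers v) (Ohm1 2 (quo (zpowers v) (Kc W H))))
    ((quo_le_iff (le_Kc.trans n')).1 (abelem_le_Ohm1 (abelem_quo a _) (quo_mono _ le_Kc)))
    (norms_qpre (hH.trans nZ) (norms_Ohm1 2 (quo_norms Kc_norm)))
  rw [← qm_eq_one (mul_mem (n' he) (n' he)), qm_mul (n' he) (n' he), ← pow_two]
  exact pow_of_mem_Ohm1 ((ab_quo_iff n').2 ab) ((mem_qpre (n' he)).1 (this he))

theorem Rn (p : Pt N Q V P R v) : R ⊴ P := p.eR ▸ Oc_normal _ _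
theorem Rpg (p : Pt N Q V P R v) : H19.PG 2 R := p.eR ▸ Oc_pi _ _
theorem Pv (p : Pt N Q V P R v) : P ≤ C[v] := p.eP ▸ inf_le_right

theorem DR (p : Pt N Q V P R v) (u : N(R) ≤ N) : Oc {2} C[v] ≤ R := by
  have n := (Pv p).trans (Oc_norm {2} C[v])
  have g : H19.PG 2 (Oc {2} C[v] ⊔ R) := (Oc_pi _ _).sup (Rpg p) ((Rn p).le.trans n)
  refine le_sup_left.trans (nil_eq_of_norm_le g.nil le_sup_right ?_).ge
  rw [p.eR]
  refine le_Oc ⟨?_, norms_inf (norms_sup n (Oc_norm _ _)) (norms_norm (Oc_norm _ _))⟩ (p.eR ▸ g.infl _)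
  rw [← p.eR, p.eP]
  exact le_inf (inf_le_right.trans u) (inf_le_left.trans (sup_le (Oc_le _ _) ((Rn p).le.trans (Pv p))))

theorem g2 (bk : BK.{u}) (pu : PU.{u}) : G2.{u} := by
  intro G _ _ N Q T V v h hv v1
  obtain ⟨-, a, VQ, cV, -, -, -, -, pt⟩ := bk h
  obtain ⟨P, R, p⟩ := pt v hv v1
  have d := DR p (by rw [p.eR, p.eP]; exact pu h hv v1)
  have c : ⁅V, Oc {2} C[v]⁆ ≤ zpowers v := (commutator_mono le_rfl d).trans p.cm
  have Vv := ab_cent1 a hv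
  have nZ := cent1_le_norm_zpowers v
  have VD : V ≤ Oc {2} C[v] := (le_inf Vv (le_Cm (Vv.trans nZ) c)).trans
    (cmD (h.hy.ch1 v1 (sq_one a hv)) (sq_one a hv))
  obtain ⟨k, -, ab, sq⟩ := kc_ea a VD c le_rfl (Oc_le _ _) (Oc_norm _ _)
  have q := p.el _ ⟨(k.trans d).trans (Rn p).le, (Pv p).trans Kc_norm⟩ (ab.trans (zpowers_le' hv))
    fun e he => zpowers_le' hv (sq e he)
  have u : Kc V C[v] ≤ C(Kc V C[v]) := Kc_cents (cents_symm (q.trans cV.ge)) Kc_norm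
  exact ⟨by rw [← p.eP, ← p.eR]; exact d, VD, q, abelem_mono (abelem_Ohm1 (comm_iff_le_cent.2 u) 2)
    (Kc_le_of (abelem_le_Ohm1 a le_Kc) (norms_Ohm1 2 Kc_norm))⟩

theorem ic (bk : BK.{u}) (g2 : G2.{u}) : IC.{u} := by
  intro G _ _ N Q T V N' Q' T' V' h h' n
  obtain ⟨v, ⟨hv, hv'⟩, v1⟩ := exists_ne_one n
  obtain ⟨P, R, p⟩ := (bk h).2.2.2.2.2.2.2.2 v hv v1
  obtain ⟨-, l, -, a⟩ := g2 h' hv' v1
  have d := (g2 h hv v1).1
  rw [← p.eP] at d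
  exact le_Kc.trans (p.el _ ⟨((Kc_le_of l (Oc_norm _ _)).trans d).trans (Oc_le _ _), (Pv p).trans Kc_norm⟩
    ((comm_iff_der.1 a.1).le.trans bot_le) fun e he => by rw [sq_one a he]; exact one_mem _)

end H20.MS
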