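import Cfsg.Agent.H24.ND0

/-! S4780, chunk DG: degrees over a normal Sylow subgroup with abelian complement. -/

set_option autoImplicit false

open Subgroup H19 H20 H6 Cfsg H3.GR

namespace H20.ND

universe u

theorem dg : H24.ND.DG.{u} := by
  intro G _ _ P H p _ hp pP hH ab sup ψ hψ χ hχ h
  have hHH : ⁅H, H⁆ ≤ P := by
    rw [commutator_le]
    intro a ha b hb
    have e : a * b = b * a := congrArg Subtype.val (ab.is_comm.comm (⟨a, ha⟩ : H) ⟨b, hb⟩)
    rw [commutatorElement_eq_one_iff_mul_comm.2 e]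
    exact P.one_mem
  have hd : ⁅(⊤ : Subgroup G), ⊤⁆ ≤ P := by
    rw [← sup]
    exact commg_sup_left_le (commutator_le_left _ _)
      (commg_sup_right_le (commutator_le_right _ _) hHH le_normalizer_of_normal le_normalizer_of_normal)
      le_normalizer_of_normal le_normalizer_of_normal
  have hPT : P ≤ H20.inertia ⊤ ψ := H20.le_inertia (irr_cinv hψ) le_top
  have hT : (H20.inertia ⊤ ψ).Normal := ⟨fun n hn g => by
    have := mul_mem (hPT (hd (commutator_mem_commutator (mem_top g) (mem_top n)))) hn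
    rwa [commutatorElement_def, inv_mul_cancel_right] at this⟩
  have hc : (#P).Coprime (P.relIndex (H20.inertia ⊤ ψ)) := by
    have e1 : P.relIndex (H20.inertia ⊤ ψ) ∣ P.relIndex ⊤ :=
      Dvd.intro _ (relIndex_mul_relIndex P (H20.inertia ⊤ ψ) ⊤ hPT le_top)
    have e2 : P.relIndex ⊤ ∣ #H := by
      rw [← sup, relIndex_sup_left]
      exact relIndex_dvd_card _ _
    refine Nat.Coprime.coprime_dvd_right (e1.trans e2) (Nat.coprime_of_dvd fun k hk h1 h2 => ?_)
    have : k = p := pP k hk h1
    exact hH (this ▸ h2)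
  have e := ((Ind_ab_inertia_coprime (normalIn_top (H := P)) hψ
    ((commutator_mono le_top le_top).trans hd) hc).2.2 χ (mem_ovr.2 ⟨hχ, h⟩)).2
  have e3 : (H20.inertia ⊤ ψ).relIndex ⊤ = (H20.inertia H ψ).relIndex H := by
    rw [inertia_of_le (T := H) le_top, inf_relIndex_right,
      ← relIndex_sup_left H (H20.inertia ⊤ ψ), top_le_iff.1 (sup.ge.trans (sup_le_sup_right hPT H))]
  rw [irr_deg hχ, irr_deg hψ, e3] at e
  unfold H24.ND.dd
  exact_mod_cast e

end H20.ND
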