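import Cfsg.Agent.H4.Rz5
import Cfsg.Agent.H25.Misc

/-!
# Fusion systems with a tightly embedded quaternion subgroup, I: basic facts
-/

set_option autoImplicit false
set_option linter.unusedSectionVars false

namespace H20.QF

open Subgroup H25 H25.FS H10
open scoped commutatorElement

variable {Γ : Type*} [Group Γ] {F : FS Γ} {R P : Subgroup Γ} {n : ℕ}
  {a b c d g h r s t u w : Γ} {i j k l : ℤ}

theorem dv {N x y : ℤ} (h : N ∣ x) (e : y = x) : N ∣ y := e ▸ h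

/-- `R = ⟨a, b⟩` is generalized quaternion of order `2 ^ (n + 1) ≥ 16` -/
structure Qt (R : Subgroup Γ) (n : ℕ) (a b : Γ) : Prop where
  mc : MC R n a (-1)
  three : 3 ≤ n
  bR : b ∈ R
  bout : b ∉ zpowers a
  bsq : b ^ 2 = mcZ a n

/-- the action of `s` on `⟨a, b⟩` -/
def Act (a b s : Γ) (i j : ℤ) : Prop := s * a * s⁻¹ = a ^ i ∧ s * b * s⁻¹ = a ^ j * b

theorem Act.za (h : Act a b s i j) (k : ℤ) : s * a ^ k * s⁻¹ = a ^ (i * k) := by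
  rw [← conj_zpow, h.1, ← zpow_mul]

theorem Act.zb (h : Act a b s i j) (k : ℤ) : s * (a ^ k * b) * s⁻¹ = a ^ (i * k + j) * b := by
  rw [← conj_mul, h.za, h.2, ← mul_assoc, ← zpow_add]

theorem Act.mul (h : Act a b s i j) (h' : Act a b u k l) : Act a b (s * u) (i * k) (i * l + j) :=
  ⟨by rw [← h.za, ← h'.1]; group, by rw [← h.zb, ← h'.2]; group⟩

theorem Act.one (a b : Γ) : Act a b 1 1 0 := ⟨by simp, by simp⟩

theorem Act.self (a b : Γ) (hb : b * a * b⁻¹ = a⁻¹) (k : ℤ) : Act a b (a ^ k) 1 (2 * k) :=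
  ⟨by group, by
    have : b * a ^ (-k) * b⁻¹ = a ^ k := by rw [← conj_zpow, hb]; group
    calc _ = a ^ k * (b * a ^ (-k) * b⁻¹) * b := by group
      _ = _ := by rw [this]; group⟩

theorem Act.inv_one (h : Act a b s 1 j) : Act a b s⁻¹ 1 (-j) := by
  have h1 : s⁻¹ * a * s⁻¹⁻¹ = a ^ (1 : ℤ) := by
    have := h.1; rw [zpow_one] at this ⊢
    conv_lhs => rw [← this]
    group
  refine ⟨h1, ?_⟩
  have h2 : s⁻¹ * a ^ (-j) * s⁻¹⁻¹ = a ^ (-j) := by rw [← conj_zpow, h1, zpow_one]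
  calc _ = s⁻¹ * a ^ (-j) * s⁻¹⁻¹ * (s⁻¹ * (a ^ j * b) * s) := by group
    _ = _ := by rw [h2, ← h.2]; group

theorem Act.zpow_one (h : Act a b s 1 j) (k : ℤ) : Act a b (s ^ k) 1 (k * j) := by
  induction k using Int.induction_on with
  | zero => simpa using Act.one a b
  | succ k ih => rw [zpow_add_one]; convert ih.mul h using 1 <;> ring
  | pred k ih => rw [zpow_sub_one]; convert ih.mul h.inv_one using 1 <;> ring

theorem Act.of_comm (h1 : s * a = a * s) (h2 : s * b * s⁻¹ = a ^ j * b) : Act a b s 1 j :=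
  ⟨by rw [h1]; group, h2⟩

namespace Qt
variable (q : Qt R n a b)
include q

theorem e3 : (2 : ℤ) ^ n = 8 * 2 ^ (n - 3) := by
  obtain ⟨m, rfl⟩ := Nat.exists_eq_add_of_le' q.three; simp [pow_add]; ring
theorem e2 : (2 : ℤ) ^ (n - 1) = 4 * 2 ^ (n - 3) := by
  obtain ⟨m, rfl⟩ := Nat.exists_eq_add_of_le' q.three
  rw [show m + 3 - 1 = m + 2 from rfl]; simp [pow_add]; ring
theorem e1 : (2 : ℤ) ^ (n - 2) = 2 * 2 ^ (n - 3) := by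
  obtain ⟨m, rfl⟩ := Nat.exists_eq_add_of_le' q.three
  rw [show m + 3 - 2 = m + 1 from rfl]; simp [pow_add]; ring

theorem aR : a ∈ R := q.mc.mem
theorem zR : mcZ a n ∈ R := q.mc.z_mem
theorem z1 : mcZ a n ≠ 1 := q.mc.z_ne_one
theorem zz : mcZ a n * mcZ a n = 1 := q.mc.z_mul_self
theorem zinv : (mcZ a n)⁻¹ = mcZ a n := inv_eq_of_mul_eq_one_right q.zz
theorem bab : b * a * b⁻¹ = a⁻¹ := by simpa using q.mc.conj b q.bR q.bout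
theorem bb : b * b = mcZ a n := by rw [← q.bsq, sq]
theorem actb : Act a b b (-1) 0 := ⟨by simpa using q.bab, by simp⟩
theorem acta (k : ℤ) : Act a b (a ^ k) 1 (2 * k) := Act.self a b q.bab k
theorem bak (k : ℤ) : b * a ^ k * b⁻¹ = a ^ (-k) := by rw [q.actb.za]; congr 1; ring
theorem eq_iff : a ^ i = a ^ j ↔ (2 : ℤ) ^ n ∣ j - i := q.mc.eq_iff
theorem eq_one : a ^ i = 1 ↔ (2 : ℤ) ^ n ∣ i := q.mc.eq_one_iff
theorem cases (hr : r ∈ R) : (∃ i : ℤ, r = a ^ i) ∨ ∃ i : ℤ, r = a ^ i * b :=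
  q.mc.cases q.bR q.bout hr
theorem eq_sup : zpowers a ⊔ zpowers b = R := q.mc.eq_sup q.bR q.bout

theorem not_dvd {x : ℤ} (h0 : 0 < x) (h : x < 8 * 2 ^ (n - 3)) : ¬ (2 : ℤ) ^ n ∣ x := fun e =>
  absurd (Int.le_of_dvd h0 e) (by rw [q.e3]; omega)

theorem not_dvd_odd {x : ℤ} (hx : Odd x) : ¬ (2 : ℤ) ^ n ∣ 2 * x := fun e => by
  rw [q.e3] at e
  obtain ⟨y, e⟩ := e
  obtain ⟨z, rfl⟩ := hx
  have : 2 * z + 1 = 2 * (2 * 2 ^ (n - 3) * y) := by linarith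
  omega

theorem out_sq (hw : w ∈ R) (hw' : w ∉ zpowers a) : w ^ 2 = mcZ a n :=
  (out_sq_of_inv q.mc q.bR q.bout hw hw').trans q.bsq

theorem ab_sq (i : ℤ) : (a ^ i * b) ^ 2 = mcZ a n :=
  q.out_sq (mul_mem (q.mc.zpow_mem i) q.bR) (MC.mul_out q.bout i)

theorem invol (hr : r ∈ R) (h2 : r ^ 2 = 1) : r = 1 ∨ r = mcZ a n := by
  by_cases h : r ∈ zpowers a
  exacts [q.mc.invol_in h h2, absurd ((q.out_sq hr h).symm.trans h2) q.z1]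

theorem exists_sq (hr : r ∈ R) (h2 : r ^ 2 ≠ 1) : ∃ k : ℕ, (r ^ k) ^ 2 = mcZ a n := by
  obtain ⟨m, hm⟩ := q.mc.isPGroup ⟨r, hr⟩
  have hm : r ^ 2 ^ m = 1 := congrArg Subtype.val hm
  obtain ⟨k, h3, h4⟩ := H4.exists_pow_notMem_pow_mem (p := 2) (M := ⊥) (x := r ^ 2)
    ⟨m, by rw [← pow_mul, mul_comm, pow_mul, hm, one_pow]; exact one_mem _⟩ h2
  refine ⟨2 ^ k, ((q.invol (pow_mem (pow_mem hr 2) _) h4).resolve_left h3).symm ▸ ?_⟩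
  rw [← pow_mul, ← pow_mul, mul_comm]

theorem mem_cz_iff : s ∈ cz R ↔ s * a * s⁻¹ = a ∧ s * b * s⁻¹ = b := by
  rw [← q.eq_sup, cz_sup, mem_inf, mem_cz_zpowers, mem_cz_zpowers]

theorem cz_of_act (h : Act a b s i j) (h1 : (2 : ℤ) ^ n ∣ i - 1) (h2 : (2 : ℤ) ^ n ∣ j) : s ∈ cz R :=
  q.mem_cz_iff.2 ⟨by rw [h.1, ← q.eq_iff.2 h1, zpow_one], by rw [h.2, q.eq_one.2 h2, one_mul]⟩

theorem dvd_of_cz (h : Act a b s i j) (hs : s ∈ cz R) : (2 : ℤ) ^ n ∣ i - 1 ∧ (2 : ℤ) ^ n ∣ j :=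
  ⟨q.eq_iff.1 (by rw [← h.1, zpow_one, (q.mem_cz_iff.1 hs).1]),
    q.eq_one.1 (mul_eq_right.1 (h.2.symm.trans (q.mem_cz_iff.1 hs).2))⟩

theorem act_unique (h : Act a b s i j) (h' : Act a b s k l) :
    (2 : ℤ) ^ n ∣ k - i ∧ (2 : ℤ) ^ n ∣ l - j :=
  ⟨q.eq_iff.1 (h.1.symm.trans h'.1), q.eq_iff.1 (mul_right_cancel (h.2.symm.trans h'.2))⟩

theorem a4 : a ^ (4 : ℤ) ≠ 1 := q.eq_one.not.2 (q.not_dvd (by norm_num) (by
  have : (0 : ℤ) < 2 ^ (n - 3) := by positivity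
  omega))

theorem conj_mem (hs : s ∈ nz R) : s * a * s⁻¹ ∈ zpowers a := by
  by_contra h
  have h1 := q.mc.pow_four_out (conj_mem_of_mem_nz hs q.aR) h
  rw [conj_pow, mul_inv_eq_one, mul_eq_left] at h1
  exact q.a4 (by exact_mod_cast h1)

theorem act [Finite Γ] (hs : s ∈ nz R) : ∃ i j, Odd i ∧ Act a b s i j := by
  obtain ⟨i, hi⟩ := q.conj_mem hs
  have h1 : s * b * s⁻¹ ∉ zpowers a := by
    rintro ⟨k, hk⟩
    obtain ⟨l, hl⟩ := q.conj_mem (inv_mem hs)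
    refine q.bout ⟨l * k, ?_⟩
    simp only at hk hl ⊢
    rw [zpow_mul, hl, conj_zpow, hk]; group
  obtain ⟨j, hj⟩ := q.mc.exists_eq q.bR q.bout (conj_mem_of_mem_nz hs q.bR) h1
  refine ⟨i, j, ?_, hi.symm, hj⟩
  rcases i.even_or_odd' with ⟨m, rfl | rfl⟩
  · have h2 : s * mcZ a n * s⁻¹ = 1 := by
      rw [mcZ, ← conj_zpow, ← hi, ← zpow_mul, q.eq_one, q.mc.pow_n]; exact ⟨m, by ring⟩
    exact absurd (by simpa using h2) q.z1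
  · exact ⟨m, rfl⟩

theorem not_four (hP : P ≤ R) : ¬ IsKleinFour P := fun hT => by
  obtain ⟨w, h1, h2, h3, -⟩ := q.mc.kleinFour_eq hT hP
  exact q.z1 ((q.out_sq (hP h1) h2).symm.trans h3)

theorem odd_sub [Finite Γ] (hP : P ≤ R) (hs : s ∈ nz P) (ho : (orderOf s).Coprime 2) :
    s ∈ cz P ∨ ∃ m : ℤ, P = mcSub a (a ^ m * b) (n - 2) := by
  rcases odd_centralizes_of_le q.mc.isPGroup hP q.aR q.mc.idx.dvd hs ho with h | h | ⟨⟨h⟩⟩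
  · exact .inl h
  · exact absurd h (q.not_four hP)
  · obtain ⟨w, h1, h2, -, h3⟩ := q.mc.q8_eq h hP
    obtain ⟨m, rfl⟩ := q.mc.exists_eq q.bR q.bout (hP h1) h2
    exact .inr ⟨m, h3⟩

theorem a_not_mem_sub (m : ℤ) : a ∉ mcSub a (a ^ m * b) (n - 2) := fun e => by
  have := (q.mc.zpow_mem_sub_iff (mul_mem (q.mc.zpow_mem m) q.bR) (MC.mul_out q.bout m)
    (d := n - 2) (i := 1) (by omega)).1 (by simpa using e)
  rw [q.e1] at this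
  have := (Dvd.intro _ rfl).trans this
  omega

theorem odd_cz [Finite Γ] (hs : s ∈ nz R) (ho : (orderOf s).Coprime 2) : s ∈ cz R :=
  (q.odd_sub le_rfl hs ho).resolve_right fun ⟨m, e⟩ => q.a_not_mem_sub m (e ▸ q.aR)

theorem sub_q8 (m : ℤ) : Nonempty (mcSub a (a ^ m * b) (n - 2) ≃* QuaternionGroup 2) := by
  have := q.three
  have h4 := q.mc.sub_quaternion (mul_mem (q.mc.zpow_mem m) q.bR) (MC.mul_out q.bout m)
    (d := n - 2) (by omega) (by omega) (by rw [q.ab_sq]; exact q.z1)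
  rwa [show n - (n - 2) - 1 = 1 by omega] at h4

theorem z_conj (hs : s ∈ nz R) : s * mcZ a n * s⁻¹ = mcZ a n :=
  (q.invol (conj_mem_of_mem_nz hs q.zR) (by rw [conj_pow, q.mc.z_sq]; simp)).resolve_left
    (by simpa using q.z1)

end Qt

/-- the standing hypotheses -/
structure Hy (F : FS Γ) (R : Subgroup Γ) (n : ℕ) (a b : Γ) : Prop extends Qt R n a b where
  sat : F.Sat 2
  le : R ≤ F.S
  nrm : F.S ≤ nz R
  scz : ∀ P g, F.T P g → mcZ a n ∈ P → g * mcZ a n * g⁻¹ = mcZ a n → ∀ r ∈ P, r ∈ R →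
    g * r * g⁻¹ ∈ R
  h2 : ∀ g, F.T (zpowers (mcZ a n)) g → g * mcZ a n * g⁻¹ ∈ cz R → g * mcZ a n * g⁻¹ = mcZ a n
  h3 : ∀ P g y, F.T P g → mcZ a n ∈ P → y ∈ P → y ∈ cz R → y ^ 2 = 1 → y ≠ 1 →
    g * y * g⁻¹ = y → g * mcZ a n * g⁻¹ = mcZ a n
  foc : F.foc = F.S
  ncen : ∃ g, F.T (zpowers (mcZ a n)) g ∧ g * mcZ a n * g⁻¹ ≠ mcZ a n

/-- `t` is fused to `z` -/
def Zc (F : FS Γ) (z t : Γ) : Prop := ∃ g, F.T (zpowers t) g ∧ g * t * g⁻¹ = z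

/-- the centralizer of `t` in the underlying group -/
abbrev Dt (F : FS Γ) (t : Γ) : Subgroup Γ := F.C (zpowers t)

/-- the elements of `C_S(t)` carried into `R` along with `t ↦ z` -/
def Rt (F : FS Γ) (R : Subgroup Γ) (z t : Γ) : Subgroup Γ where
  carrier := {x | x ∈ Dt F t ∧ ∀ g, F.T (Dt F t) g → g * t * g⁻¹ = z → g * x * g⁻¹ ∈ R}
  one_mem' := ⟨one_mem _, fun g _ _ => by simp⟩
  mul_mem' hx hy := ⟨mul_mem hx.1 hy.1, fun g h1 h2 => by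
    rw [← conj_mul]; exact mul_mem (hx.2 g h1 h2) (hy.2 g h1 h2)⟩
  inv_mem' hx := ⟨inv_mem hx.1, fun g h1 h2 => by
    rw [← conj_inv]; exact inv_mem (hx.2 g h1 h2)⟩

theorem mem_Dt : s ∈ Dt F t ↔ s ∈ F.S ∧ s * t * s⁻¹ = t := by
  rw [Dt, FS.C, mem_inf, mem_cz_zpowers]

theorem mem_Dt' : s ∈ Dt F t ↔ s ∈ F.S ∧ s * t = t * s := by
  rw [mem_Dt, mul_inv_eq_iff_eq_mul]

theorem Dt_le (F : FS Γ) (t : Γ) : Dt F t ≤ F.S := inf_le_left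

theorem Dt_S (h : s ∈ Dt F t) : s ∈ F.S := h.1

theorem Rt_S {z : Γ} (h : s ∈ Rt F R z t) : s ∈ F.S := h.1.1

theorem Rt_le {z : Γ} : Rt F R z t ≤ Dt F t := fun _ h => h.1

theorem Zc.mem {z : Γ} (h : Zc F z t) : t ∈ F.S := h.choose_spec.1.le (mem_zpowers t)

theorem Zc.self {z : Γ} (h : Zc F z t) : t ∈ Dt F t := mem_Dt'.2 ⟨h.mem, rfl⟩

theorem Zc.conj {z : Γ} (h : Zc F z t) (H : F.T P g) (ht : t ∈ P) : Zc F z (g * t * g⁻¹) := by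
  obtain ⟨k, h1, h2⟩ := h
  refine ⟨k * g⁻¹, (H.inv' ?_).mul' h1 ?_, by rw [← h2]; group⟩
  · exact zpowers_le.2 (conj_mem_cj g ht)
  · rw [cj_zpowers]; simp [mul_assoc]

theorem Zc.conjS {z : Γ} (h : Zc F z t) (hs : s ∈ F.S) : Zc F z (s * t * s⁻¹) :=
  h.conj (F.of_mem le_rfl hs) h.mem

namespace Hy
variable [Finite Γ] (y : Hy F R n a b)
include y

theorem aS : a ∈ F.S := y.le y.aR
theorem bS : b ∈ F.S := y.le y.bR
theorem zS : mcZ a n ∈ F.S := y.le y.zR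
theorem zc (hs : s ∈ F.S) : s * mcZ a n * s⁻¹ = mcZ a n := y.z_conj (y.nrm hs)
theorem zc' (hs : s ∈ F.S) : s * mcZ a n = mcZ a n * s := mul_inv_eq_iff_eq_mul.1 (y.zc hs)
theorem zD (ht : t ∈ F.S) : mcZ a n ∈ Dt F t := mem_Dt'.2 ⟨y.zS, (y.zc' ht).symm⟩
theorem Zz : Zc F (mcZ a n) (mcZ a n) := ⟨1, FS.one (zpowers_le.2 y.zS), by simp⟩
theorem fcz : F.FC (zpowers (mcZ a n)) :=
  FC_of_le_cz (zpowers_le.2 y.zS) fun _ hs => mem_cz_zpowers.2 (y.zc hs)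

theorem Zsq (h : Zc F (mcZ a n) t) : t * t = 1 := by
  obtain ⟨g, -, e⟩ := h
  have := y.zz
  rw [← e, conj_mul] at this
  simpa using this

theorem Zsq' (h : Zc F (mcZ a n) t) : t ^ 2 = 1 := by rw [sq, y.Zsq h]

theorem Zne (h : Zc F (mcZ a n) t) : t ≠ 1 := by
  rintro rfl
  obtain ⟨g, -, e⟩ := h
  exact y.z1 (by simpa using e.symm)

theorem Zinv (h : Zc F (mcZ a n) t) : t⁻¹ = t := inv_eq_of_mul_eq_one_right (y.Zsq h)

theorem ZnR (h : Zc F (mcZ a n) t) (h1 : t ≠ mcZ a n) : t ∉ R := fun e =>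
  (y.invol e (y.Zsq' h)).elim (y.Zne h) h1

theorem Zncz (h : Zc F (mcZ a n) t) (h1 : t ≠ mcZ a n) : t ∉ cz R := fun e => by
  obtain ⟨g, H, e1⟩ := h
  have e2 : g⁻¹ * mcZ a n * g⁻¹⁻¹ = t := by rw [← e1]; group
  exact h1 (e2 ▸ y.h2 g⁻¹ (H.inv' (by rw [cj_zpowers, e1])) (e2 ▸ e))

theorem alpha (h : Zc F (mcZ a n) t) : ∃ g, F.T (Dt F t) g ∧ g * t * g⁻¹ = mcZ a n := by
  obtain ⟨g, H, e⟩ := h
  obtain ⟨k, h1, h2⟩ := y.sat.ext_C H (by rw [cj_zpowers, e]; exact y.fcz)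
  exact ⟨k, h1.mono le_sup_right, (h2 t (mem_zpowers t)).trans e⟩

theorem swap {x : Γ} (H : F.T P g) (H' : F.T P h) (ht : t ∈ P) (hx : x ∈ P)
    (e : g * t * g⁻¹ = mcZ a n) (e' : h * t * h⁻¹ = mcZ a n) (hr : g * x * g⁻¹ ∈ R) :
    h * x * h⁻¹ ∈ R := by
  have := y.scz (cj g P) (h * g⁻¹) (H.inv.mul' H' (by simp)) (e ▸ conj_mem_cj g ht)
    (by conv_lhs => rw [← e]
        rw [← e']; group) _ (conj_mem_cj g hx) hr
  convert this using 1; group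

theorem mem_Rt {x : Γ} (H : F.T P g) (ht : t ∈ P) (hx : x ∈ P) (e : g * t * g⁻¹ = mcZ a n)
    (hr : g * x * g⁻¹ ∈ R) : x ∈ Rt F R (mcZ a n) t := by
  have h1 : x ∈ Dt F t := mem_Dt'.2 ⟨H.le hx, by
    have := y.zc' (y.le hr)
    rw [← e, conj_mul, conj_mul] at this
    simpa using this⟩
  have h2 : t ∈ Dt F t := mem_Dt'.2 ⟨H.le ht, rfl⟩
  exact ⟨h1, fun k H' e' => y.swap (P := P ⊓ Dt F t) (H.mono inf_le_left) (H'.mono inf_le_right)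
    ⟨ht, h2⟩ ⟨hx, h1⟩ e e' hr⟩

/-- transport of elements of `R` -/
theorem mem_Rt' (H : F.T P g) (hz : mcZ a n ∈ P) (hr : r ∈ P) (hr' : r ∈ R) :
    g * r * g⁻¹ ∈ Rt F R (mcZ a n) (g * mcZ a n * g⁻¹) :=
  y.mem_Rt H.inv (conj_mem_cj g hz) (conj_mem_cj g hr) (by group) (by simpa [mul_assoc] using hr')

theorem Rt_map {x : Γ} (hx : x ∈ Rt F R (mcZ a n) t) (H : F.T P g) (ht : t ∈ P) (hx' : x ∈ P)
    (e : g * t * g⁻¹ = mcZ a n) : g * x * g⁻¹ ∈ R := by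
  obtain ⟨k, H', e'⟩ := y.alpha ⟨g, H.mono (zpowers_le.2 ht), e⟩
  exact y.swap (P := P ⊓ Dt F t) (H'.mono inf_le_right) (H.mono inf_le_left)
    ⟨ht, mem_Dt'.2 ⟨H.le ht, rfl⟩⟩ ⟨hx', hx.1⟩ e' e (hx.2 k H' e')

theorem Rt_conj {x : Γ} (h : Zc F (mcZ a n) t) (hx : x ∈ Rt F R (mcZ a n) t) (H : F.T P g)
    (ht : t ∈ P) (hx' : x ∈ P) : g * x * g⁻¹ ∈ Rt F R (mcZ a n) (g * t * g⁻¹) := by
  obtain ⟨k, H', e'⟩ := y.alpha h
  refine y.mem_Rt (P := cj g (P ⊓ Dt F t)) (g := k * g⁻¹) ((H.inv' (cj_mono g inf_le_left)).mul' H'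
    (by rw [cj_inv_cj]; exact inf_le_right)) (conj_mem_cj g ⟨ht, h.self⟩) (conj_mem_cj g ⟨hx', hx.1⟩) (by rw [← e']; group) ?_
  convert hx.2 k H' e' using 1; group

theorem self_Rt (h : Zc F (mcZ a n) t) : t ∈ Rt F R (mcZ a n) t :=
  ⟨h.self, fun _ _ e => e ▸ y.zR⟩

theorem Rt_invol {x : Γ} (h : Zc F (mcZ a n) t) (hx : x ∈ Rt F R (mcZ a n) t) (h2 : x ^ 2 = 1) :
    x = 1 ∨ x = t := by
  obtain ⟨k, H', e'⟩ := y.alpha h
  rcases y.invol (hx.2 k H' e') (by rw [conj_pow, h2]; simp) with e | e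
  · exact .inl (by simpa using e)
  · exact .inr (by simpa using e.trans e'.symm)

theorem Rt_pow {x : Γ} (h : Zc F (mcZ a n) t) (hx : x ∈ Rt F R (mcZ a n) t) (h1 : x ≠ 1) :
    ∃ k : ℕ, x ^ k = t := by
  obtain ⟨k, h3, h4⟩ := H4.exists_pow_notMem_pow_mem (p := 2) (M := ⊥) (x := x)
    (let ⟨m, hm⟩ := y.sat.pg ⟨x, hx.1.1⟩; ⟨m, congrArg Subtype.val hm⟩) h1
  exact ⟨_, (y.Rt_invol h (pow_mem hx _) h4).resolve_left h3⟩

theorem Rt_R {x : Γ} (h : Zc F (mcZ a n) t) (h1 : t ≠ mcZ a n) (hx : x ∈ Rt F R (mcZ a n) t)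
    (hx' : x ∈ R) : x = 1 := by
  by_contra e
  obtain ⟨k, rfl⟩ := y.Rt_pow h hx e
  exact y.ZnR h h1 (pow_mem hx' k)

theorem Rt_cz {x : Γ} (h : Zc F (mcZ a n) t) (h1 : t ≠ mcZ a n) (hx : x ∈ Rt F R (mcZ a n) t)
    (hx' : x ∈ cz R) : x = 1 := by
  by_contra e
  obtain ⟨k, rfl⟩ := y.Rt_pow h hx e
  exact y.Zncz h h1 (pow_mem hx' k)

theorem Rt_nrm {x : Γ} (h : Zc F (mcZ a n) t) (hx : x ∈ Rt F R (mcZ a n) t) (hs : s ∈ Dt F t) :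
    s * x * s⁻¹ ∈ Rt F R (mcZ a n) t := by
  have := y.Rt_conj h hx (F.of_mem le_rfl hs.1) h.mem hx.1.1
  rwa [(mem_Dt.1 hs).2] at this

theorem Rt_comm {x : Γ} (h : Zc F (mcZ a n) t) (h1 : t ≠ mcZ a n) (hx : x ∈ Rt F R (mcZ a n) t)
    (hr : r ∈ R) (e : r * t = t * r) : x * r = r * x := by
  have := y.Rt_R h h1 (mul_mem (y.Rt_nrm h hx (mem_Dt'.2 ⟨y.le hr, e⟩)) (inv_mem hx))
    (by rw [mul_assoc, mul_assoc, ← mul_assoc x]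
        exact mul_mem hr (conj_mem_of_mem_nz (y.nrm hx.1.1) (inv_mem hr)))
  rw [mul_inv_eq_one, mul_inv_eq_iff_eq_mul] at this
  exact this.symm

theorem cy {x : Γ} (h : Zc F (mcZ a n) t) (h1 : t ≠ mcZ a n) (hx : x ∈ Rt F R (mcZ a n) t)
    (h2 : x ^ 2 ≠ 1) : a * t = t * a := by
  obtain ⟨k, H', e'⟩ := y.alpha h
  obtain ⟨m, hm⟩ := y.exists_sq (hx.2 k H' e') (by rw [conj_pow]; simpa using h2)
  rw [conj_pow, conj_pow, ← e'] at hm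
  replace hm : x ^ m * x ^ m = t := by simpa [sq] using hm
  have hx' := pow_mem hx m
  obtain ⟨i, j, ⟨p, rfl⟩, A⟩ := y.act (y.nrm hx'.1.1)
  have A2 := hm ▸ A.mul A
  have A4 := y.Zsq h ▸ A2.mul A2
  have d1 := (y.act_unique (Act.one a b) A4).1
  obtain ⟨v, hv⟩ := Int.even_mul_succ_self p
  have d2 : (2 : ℤ) ^ n ∣ 2 * ((2 * p + 1) * (2 * p + 1) - 1) := by
    refine (two_pow_dvd_odd_mul_iff (a := 4 * v + 1) ⟨2 * v, by ring⟩).1 ?_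
    convert d1 using 1
    linear_combination (-4 * ((2 * p + 1) * (2 * p + 1) - 1)) * hv
  have c1 : a ^ (2 : ℤ) * t = t * a ^ (2 : ℤ) := by
    refine (mul_inv_eq_iff_eq_mul.1 ?_).symm
    rw [A2.za, y.eq_iff, ← dvd_neg]; exact dv d2 (by ring)
  have c2 := y.Rt_comm h h1 hx' (y.mc.zpow_mem 2) c1
  rw [← mul_inv_eq_iff_eq_mul, A.za, y.eq_iff, ← dvd_neg] at c2
  refine (mul_inv_eq_iff_eq_mul.1 ?_).symm
  rw [A2.1, ← zpow_one a, ← zpow_mul, y.eq_iff, ← dvd_neg]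
  exact dv (c2.mul_right (p + 1)) (by ring)

theorem Rt_act {x : Γ} (h : Zc F (mcZ a n) t) (h1 : t ≠ mcZ a n) (c : a * t = t * a)
    (hx : x ∈ Rt F R (mcZ a n) t) : ∃ j, Act a b x 1 j := by
  obtain ⟨i, j, -, A⟩ := y.act (y.nrm hx.1.1)
  exact ⟨j, .of_comm (y.Rt_comm h h1 hx y.aR c) A.2⟩

theorem fix_z (H : F.T P g) (hP : R ≤ P) : g * mcZ a n * g⁻¹ = mcZ a n := by
  by_contra h1
  have h := y.Zz.conj H (hP y.zR)
  have m1 := y.mem_Rt' H (hP y.zR) (hP y.aR) y.aR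
  have m2 := y.mem_Rt' H (hP y.zR) (hP y.bR) y.bR
  have c := y.cy h h1 m2 (by rw [conj_pow, y.bsq]; simpa using y.z1)
  obtain ⟨i, A⟩ := y.Rt_act h h1 c m1
  obtain ⟨j, B⟩ := y.Rt_act h h1 c m2
  have := y.Rt_cz h h1 (mul_mem (mul_mem (mul_mem m2 m1) (inv_mem m2)) (inv_mem m1))
    (y.cz_of_act (((B.mul A).mul B.inv_one).mul A.inv_one) (by simp) (by simp))
  rw [conj_mul, conj_inv, conj_mul, conj_inv, conj_mul, y.bab] at this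
  refine y.not_dvd_odd (x := -1) (by decide) (y.eq_one.1 ?_)
  simpa [zpow_neg, sq] using this

end Hy

end H20.QF
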