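import Cfsg.Agent.H20.QF1

/-!
# Fusion systems with a tightly embedded quaternion subgroup, II: the automorphism of order three
-/

set_option autoImplicit false
set_option linter.unusedSectionVars false

namespace H20.QF

open Subgroup H25 H25.FS H10
open scoped commutatorElement

variable {Γ : Type*} [Group Γ] {F E : FS Γ} {R P K : Subgroup Γ} {n : ℕ}
  {a b c d g h r s t u w z a₀ c₀ ρ : Γ} {i j k l : ℤ}

/-- the four-group on `z` and `t` -/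
def Vt (z t : Γ) : Subgroup Γ := zpowers z ⊔ zpowers t

theorem z_mem_V : z ∈ Vt z t := mem_sup_left (mem_zpowers z)
theorem t_mem_V : t ∈ Vt z t := mem_sup_right (mem_zpowers t)
theorem cj_V (g z t : Γ) : cj g (Vt z t) = Vt (g * z * g⁻¹) (g * t * g⁻¹) := by
  rw [Vt, cj_sup, cj_zpowers, cj_zpowers, Vt]
theorem V_comm (z t : Γ) : Vt z t = Vt t z := sup_comm _ _

theorem zpow_of_sq (h : z * z = 1) (i : ℤ) : z ^ i = 1 ∨ z ^ i = z := by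
  have : z ^ (2 : ℤ) = 1 := by rw [zpow_two, h]
  obtain ⟨m, rfl | rfl⟩ := i.even_or_odd'
  · left; rw [zpow_mul, this, one_zpow]
  · right; rw [zpow_add_one, zpow_mul, this, one_zpow, one_mul]

theorem mem_V (hz : z * z = 1) (ht : t * t = 1) (c : t * z = z * t) (hs : s ∈ Vt z t) :
    s = 1 ∨ s = z ∨ s = t ∨ s = t * z := by
  rcases H4.mem_sup_cases (a := z) (b := t) (k := 1) (by rw [c]; group)
    (by rw [sq, ht]; exact one_mem _) hs with ⟨j, rfl⟩ | ⟨j, rfl⟩ <;>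
  rcases zpow_of_sq hz j with e | e <;> simp [e, c]

theorem V_mul (hz : z * z = 1) : Vt z (t * z) = Vt z t :=
  le_antisymm (sup_le le_sup_left (zpowers_le.2 (mul_mem t_mem_V z_mem_V)))
    (sup_le le_sup_left (zpowers_le.2 (by
      have := mul_mem (t_mem_V (z := z) (t := t * z)) z_mem_V
      rwa [mul_assoc, hz, mul_one] at this)))

/-- the subsystem of maps that are trivial modulo `K` -/
def stF (F : FS Γ) (K : Subgroup Γ) (hK : ⁅F.S, F.S⁆ ≤ K) : FS Γ where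
  S := F.S
  T P g := F.T P g ∧ ∀ x ∈ P, x⁻¹ * (g * x * g⁻¹) ∈ K
  le_S' h := h.1.le
  cj_le_S' h := h.1.cj_le
  of_mem hP hs := ⟨F.of_mem hP hs, fun x hx => by
    simpa [mul_assoc] using hK (commutator_le_iff'.1 le_rfl _ (inv_mem (hP hx)) _ hs)⟩
  congr' h e := ⟨h.1.congr e, fun x hx => by rw [e x hx]; exact h.2 x hx⟩
  mono' h e := ⟨h.1.mono e, fun x hx => h.2 x (e hx)⟩
  mul' {P g h} H H' := ⟨H.1.mul H'.1, fun x hx => by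
    convert mul_mem (H.2 x hx) (H'.2 _ (conj_mem_cj g hx)) using 1; group⟩
  inv' {P g} H := ⟨H.1.inv, fun x hx => by
    obtain ⟨v, hv, rfl⟩ := mem_cj'.1 hx
    convert inv_mem (H.2 v hv) using 1; group⟩

/-- the automorphism of order three of `C_S(t)` -/
structure Rho (F : FS Γ) (R : Subgroup Γ) (z t w a₀ c₀ ρ : Γ) : Prop where
  T : F.T (Dt F t) ρ
  nrm : ρ ∈ nz (Dt F t)
  a : ρ * a₀ * ρ⁻¹ = c₀
  c : ρ * c₀ * ρ⁻¹ = (c₀ * a₀)⁻¹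
  z : ρ * z * ρ⁻¹ = t
  st : ∀ d ∈ Dt F t, d⁻¹ * (ρ * d * ρ⁻¹) ∈ zpowers a₀ ⊔ zpowers c₀
  split : ∀ d ∈ Dt F t, ∃ k l : ℤ, ∃ e ∈ Dt F t, ρ * e * ρ⁻¹ = e ∧ d = a₀ ^ k * c₀ ^ l * e
  comm : ∀ e ∈ Dt F t, ρ * e * ρ⁻¹ = e → w * e = e * w
  faith : ∀ e ∈ Dt F t, ρ * e * ρ⁻¹ = e → e ∈ cz R → e = 1

theorem Rho.T' (h : Rho F R z t w a₀ c₀ ρ) : F.T (Dt F t) ρ⁻¹ :=
  h.T.inv' (mem_nz.1 h.nrm).ge

theorem mem_sup_comm (c : a₀ * c₀ = c₀ * a₀) (hs : s ∈ zpowers a₀ ⊔ zpowers c₀) :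
    ∃ k l : ℤ, s = a₀ ^ k * c₀ ^ l := by
  obtain ⟨_, ⟨k, rfl⟩, _, ⟨l, rfl⟩, rfl⟩ := (mem_sup_of_le_nz_right ((zpowers_le.2
    (mem_cz_zpowers.2 (by rw [c]; group))).trans (cz_le_nz _))).1 hs
  exact ⟨k, l, rfl⟩

theorem u_mem (a₀ c₀ : Γ) (k l : ℤ) : a₀ ^ k * c₀ ^ l ∈ zpowers a₀ ⊔ zpowers c₀ :=
  mul_mem (mem_sup_left (zpow_mem_zpowers _ _)) (mem_sup_right (zpow_mem_zpowers _ _))

theorem u_mul (c : a₀ * c₀ = c₀ * a₀) (i j k l : ℤ) :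
    a₀ ^ i * c₀ ^ j * (a₀ ^ k * c₀ ^ l) = a₀ ^ (i + k) * c₀ ^ (j + l) := by
  have := (Commute.zpow_zpow (show Commute a₀ c₀ from c) k j).eq
  rw [zpow_add, zpow_add, mul_assoc, ← mul_assoc (c₀ ^ j), ← this]; group

theorem u_inv (c : a₀ * c₀ = c₀ * a₀) (i j : ℤ) :
    (a₀ ^ i * c₀ ^ j)⁻¹ = a₀ ^ (-i) * c₀ ^ (-j) :=
  inv_eq_of_mul_eq_one_right (by rw [u_mul c]; simp)

theorem ca_zpow (c : a₀ * c₀ = c₀ * a₀) (i : ℤ) : (c₀ * a₀) ^ i = a₀ ^ i * c₀ ^ i := by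
  rw [← c, Commute.mul_zpow c]

theorem rho_u (c : a₀ * c₀ = c₀ * a₀) (h1 : ρ * a₀ * ρ⁻¹ = c₀) (h2 : ρ * c₀ * ρ⁻¹ = (c₀ * a₀)⁻¹)
    (k l : ℤ) : ρ * (a₀ ^ k * c₀ ^ l) * ρ⁻¹ = a₀ ^ (-l) * c₀ ^ (k - l) := by
  rw [← conj_mul, ← conj_zpow, ← conj_zpow, h1, h2, inv_zpow', ca_zpow c]
  simpa [sub_eq_add_neg] using u_mul c 0 k (-l) (-l)

theorem w_u (c : a₀ * c₀ = c₀ * a₀) (h1 : w * a₀ * w⁻¹ = a₀⁻¹) (h2 : w * c₀ * w⁻¹ = c₀ * a₀)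
    (k l : ℤ) : w * (a₀ ^ k * c₀ ^ l) * w⁻¹ = a₀ ^ (l - k) * c₀ ^ l := by
  rw [← conj_mul, ← conj_zpow, ← conj_zpow, h1, h2, inv_zpow', ca_zpow c, ← mul_assoc, ← zpow_add,
    neg_add_eq_sub]

namespace Hy
variable [Finite Γ] (y : Hy F R n a b)
include y

theorem V_le (ht : t ∈ F.S) : Vt (mcZ a n) t ≤ F.S := sup_le (zpowers_le.2 y.zS) (zpowers_le.2 ht)

theorem V_le_D (ht : t ∈ F.S) : Vt (mcZ a n) t ≤ Dt F t :=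
  sup_le (zpowers_le.2 (y.zD ht)) (zpowers_le.2 (mem_Dt'.2 ⟨ht, rfl⟩))

theorem C_V : F.C (Vt (mcZ a n) t) = Dt F t := by
  rw [Vt, FS.C, cz_sup, ← inf_assoc, inf_eq_left.2 (show F.S ≤ _ from fun s hs =>
    mem_cz_zpowers.2 (y.zc hs))]

theorem memV (h : Zc F (mcZ a n) t) (hs : s ∈ Vt (mcZ a n) t) :
    s = 1 ∨ s = mcZ a n ∨ s = t ∨ s = t * mcZ a n := mem_V y.zz (y.Zsq h) (y.zc' h.mem) hs

theorem exists_V (G : Γ → Prop) (h0 : ∀ t, G t → Zc F (mcZ a n) t)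
    (h1 : ∀ t φ, G t → F.T (F.N (Vt (mcZ a n) t)) φ →
      φ * mcZ a n * φ⁻¹ = mcZ a n ∧ G (φ * t * φ⁻¹))
    (h2 : ∀ t α, G t → F.T (Dt F t) α → α * t * α⁻¹ = mcZ a n → G (α * mcZ a n * α⁻¹))
    (ht : G t) : ∃ t g, G t ∧ F.T (Dt F t) g ∧ g * t * g⁻¹ = mcZ a n ∧ g ∈ nz (Vt (mcZ a n) t) := by
  obtain ⟨φ, H, hV⟩ := y.sat.exists_FN (y.V_le (h0 t ht).mem)
  obtain ⟨e, ht₁⟩ := h1 t φ ht H
  rw [cj_V, e] at hV
  generalize φ * t * φ⁻¹ = t at ht₁ hV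
  have hZ := h0 t ht₁
  obtain ⟨α, A, e₁⟩ := y.alpha hZ
  have A' := A.mono (y.V_le_D hZ.mem)
  obtain ⟨ψ, B, e₂, -⟩ := y.sat.exists_N_map hV A'.inv (cj_inv_cj _ _)
  have e₃ := e₂
  rw [cj_V, e₁, V_comm] at B e₃
  have e₄ := (h1 _ ψ (h2 t α ht₁ A e₁) B).1
  have C := A'.mul' B (by rw [cj_V, e₁, V_comm]; exact le_N (y.V_le (A.conj_mem (y.zD hZ.mem))))
  rw [cj_cj] at e₂
  obtain ⟨k, D, e₅⟩ := (y.sat.rec_fn hV).ext_C C e₂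
  refine ⟨t, k, ht₁, y.C_V ▸ D.mono le_sup_right, ?_, e₅.mem_nz (mem_nz.2 e₂)⟩
  rw [e₅ t t_mem_V, ← e₄, ← e₁]; group

theorem rho (h : Zc F (mcZ a n) t) (h1 : t ≠ mcZ a n) (H : F.T (Dt F t) g)
    (e : g * t * g⁻¹ = mcZ a n) (hg : g ∈ nz (Vt (mcZ a n) t)) (hw : w ∈ R)
    (ha : R ⊓ Dt F t = zpowers a₀) (hc : Rt F R (mcZ a n) t = zpowers c₀)
    (wa : w * a₀ * w⁻¹ = a₀⁻¹) (wc : w * c₀ * w⁻¹ = c₀ * a₀) (wt : w * t * w⁻¹ = t * mcZ a n)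
    (ww : w * w = mcZ a n) : ∃ ρ, Rho F R (mcZ a n) t w a₀ c₀ ρ := by
  set z := mcZ a n with hz
  have wS := y.le hw
  have wz : w * z * w⁻¹ = z := y.zc wS
  have nD : ∀ {k}, F.T (Dt F t) k → k ∈ nz (Vt z t) → k ∈ nz (Dt F t) := fun {k} A B =>
    mem_nz_of_le (y.C_V (t := t) ▸ le_inf (y.C_V ▸ A.cj_le) (by
      rw [cj_le_iff]; exact inf_le_right.trans (mem_nz.1 (mem_nz_cz (inv_mem B))).ge))
  have wV : w ∈ nz (Vt z t) := mem_nz.2 (by rw [cj_V, wz, wt, V_mul y.zz])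
  have W : F.T (Dt F t) w := F.of_mem (Dt_le F t) wS
  have gD := nD H hg
  have wD := nD W wV
  have gA := H.mem_A gD
  have wA := W.mem_A wD
  have zD : z ∈ Dt F t := y.zD h.mem
  have aRD : a₀ ∈ R ⊓ Dt F t := ha ▸ mem_zpowers a₀
  have aR : a₀ ∈ R := aRD.1
  have aD : a₀ ∈ Dt F t := aRD.2
  have cRt : c₀ ∈ Rt F R z t := hc ▸ mem_zpowers c₀
  have ac : a₀ * c₀ = c₀ * a₀ := (y.Rt_comm h h1 cRt aR (mem_Dt'.1 aD).2).symm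
  have ww' : ∀ d ∈ Dt F t, w⁻¹ * d * w = w * d * w⁻¹ := fun d hd => by
    calc _ = w⁻¹ * (z * d * z⁻¹) * w := by rw [hz, ← y.zc' hd.1]; group
      _ = _ := by rw [← ww]; group
  have s1 : ∀ d ∈ Dt F t, w * d * w⁻¹ * d⁻¹ ∈ zpowers a₀ := fun d hd => ha.le <| mem_inf.2
    ⟨by rw [mul_assoc, mul_assoc, ← mul_assoc d]
        exact mul_mem hw (conj_mem_of_mem_nz (y.nrm hd.1) (inv_mem hw)),
      mul_mem (conj_mem_of_mem_nz wD hd) (inv_mem hd)⟩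
  have H' : F.T (Dt F t) g⁻¹ := T_of_mem_A (Dt_le F t) (inv_mem gA)
  have e' : g⁻¹ * z * g⁻¹⁻¹ = t := by rw [← e]; group
  have s2 : ∀ d ∈ Dt F t, g⁻¹ * w * g * d * (g⁻¹ * w * g)⁻¹ * d⁻¹ ∈ zpowers c₀ := fun d hd => by
    have a1 := mem_inf.1 (ha.ge (s1 _ (conj_mem_of_mem_nz gD hd)))
    have a2 := y.mem_Rt' H' zD a1.2 a1.1
    rw [e', hc] at a2
    convert a2 using 1; group
  obtain ⟨m, hm⟩ := ha.le ⟨y.Rt_map cRt H h.self cRt.1 e, conj_mem_of_mem_nz gD cRt.1⟩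
  simp only at hm
  have s3 : g⁻¹ * w * g * c₀ * (g⁻¹ * w * g)⁻¹ = c₀⁻¹ := by
    calc _ = g⁻¹ * (w * (g * c₀ * g⁻¹) * w⁻¹) * g := by group
      _ = g⁻¹ * (g * c₀ * g⁻¹)⁻¹ * g := by rw [← hm, ← conj_zpow, wa, inv_zpow]
      _ = _ := by group
  have s4 : w * (g * z * g⁻¹) * w⁻¹ = g * z * g⁻¹ * z := by
    rcases y.memV h (conj_mem_of_mem_nz hg z_mem_V) with a | a | a | a
    · exact absurd (by simpa using a) y.z1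
    · exact absurd (by simpa using e.trans a.symm) h1
    · rw [a, wt]
    · rw [a, ← conj_mul, wt, wz]
  have s5 : w⁻¹ * (g⁻¹ * w * g) * z * (w⁻¹ * (g⁻¹ * w * g))⁻¹ = t := by
    calc _ = w⁻¹ * (g⁻¹ * (w * (g * z * g⁻¹) * w⁻¹) * g) * w := by group
      _ = w⁻¹ * (z * (g⁻¹ * z * g⁻¹⁻¹)) * w := by rw [s4]; group
      _ = _ := by rw [e', ← y.zc' h.mem, ← wt]; group
  have ρA := mul_mem (inv_mem wA) (mul_mem (mul_mem (inv_mem gA) wA) gA)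
  generalize g⁻¹ * w * g = v at s2 s3 s5 ρA
  have ρT := T_of_mem_A (Dt_le F t) ρA
  have ρD := F.A_le_nz _ ρA
  have ρc : w⁻¹ * v * c₀ * (w⁻¹ * v)⁻¹ = (c₀ * a₀)⁻¹ := by
    calc _ = (w⁻¹ * (v * c₀ * v⁻¹)⁻¹ * w)⁻¹ := by group
      _ = _ := by rw [s3, inv_inv, ww' _ cRt.1, wc]
  have ρa : w⁻¹ * v * a₀ * (w⁻¹ * v)⁻¹ = c₀ := by
    obtain ⟨p, hp⟩ := s2 _ aD
    simp only at hp
    have a1 : w⁻¹ * v * a₀ * (w⁻¹ * v)⁻¹ = a₀ ^ (p - 1) * c₀ ^ p := by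
      calc _ = w⁻¹ * (v * a₀ * v⁻¹ * a₀⁻¹ * a₀) * w := by group
        _ = w⁻¹ * (a₀ ^ (1 : ℤ) * c₀ ^ p) * w := by
          rw [← hp, zpow_one, (Commute.zpow_right ac p).eq]
        _ = _ := by
          rw [ww' _ (mul_mem (zpow_mem aD _) (zpow_mem cRt.1 _)), w_u ac wa wc]
    have a2 := y.mem_Rt' ρT zD aD aR
    rw [s5, a1, Subgroup.mul_mem_cancel_right _ (zpow_mem cRt p)] at a2
    have a3 := y.Rt_R h h1 a2 (zpow_mem aR _)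
    have a4 : c₀ ^ (p - 1) = 1 := by
      have : g * c₀ ^ (p - 1) * g⁻¹ = 1 := by
        rw [← conj_zpow, ← hm, ← zpow_mul, mul_comm m, zpow_mul, a3, one_zpow]
      simpa using this
    rw [a1, a3, one_mul, ← sub_add_cancel p 1, zpow_add_one, a4, one_mul]
  have s6 : ∀ d ∈ Dt F t, ∃ k l : ℤ, w⁻¹ * v * d * (w⁻¹ * v)⁻¹ = a₀ ^ k * c₀ ^ l * d := fun d hd => by
    obtain ⟨p, hp⟩ := s2 _ hd
    obtain ⟨q, hq⟩ := s1 _ hd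
    simp only at hp hq
    refine ⟨p + q, p, ?_⟩
    calc _ = w⁻¹ * (v * d * v⁻¹ * d⁻¹) * w * (w⁻¹ * d * w * d⁻¹) * d := by group
      _ = w * (a₀ ^ (0 : ℤ) * c₀ ^ p) * w⁻¹ * (a₀ ^ q * c₀ ^ (0 : ℤ)) * d := by
        rw [← hp, ww' _ hd, ← hq, ww' _ (zpow_mem cRt.1 _)]; simp
      _ = _ := by rw [w_u ac wa wc, u_mul ac]; simp
  refine ⟨w⁻¹ * v, ρT, ρD, ρa, ρc, s5, fun d hd => ?_, fun d hd => ?_, fun d hd e1 => ?_,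
    fun d hd e1 e2 => ?_⟩
  · obtain ⟨k, l, e1⟩ := s6 _ (inv_mem hd)
    convert inv_mem (u_mem a₀ c₀ k l) using 1
    rw [eq_mul_inv_iff_mul_eq] at e1
    rw [← e1]; group
  · obtain ⟨k, l, e1⟩ := s6 _ hd
    obtain ⟨p, hp⟩ := y.sat.pg ⟨a₀, Dt_S aD⟩
    replace hp : a₀ ^ 2 ^ p = 1 := congrArg Subtype.val hp
    replace hp : a₀ ^ ((2 : ℤ) ^ p) = 1 := by exact_mod_cast hp
    have hp' : c₀ ^ ((2 : ℤ) ^ p) = 1 := by rw [← ρa, conj_zpow, hp]; simp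
    obtain ⟨q, hq⟩ : ∃ q : ℤ, 2 ^ p * 2 ^ p = 3 * q + 1 := ⟨2 ^ p * 2 ^ p / 3, by
      have : (2 : ℤ) ^ p * 2 ^ p % 3 = 1 := by
        rw [← mul_pow]; simpa [Int.ModEq] using (show (2 * 2 : ℤ) ≡ 1 [ZMOD 3] by decide).pow p
      omega⟩
    set u := a₀ ^ (-k - (k + l) * q) * c₀ ^ ((k + l) * q) with hu
    have uD : u ∈ Dt F t := mul_mem (zpow_mem aD _) (zpow_mem cRt.1 _)
    refine ⟨-k - (k + l) * q, (k + l) * q, u⁻¹ * d, mul_mem (inv_mem uD) hd, ?_, by rw [← hu]; group⟩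
    rw [← conj_mul, e1, ← conj_inv, hu, rho_u ac ρa ρc, u_inv ac, u_inv ac, ← mul_assoc, u_mul ac]
    congr 2
    · congr 1; ring
    · rw [← mul_one (c₀ ^ (-((k + l) * q))), ← one_zpow (2 ^ p * (k + l)), ← hp', ← zpow_mul,
        ← zpow_add]
      congr 1
      linear_combination (-(k + l)) * hq
  · have a1 : v * d * v⁻¹ = w * d * w⁻¹ := by
      calc _ = w * (w⁻¹ * v * d * (w⁻¹ * v)⁻¹) * w⁻¹ := by group
        _ = _ := by rw [e1]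
    have a2 := y.Rt_R h h1 (hc.ge (a1 ▸ s2 d hd)) (ha.ge (s1 d hd)).1
    rwa [mul_inv_eq_one, mul_inv_eq_iff_eq_mul] at a2
  · by_contra d1
    obtain ⟨k, a1, a2⟩ := H4.exists_pow_notMem_pow_mem (p := 2) (M := ⊥) (x := d)
      (let ⟨m, hm⟩ := y.sat.pg ⟨d, hd.1⟩; ⟨m, congrArg Subtype.val hm⟩) d1
    exact h1 (s5.symm.trans (y.h3 _ _ _ ρT zD (pow_mem hd _) (pow_mem e2 _) a2 a1
      (by rw [← conj_pow, e1])))

theorem gen (h1 : ∀ P g, F.T P g → mcZ a n ∈ P → g * mcZ a n * g⁻¹ = mcZ a n → E.T P g)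
    (h2 : ∀ u, Zc F (mcZ a n) u → u ≠ mcZ a n →
      ∃ γ, F.T (Dt F u) γ ∧ E.T (Dt F u) γ ∧ γ * u * γ⁻¹ = mcZ a n) : F ≤ E :=
  y.sat.le_of_cr fun Q _ hc _ g hg => by
    have zQ : mcZ a n ∈ Q := hc.C_le ⟨y.zS, mem_cz'.2 fun x hx => y.zc' (hc.le hx)⟩
    have H := T_of_mem_A hc.le hg
    have H' := T_of_mem_A hc.le (inv_mem hg)
    have gQ := F.A_le_nz _ hg
    by_cases e : g⁻¹ * mcZ a n * g⁻¹⁻¹ = mcZ a n
    · exact h1 Q g H zQ (by conv_lhs => rw [← e]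
                            group)
    obtain ⟨γ, A, B, e'⟩ := h2 _ (y.Zz.conj H' zQ) e
    have hQ : Q ≤ Dt F (g⁻¹ * mcZ a n * g⁻¹⁻¹) := fun x hx => mem_Dt.2 ⟨hc.le hx, by
      calc _ = g⁻¹ * (g * x * g⁻¹ * mcZ a n * (g * x * g⁻¹)⁻¹) * g := by group
        _ = _ := by rw [y.zc (H.conj_mem hx), inv_inv]⟩
    have := (B.mono hQ).mul (h1 (cj γ Q) (g * γ⁻¹) ((A.mono hQ).inv.mul' H (by simp))
      (e' ▸ conj_mem_cj γ (conj_mem_of_mem_nz (inv_mem gQ) zQ)) (by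
        conv_lhs => rw [← e']
        group))
    simpa using this

theorem E_S : (F.CF (zpowers (mcZ a n))).S = F.S :=
  inf_eq_left.2 fun _ hs => mem_cz_zpowers.2 (y.zc hs)

theorem E_sat : (F.CF (zpowers (mcZ a n))).Sat 2 := y.sat.CF y.fcz

theorem E_T (H : F.T P g) (hz : mcZ a n ∈ P) (e : g * mcZ a n * g⁻¹ = mcZ a n) :
    (F.CF (zpowers (mcZ a n))).T P g :=
  (NK_T_of_le (zpowers_le.2 hz) le_rfl).2
    ⟨fun _ hs => mem_cz_zpowers.2 (y.zc (H.le hs)), H, mem_cz_zpowers.2 e⟩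

theorem E_sc : (F.CF (zpowers (mcZ a n))).SC R :=
  ⟨y.E_S ▸ y.le, fun P g H x hx hx' => by
    obtain ⟨-, k, h1, h2, h3⟩ := (CF_T (zpowers_le.2 y.zS)).1 H
    rw [h3 x hx]
    exact y.scz _ _ h2 (mem_sup_right (mem_zpowers _)) (mem_cz_zpowers.1 h1) x (mem_sup_left hx) hx'⟩

theorem E_hyp (hs : s ∈ (F.CF (zpowers (mcZ a n))).hyp 2) :
    ∃ r ∈ R, ∃ f ∈ F.S, f ∈ cz R ∧ s = r * f := by
  have h1 := sup_le_sup_right (resid_le_iff.2 fun g hg ho => y.odd_cz (A_le_nz _ _ hg) ho) _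
    (y.E_sat.hyp_le_resid y.E_sc hs)
  rw [sup_comm] at h1
  obtain ⟨r, hr, f, hf, rfl⟩ := (mem_sup_of_le_nz_left (cz_le_nz R)).1 h1
  exact ⟨r, hr, f, (F.S.mul_mem_cancel_left (y.le hr)).1 (y.E_S ▸ hyp_le _ 2 hs), hf, rfl⟩

theorem S_le (hK : ⁅F.S, F.S⁆ ≤ K) (hE : (F.CF (zpowers (mcZ a n))).foc ≤ K)
    (H : F.T P ρ) (hρ : ∀ d ∈ P, d⁻¹ * (ρ * d * ρ⁻¹) ∈ K)
    (hg : ∀ E : FS Γ, (∀ P g, F.T P g → mcZ a n ∈ P → g * mcZ a n * g⁻¹ = mcZ a n → E.T P g) →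
      E.T P ρ → F ≤ E) : F.S ≤ K :=
  y.foc ▸ foc_le_iff.2 fun Q g A => (hg (stF F K hK) (fun _ _ B hz e =>
    ⟨B, fun _ hx => hE ((y.E_T B hz e).mem_foc hx)⟩) ⟨H, hρ⟩ Q g A).2

theorem S_eq (hP : K ≤ F.S) (hE : (F.CF (zpowers (mcZ a n))).hyp 2 ≤ K)
    (H : F.T P ρ) (hρ : ∀ d ∈ P, d⁻¹ * (ρ * d * ρ⁻¹) ∈ K)
    (hg : ∀ E : FS Γ, (∀ P g, F.T P g → mcZ a n ∈ P → g * mcZ a n * g⁻¹ = mcZ a n → E.T P g) →
      E.T P ρ → F ≤ E) : K = F.S :=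
  eq_of_sup_commutator y.sat.pg hP (y.S_le le_sup_right (by
    rw [y.E_sat.foc_eq, y.E_S]; exact sup_le_sup_right hE _) H
      (fun d hd => mem_sup_left (hρ d hd)) hg)

end Hy

end H20.QF
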