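import Cfsg.Agent.H20.QF2

/-!
# Fusion systems with a tightly embedded quaternion subgroup, III: the semidihedral case
-/

set_option autoImplicit false
set_option linter.unusedSectionVars false

namespace H20.QF

open Subgroup H25 H25.FS H10
open scoped commutatorElement

variable {Γ : Type*} [Group Γ] {F E : FS Γ} {R P K : Subgroup Γ} {n : ℕ}
  {a b c d f g r s t u w z ρ : Γ} {i j k l : ℤ}

theorem exists_inv_odd {p : ℤ} (hp : Odd p) (n : ℕ) : ∃ u : ℤ, (2 : ℤ) ^ n ∣ u * p - 1 := by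
  obtain ⟨u, v, e⟩ : IsCoprime p ((2 : ℤ) ^ n) :=
    (Int.isCoprime_two_right.2 hp).pow_right
  exact ⟨u, -v, by linear_combination e⟩

theorem conj_of_inv (h : t * f * t⁻¹ = f⁻¹) (m : ℤ) : (f ^ m)⁻¹ * t * f ^ m = t * f ^ (2 * m) := by
  have : t * f ^ m * t⁻¹ = (f ^ m)⁻¹ := by rw [← conj_zpow, h, inv_zpow]
  rw [← this]; group

/-- the standard map carrying `u` to `z` lies in `E` -/
def Gm (F E : FS Γ) (z u : Γ) : Prop := ∃ γ, F.T (Dt F u) γ ∧ E.T (Dt F u) γ ∧ γ * u * γ⁻¹ = z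

theorem cj_Dt (A : F.T (Dt F u) g) : cj g (Dt F u) ≤ Dt F (g * u * g⁻¹) := by
  have := A.cj_C_le (P := zpowers u) inf_le_right
  rwa [cj_zpowers] at this

theorem Gm.of (A : F.T (Dt F u) g) (B : E.T (Dt F u) g) (h : Gm F E z (g * u * g⁻¹)) :
    Gm F E z u :=
  let ⟨γ, h1, h2, h3⟩ := h
  ⟨γ * g, A.mul' h1 (cj_Dt A), B.mul' h2 (cj_Dt A), by rw [← h3]; group⟩

theorem Rho.gm (h : Rho F R z t w c d ρ) (B : E.T (Dt F t) ρ) : Gm F E z t :=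
  ⟨ρ⁻¹, h.T', B.inv' (mem_nz.1 h.nrm).ge, by rw [← h.z]; group⟩

namespace Qt
variable (q : Qt R n a b)
include q

theorem xx : a ^ (2 : ℤ) ^ (n - 2) * a ^ (2 : ℤ) ^ (n - 2) = mcZ a n := by
  rw [← zpow_add, mcZ, q.e1, q.e2]; congr 1; ring

theorem a2 : a ^ 2 ≠ 1 := fun e => q.a4 (by
  rw [show (4 : ℤ) = (2 * 2 : ℕ) from rfl, zpow_natCast, pow_mul, e, one_pow])

theorem actb' : Act a b b⁻¹ (-1) 0 :=
  ⟨by rw [inv_inv, zpow_neg_one, ← q.bab, ← mul_left_inj b⁻¹, ← mul_right_inj b]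
      simp only [mul_assoc, mul_inv_cancel, mul_one, mul_inv_cancel_left]
      rw [← mul_assoc, ← mul_assoc, q.bb, ← q.mc.z_comm q.aR, ← mul_inv_rev, q.bb, mul_assoc,
        mul_inv_cancel, mul_one], by simp⟩

end Qt

namespace Hy
variable [Finite Γ] (y : Hy F R n a b)
include y

theorem gmS (h1 : ∀ P g, F.T P g → mcZ a n ∈ P → g * mcZ a n * g⁻¹ = mcZ a n → E.T P g)
    (hu : u ∈ F.S) (hs : s ∈ F.S) (h : Gm F E (mcZ a n) (s * u * s⁻¹)) : Gm F E (mcZ a n) u :=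
  h.of (F.of_mem (Dt_le F u) hs) (h1 _ _ (F.of_mem (Dt_le F u) hs) (y.zD hu) (y.zc hs))

theorem ne_z (h1 : t ≠ mcZ a n) (e : g * mcZ a n * g⁻¹ = mcZ a n) : g * t * g⁻¹ ≠ mcZ a n :=
  fun e' => h1 (by simpa using e'.trans e.symm)

/-- an involution fused to `z` with small centralizer in `R` -/
theorem actI (h : Zc F (mcZ a n) t) (hI : ∀ r ∈ R, r * t = t * r → r ^ 2 = 1) :
    ∃ j, Odd j ∧ Act a b t (-1) j := by
  obtain ⟨i, j, ⟨p, rfl⟩, A⟩ := y.act (y.nrm h.mem)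
  obtain ⟨d1, d2⟩ := y.act_unique (Act.one a b) (y.Zsq h ▸ A.mul A)
  rcases p.even_or_odd with hp | hp
  · have d3 : (2 : ℤ) ^ n ∣ 4 * p := (two_pow_dvd_odd_mul_iff hp.add_one).1 (dv d1 (by ring))
    refine absurd (hI _ (y.mc.zpow_mem 2) (mul_inv_eq_iff_eq_mul.1 ?_).symm) fun e => y.a4 ?_
    · rw [A.za, y.eq_iff, ← dvd_neg]; exact dv d3 (by ring)
    · rw [show (4 : ℤ) = 2 * (2 : ℕ) from rfl, zpow_mul, zpow_natCast, e]
  rcases j.even_or_odd' with ⟨m, rfl | rfl⟩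
  · obtain ⟨u, hu⟩ := exists_inv_odd hp n
    refine absurd ((y.ab_sq (-m * u)).symm.trans (hI _ (mul_mem (y.mc.zpow_mem _) y.bR)
      (mul_inv_eq_iff_eq_mul.1 ?_).symm)) y.z1
    rw [A.zb, mul_left_inj, y.eq_iff]
    exact dv (hu.mul_left (2 * m)) (by ring)
  · refine ⟨_, ⟨m, rfl⟩, ?_, A.2⟩
    rw [A.1, y.eq_iff, ← dvd_neg]
    exact (two_pow_dvd_odd_mul_iff ⟨m, rfl⟩).1 (dv d2 (by ring))

theorem xt (h : Zc F (mcZ a n) t) (A : Act a b t (-1) j) :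
    a ^ (2 : ℤ) ^ (n - 2) * t * (a ^ (2 : ℤ) ^ (n - 2))⁻¹ = t * mcZ a n := by
  have := conj_of_inv (show t * a * t⁻¹ = a⁻¹ by simpa using A.1) (-(2 : ℤ) ^ (n - 2))
  rw [zpow_neg, inv_inv] at this
  rw [this, ← y.zinv, mcZ, ← zpow_neg, y.e1, y.e2]; congr 2; ring

section
variable (hI : ∀ t, Zc F (mcZ a n) t → t ≠ mcZ a n → ∀ r ∈ R, r * t = t * r → r ^ 2 = 1)
include hI

theorem exists_rhoI : ∃ t ρ, Zc F (mcZ a n) t ∧ t ≠ mcZ a n ∧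
    Rho F R (mcZ a n) t (a ^ (2 : ℤ) ^ (n - 2)) (mcZ a n) t ρ := by
  have xR := y.mc.zpow_mem ((2 : ℤ) ^ (n - 2))
  obtain ⟨g₀, H₀, e₀⟩ := y.ncen
  obtain ⟨t, g, ⟨h, h1⟩, H, e, hg⟩ := y.exists_V (fun t => Zc F (mcZ a n) t ∧ t ≠ mcZ a n)
    (fun _ h => h.1) (fun t φ ⟨h, h1⟩ H => by
      obtain ⟨j, -, A⟩ := y.actI h (hI t h h1)
      have V := le_N (y.V_le h.mem)
      have e : φ * mcZ a n * φ⁻¹ = mcZ a n := by
        by_contra e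
        have hZ := y.Zz.conj H (V z_mem_V)
        refine y.a2 (hI _ hZ e a y.aR (y.cy hZ e (y.mem_Rt' H (V z_mem_V) ⟨y.le xR, mem_nz.2 ?_⟩ xR) ?_))
        · rw [cj_V, y.zc (y.le xR), y.xt h A, V_mul y.zz]
        · rw [conj_pow, sq, y.xx]; simpa using y.z1
      exact ⟨e, h.conj H (V t_mem_V), y.ne_z h1 e⟩)
    (fun t α ⟨h, h1⟩ H e => ⟨y.Zz.conj H (y.zD h.mem), fun e' => y.ne_z h1 e' e⟩)
    ⟨y.Zz.conj H₀ (mem_zpowers _), e₀⟩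
  obtain ⟨j, -, A⟩ := y.actI h (hI t h h1)
  refine ⟨t, (y.rho h h1 H e hg xR (le_antisymm (fun r hr => ?_) (zpowers_le.2 ⟨y.zR, y.zD h.mem⟩))
    (le_antisymm (fun x hx => ?_) (zpowers_le.2 (y.self_Rt h))) (by rw [y.zc (y.le xR), y.zinv])
    (y.xt h A) (y.xt h A) y.xx).imp fun _ h' => ⟨h, h1, h'⟩⟩
  · rcases y.invol hr.1 (hI t h h1 r hr.1 (mem_Dt'.1 hr.2).2) with e | e <;> simp [e]
  · rcases y.Rt_invol h hx (by_contra fun e => y.a2 (hI t h h1 a y.aR (y.cy h h1 hx e))) with e | e <;>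
      simp [e]

variable (h : Zc F (mcZ a n) t) (h1 : t ≠ mcZ a n)
  (o : Rho F R (mcZ a n) t (a ^ (2 : ℤ) ^ (n - 2)) (mcZ a n) t ρ)
include h h1 o

theorem xD (hd : d ∈ Dt F t) (c : a ^ (2 : ℤ) ^ (n - 2) * d = d * a ^ (2 : ℤ) ^ (n - 2)) :
    ∃ e ∈ Dt F t, ρ * e * ρ⁻¹ = e ∧ (e = d ∨ e = mcZ a n * d) := by
  obtain ⟨j, -, A⟩ := y.actI h (hI t h h1)
  obtain ⟨k, l, e, he, e1, rfl⟩ := o.split d hd
  have c1 := o.comm e he e1
  have c2 := y.zc (y.le (y.mc.zpow_mem ((2 : ℤ) ^ (n - 2))))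
  refine ⟨e, he, e1, ?_⟩
  rcases zpow_of_sq (y.Zsq h) l with e2 | e2 <;> rw [e2] at c ⊢
  · rcases zpow_of_sq y.zz k with e3 | e3 <;> rw [e3]
    · simp
    · right; rw [mul_one, ← mul_assoc, y.zz, one_mul]
  · rw [← mul_inv_eq_iff_eq_mul, ← conj_mul, ← conj_mul, ← conj_zpow, c2, y.xt h A,
      mul_inv_eq_iff_eq_mul.2 c1] at c
    exact absurd (by simpa using c) y.z1

theorem CD (hd : d ∈ Dt F t) (hc : d ∈ cz R) : d = 1 ∨ d = mcZ a n := by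
  obtain ⟨e, he, e1, e2 | e2⟩ := y.xD hI h h1 o hd (mem_cz'.1 hc _ (y.mc.zpow_mem _))
  · exact .inl (e2 ▸ o.faith e he e1 (e2 ▸ hc))
  · have := o.faith e he e1 (e2 ▸ mul_mem (mem_cz'.2 fun x hx => y.zc' (y.le hx)) hc)
    rw [this, eq_comm, mul_eq_one_iff_inv_eq, y.zinv] at e2
    exact .inr e2.symm

theorem no_four (hf : f ∈ F.S) (hc : f ∈ cz R) (hZ : Zc F (mcZ a n) (t * f)) (f2 : f * f = mcZ a n) :
    False := by
  obtain ⟨j, -, A⟩ := y.actI h (hI t h h1)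
  have ta : t * a * t⁻¹ = a⁻¹ := by simpa using A.1
  have fa : ∀ m : ℤ, a ^ m * f = f * a ^ m := fun m => mem_cz'.1 hc _ (y.mc.zpow_mem m)
  have tf : t * f * t⁻¹ = f⁻¹ := by
    rw [y.Zinv h, eq_inv_iff_mul_eq_one, mul_assoc, y.Zsq hZ]
  obtain ⟨e, he, e1, e2⟩ := y.xD hI h h1 o (d := f * a ^ (2 : ℤ) ^ (n - 2)) (mem_Dt.2
    ⟨mul_mem hf (y.le (y.mc.zpow_mem _)), by
      rw [mul_inv_rev, mul_assoc f, ← mul_assoc (f * _), mul_assoc f, y.xt h A, ← f2]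
      calc _ = t * (t⁻¹ * f * t⁻¹⁻¹) * f := by group
        _ = t := by rw [y.Zinv h, tf]; group⟩) (by rw [← mul_assoc, fa])
  obtain ⟨m, hm, e3⟩ : ∃ m : ℤ, Odd m ∧ e = f * a ^ (2 * (2 ^ (n - 3) * m)) := by
    rcases e2 with e2 | e2
    · exact ⟨1, odd_one, by rw [e2, y.e1, mul_one]⟩
    · refine ⟨3, by decide, ?_⟩
      rw [e2, ← mul_assoc, ← y.zc' hf, mul_assoc, mcZ, ← zpow_add, y.e1, y.e2]; congr 2; ring
  have Z1 := hZ.conjS (inv_mem (y.le (y.mc.zpow_mem (2 ^ (n - 3) * m))))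
  rw [inv_inv, ← mul_assoc, mul_assoc _ f, ← fa, ← mul_assoc, conj_of_inv ta, mul_assoc, fa, ← e3] at Z1
  have Z2 := Z1.conj o.T' (mul_mem h.self he)
  have e4 : ρ⁻¹ * (t * e) * ρ⁻¹⁻¹ = mcZ a n * e := by
    conv_lhs => rw [← o.z, ← e1]
    group
  rw [e4] at Z2
  have e5 : e = 1 := by_contra fun e5 => y.a2 (hI _ Z2 (by simpa using e5) a y.aR (by
    have := fa 1
    rw [zpow_one] at this
    rw [← mul_assoc, y.zc' y.aS, e3, mul_assoc, ← mul_assoc a, this]; group))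
  rw [e5, eq_comm, mul_eq_one_iff_inv_eq] at e3
  have := (y.dvd_of_cz (y.acta _) (e3 ▸ inv_mem hc)).2
  rw [y.e3] at this
  obtain ⟨v, hv⟩ := this
  obtain ⟨p, rfl⟩ := hm
  have h0 : (0 : ℤ) < 2 ^ (n - 3) := by positivity
  have : 2 * p + 1 = 2 * v := mul_left_cancel₀ (a := 4 * 2 ^ (n - 3)) (by omega) (by linarith)
  omega

theorem tf_cases (hf : f ∈ F.S) (hc : f ∈ cz R) (hZ : Zc F (mcZ a n) (t * f)) :
    f = 1 ∨ f = mcZ a n := by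
  have tf : t * f * t⁻¹ = f⁻¹ := by
    rw [y.Zinv h, eq_inv_iff_mul_eq_one, mul_assoc, y.Zsq hZ]
  have key : ∀ v ∈ F.S, v ∈ cz R → t * v * t⁻¹ = v⁻¹ → v ^ 2 = 1 → v = 1 ∨ v = mcZ a n :=
    fun v a1 a2 a3 a4 => y.CD hI h h1 o (mem_Dt'.2 ⟨a1, by
      rw [inv_eq_of_mul_eq_one_right ((sq v).symm.trans a4)] at a3
      exact (mul_inv_eq_iff_eq_mul.1 a3).symm⟩) a2
  refine key f hf hc tf (by_contra fun f2 => ?_)
  obtain ⟨m, hm⟩ := y.sat.pg ⟨f, hf⟩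
  have hm : f ^ 2 ^ m = 1 := congrArg Subtype.val hm
  obtain ⟨k, h3, h4⟩ := H4.exists_pow_notMem_pow_mem (p := 2) (M := ⊥) (x := f ^ 2)
    ⟨m, by rw [← pow_mul, mul_comm, pow_mul, hm, one_pow]; exact one_mem _⟩ f2
  refine y.no_four hI h h1 o (f := f ^ 2 ^ k) (pow_mem hf _) (pow_mem hc _) ?_ ?_
  · rcases k with _ | k
    · simpa using hZ
    · have := h.conjS (inv_mem (zpow_mem hf ((2 ^ k : ℕ) : ℤ)))
      rw [inv_inv, conj_of_inv tf] at this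
      convert this using 2
      rw [← zpow_natCast]; congr 1; push_cast; ring
  · rw [← (key _ (pow_mem (pow_mem hf _) _) (pow_mem (pow_mem hc _) _)
      (by rw [← conj_pow, ← conj_pow, tf]; group) h4).resolve_left h3]
    group

theorem Z_conj (hu : Zc F (mcZ a n) u) (u1 : u ≠ mcZ a n) : ∃ r ∈ R, r * u * r⁻¹ = t := by
  obtain ⟨j, ⟨j, rfl⟩, A⟩ := y.actI h (hI t h h1)
  obtain ⟨i, ⟨i, rfl⟩, B⟩ := y.actI hu (hI u hu u1)
  obtain ⟨r, hr, C⟩ : ∃ r ∈ R, Act a b (r * u * r⁻¹) (-1) (2 * j + 1) := by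
    obtain ⟨m, e | e⟩ := (j - i).even_or_odd'
    · refine ⟨a ^ m, y.mc.zpow_mem m, ?_⟩
      rw [← zpow_neg]
      convert ((y.acta m).mul B).mul (y.acta (-m)) using 1 <;> linarith
    · refine ⟨a ^ (m + i + 1) * b, mul_mem (y.mc.zpow_mem _) y.bR, ?_⟩
      rw [mul_inv_rev, ← zpow_neg]
      convert (((y.acta (m + i + 1)).mul y.actb).mul B).mul (y.actb'.mul (y.acta (-(m + i + 1))))
        using 1 <;> linarith
  have Z1 := hu.conjS (y.le hr)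
  have e : r * u * r⁻¹ = t * (t * (r * u * r⁻¹)) := by rw [← mul_assoc t t, y.Zsq h, one_mul]
  rcases y.tf_cases hI h h1 o (mul_mem h.mem Z1.mem) (y.cz_of_act (A.mul C) (by simp) (by simp))
    (e ▸ Z1) with e1 | e1 <;> rw [e1] at e
  · exact ⟨r, hr, by simpa using e⟩
  · refine ⟨(a ^ (2 : ℤ) ^ (n - 2))⁻¹ * r, mul_mem (inv_mem (y.mc.zpow_mem _)) hr, ?_⟩
    rw [← y.xt h A] at e
    calc _ = (a ^ (2 : ℤ) ^ (n - 2))⁻¹ * (r * u * r⁻¹) * a ^ (2 : ℤ) ^ (n - 2) := by group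
      _ = t := by rw [e]; group

theorem C_cases (hf : f ∈ F.S) (hc : f ∈ cz R) : f ∈ R ∨ f * t * f⁻¹ = t * mcZ a n := by
  obtain ⟨r, hr, e⟩ := y.Z_conj hI h h1 o (h.conjS hf) (y.ne_z h1 (y.zc hf))
  have a1 : t⁻¹ * (f * t * f⁻¹) ∈ R := by
    have : t⁻¹ * (f * t * f⁻¹) = t⁻¹ * r⁻¹ * t * r := by
      calc _ = t⁻¹ * r⁻¹ * (r * (f * t * f⁻¹) * r⁻¹) * r := by group
        _ = _ := by rw [e]
    rw [this]
    exact mul_mem (conj_mem_of_mem_nz' (y.nrm h.mem) (inv_mem hr)) hr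
  have a2 : t⁻¹ * (f * t * f⁻¹) ∈ cz R := by
    rw [← mul_assoc, ← mul_assoc]
    exact mul_mem (conj_mem_of_mem_nz' (mem_nz_cz (y.nrm h.mem)) hc) (inv_mem hc)
  rcases (y.mc.mem_center_iff a1).1 a2 with e1 | e1
  · rcases y.CD hI h h1 o (mem_Dt.2 ⟨hf, (inv_mul_eq_one.1 e1).symm⟩) hc with e2 | e2 <;> rw [e2]
    exacts [.inl (one_mem _), .inl y.zR]
  · exact .inr (by rw [← e1]; group)

theorem hypI : (F.CF (zpowers (mcZ a n))).hyp 2 ≤ R := by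
  refine hyp_le_iff'.2 fun Q hQ θ hθ ho => (mem_stab.1 (mem_of_pow_mem_of_coprime (m := 2)
    ⟨pow_mem (A_le_nz _ _ hθ) 2, fun q hq => ?_⟩ ho.symm)).2
  have nθ := A_le_nz _ _ hθ
  have w1 := mem_hyp hQ (mem_resid hθ ho) hq
  have w2 := mem_hyp hQ (mem_resid hθ ho) (conj_mem_of_mem_nz nθ hq)
  have wQ := mul_mem (inv_mem hq) (conj_mem_of_mem_nz nθ hq)
  have e : (θ * q * θ⁻¹)⁻¹ * (θ * (θ * q * θ⁻¹) * θ⁻¹) = θ * (q⁻¹ * (θ * q * θ⁻¹)) * θ⁻¹ := by group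
  have e' : q⁻¹ * (θ ^ 2 * q * (θ ^ 2)⁻¹) =
      q⁻¹ * (θ * q * θ⁻¹) * (θ * (q⁻¹ * (θ * q * θ⁻¹)) * θ⁻¹) := by rw [sq]; group
  rw [e] at w2
  rw [e']
  generalize q⁻¹ * (θ * q * θ⁻¹) = v at w1 w2 wQ
  by_cases hv : v ∈ R
  · exact mul_mem hv (y.E_sc.conj_mem (T_of_mem_A hQ hθ) wQ hv)
  have hv' : θ * v * θ⁻¹ ∉ R := fun e => hv (y.E_sc.mem_of_conj_mem (T_of_mem_A hQ hθ) wQ e)
  obtain ⟨r, hr, f, f1, f2, rfl⟩ := y.E_hyp w1
  obtain ⟨r', hr', f', f1', f2', e2⟩ := y.E_hyp w2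
  rw [e2] at hv' ⊢
  have a1 := (y.C_cases hI h h1 o f1 f2).resolve_left fun e => hv (mul_mem hr e)
  have a2 := (y.C_cases hI h h1 o f1' f2').resolve_left fun e => hv' (mul_mem hr' e)
  have a3 : f * f' ∈ R := by
    rcases y.CD hI h h1 o (mem_Dt.2 ⟨mul_mem f1 f1', by
      calc _ = f * (f' * t * f'⁻¹) * f⁻¹ := by group
        _ = t := by rw [a2, ← conj_mul, a1, y.zc f1, mul_assoc, y.zz, mul_one]⟩) (mul_mem f2 f2') with
      e | e <;> rw [e]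
    exacts [one_mem _, y.zR]
  rw [mul_assoc, ← mul_assoc f, ← mem_cz'.1 f2 r' hr', mul_assoc]
  exact mul_mem hr (mul_mem hr' a3)

theorem qd : QD F.S (n + 1) (b * t) t := by
  have e : R ⊔ zpowers t = F.S := y.S_eq (sup_le y.le (zpowers_le.2 h.mem))
    ((y.hypI hI h h1 o).trans le_sup_left) o.T (fun d hd => sup_le_sup_right (zpowers_le.2 y.zR) _
      (o.st d hd)) fun E a1 a2 => y.gen a1 fun u hu u1 => by
        obtain ⟨r, hr, e⟩ := y.Z_conj hI h h1 o hu u1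
        exact y.gmS a1 hu.mem (y.le hr) (e ▸ o.gm a2)
  obtain ⟨j, ⟨j, rfl⟩, A⟩ := y.actI h (hI t h h1)
  have := y.three
  have e1 : (b * t) ^ 2 = a ^ (2 * (2 * 2 ^ (n - 3) - j - 1) + 1) := by
    calc _ = b * (t * b * t⁻¹) := by rw [sq, y.Zinv h]; group
      _ = b * a ^ (2 * j + 1) * b⁻¹ * (b * b) := by rw [A.2]; group
      _ = _ := by rw [y.bak, y.bb, mcZ, ← zpow_add, y.e2]; congr 1; ring
  have e2 : (b * t) ^ 2 ^ n = mcZ a n := by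
    rw [← Nat.sub_add_cancel (show 1 ≤ n by omega), pow_succ', pow_mul, e1, ← zpow_natCast,
      ← zpow_mul, Nat.sub_add_cancel (show 1 ≤ n by omega), mcZ, y.eq_iff, y.mc.pow_n]
    exact ⟨-(2 * 2 ^ (n - 3) - j - 1), by push_cast; ring⟩
  refine QD.of_rel (by omega) ?_ (mul_mem y.bS h.mem) h.mem (orderOf_eq_prime_pow (e2 ▸ y.z1)
    (by rw [pow_succ, pow_mul, e2, y.mc.z_sq])) (y.Zsq' h) ?_
  · have a1 := card_sup_of_comm (A := zpowers t) (B := R) ((zpowers_le.2 h.mem).trans y.nrm)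
    have a2 : zpowers t ⊓ R = ⊥ := eq_bot_iff.2 fun x ⟨⟨k, hk⟩, hx⟩ => by
      rcases zpow_of_sq (y.Zsq h) k with e | e <;> simp only [e] at hk
      exacts [hk.symm, absurd (hk ▸ hx) (y.ZnR h h1)]
    rw [sup_comm, e, a2, card_bot, mul_one, Nat.card_zpowers, y.mc.card,
      orderOf_eq_prime (y.Zsq' h) (y.Zne h)] at a1
    rw [a1]; ring
  · rw [Nat.add_sub_cancel, ← mul_left_inj (b * t), ← pow_succ,
      Nat.sub_add_cancel Nat.one_le_two_pow, e2]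
    calc _ = t * (b * b) * t := by group
      _ = _ := by rw [y.bb, y.zc' h.mem, mul_assoc, y.Zsq h, mul_one]

end

theorem caseI (hI : ∀ t, Zc F (mcZ a n) t → t ≠ mcZ a n → ∀ r ∈ R, r * t = t * r → r ^ 2 = 1) :
    ∃ x t, QD F.S (n + 1) x t :=
  let ⟨t, _, h, h1, o⟩ := y.exists_rhoI hI
  ⟨_, t, y.qd hI h h1 o⟩

end Hy

end H20.QF
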