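import Cfsg.Agent.H20.QF3

/-!
# Fusion systems with a tightly embedded quaternion subgroup, IV: the homocyclic case
-/

set_option autoImplicit false
set_option linter.unusedSectionVars false

namespace H20.QF

open Subgroup H25 H25.FS H10
open scoped commutatorElement

variable {Γ : Type*} [Group Γ] {F E : FS Γ} {R P K S : Subgroup Γ} {n : ℕ}
  {a b c d e f g r s t u w z ρ : Γ} {i j k l : ℤ}

theorem conj_Z (g c : Γ) (n : ℕ) : mcZ (g * c * g⁻¹) n = g * mcZ c n * g⁻¹ := conj_zpow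

theorem Act.bc (A : Act a b c 1 (-1)) (hb : b * a * b⁻¹ = a⁻¹) : b * c * b⁻¹ = c * a := by
  have h1 : c * a * c⁻¹ = a := by simpa using A.1
  have h2 : b * a⁻¹ * b⁻¹ = a := by rw [← conj_inv, hb, inv_inv]
  have h3 : c * b⁻¹ * c⁻¹ = b⁻¹ * a := by rw [← conj_inv, A.2]; group
  calc _ = b * (c * b⁻¹ * c⁻¹) * c := by group
    _ = c * a * c⁻¹ * c := by rw [h3, h1]; group
    _ = _ := by group

/-- the elements inverting or centralizing `a` -/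
def PM (a : Γ) : Subgroup Γ where
  carrier := {s | s * a * s⁻¹ = a ∨ s * a * s⁻¹ = a⁻¹}
  one_mem' := .inl (by simp)
  mul_mem' {s u} hs hu := by
    have e : s * u * a * (s * u)⁻¹ = s * (u * a * u⁻¹) * s⁻¹ := by group
    change _ = _ ∨ _ = _
    rw [e]
    rcases hu with h | h <;> rw [h]
    · exact hs
    · rw [← conj_inv, inv_inj, inv_eq_iff_eq_inv]; exact hs.symm
  inv_mem' {s} hs := by
    rcases hs with h | h
    · left; conv_lhs => rw [← h]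
      group
    · right
      calc _ = (s⁻¹ * a⁻¹ * s)⁻¹ := by group
        _ = (s⁻¹ * (s * a * s⁻¹) * s)⁻¹ := by rw [h]
        _ = _ := by group

namespace Hy
variable [Finite Γ] (y : Hy F R n a b)
include y

theorem good_nf (h : Zc F (mcZ a n) t) (h1 : t ≠ mcZ a n) (hc : c ∈ Rt F R (mcZ a n) t)
    (c1 : mcZ c n ≠ 1) :
    ∃ c, Rt F R (mcZ a n) t = zpowers c ∧ Act a b c 1 (-1) ∧ mcZ c n = t := by
  have cy := y.cy h h1 hc fun e => c1 (by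
    rw [mcZ, y.mc.pow_n', zpow_mul, zpow_ofNat, e, one_zpow])
  obtain ⟨j, A⟩ := y.Rt_act h h1 cy hc
  have hj : Odd j := by
    rcases j.even_or_odd' with ⟨m, rfl | rfl⟩
    · exact absurd (y.Rt_cz h h1 (zpow_mem hc _) (y.cz_of_act (A.zpow_one _) (by simp)
        ⟨m, by rw [y.mc.pow_n]; ring⟩)) c1
    · exact ⟨m, rfl⟩
  obtain ⟨u, hu⟩ := exists_inv_odd hj n
  have B : Act a b (c ^ (-u)) 1 (-1) := ⟨(A.zpow_one _).1, by
    rw [(A.zpow_one _).2, mul_left_inj, y.eq_iff]; exact dv hu (by ring)⟩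
  have hc' := zpow_mem hc (-u)
  generalize c ^ (-u) = c at B hc'
  refine ⟨c, le_antisymm (fun x hx => ?_) (zpowers_le.2 hc'), B,
    (y.Rt_invol h (zpow_mem hc' _) ?_).resolve_left fun e => ?_⟩
  · obtain ⟨k, C⟩ := y.Rt_act h h1 cy hx
    have := y.Rt_cz h h1 (mul_mem hx (zpow_mem hc' k)) (y.cz_of_act (C.mul (B.zpow_one k)) (by simp)
      (by simp))
    exact ⟨-k, by simp only [zpow_neg]; exact (eq_inv_of_mul_eq_one_left this).symm⟩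
  · rw [← zpow_natCast, ← zpow_mul]
    exact y.Rt_cz h h1 (zpow_mem hc' _) (y.cz_of_act (B.zpow_one _) (by simp)
      ⟨-1, by rw [y.mc.pow_n]; push_cast; ring⟩)
  · have := (y.dvd_of_cz (B.zpow_one (2 ^ (n - 1))) (e ▸ one_mem _)).2
    rw [mul_neg_one, dvd_neg, y.e2] at this
    have h0 : (0 : ℤ) < 2 ^ (n - 3) := by positivity
    exact y.not_dvd (by omega) (by omega) this

theorem bt (A : Act a b c 1 (-1)) (hc : c ∈ F.S) :
    b * mcZ c n * b⁻¹ = mcZ c n * mcZ a n := by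
  have ac : a * c = c * a := (mul_inv_eq_iff_eq_mul.1 (by simpa using A.1)).symm
  rw [mcZ, ← conj_zpow, A.bc y.bab, ca_zpow ac]
  exact (y.zc' (zpow_mem hc _)).symm

theorem R_le_nz (A : Act a b c 1 (-1)) (hc : c ∈ F.S) : R ≤ nz (Vt (mcZ a n) (mcZ c n)) := by
  have ac : a * c = c * a := (mul_inv_eq_iff_eq_mul.1 (by simpa using A.1)).symm
  rw [← y.eq_sup]
  refine sup_le (zpowers_le.2 (mem_nz.2 ?_)) (zpowers_le.2 (mem_nz.2 ?_))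
  · rw [cj_V, y.zc y.aS, ← conj_Z, ac, mul_inv_cancel_right]
  · rw [cj_V, y.zc y.bS, y.bt A hc, V_mul y.zz]

end Hy

/-- the homocyclic configuration -/
structure Pre (F : FS Γ) (R : Subgroup Γ) (n : ℕ) (a b c ρ : Γ) : Prop extends Hy F R n a b where
  Z : Zc F (mcZ a n) (mcZ c n)
  ne : mcZ c n ≠ mcZ a n
  ca : Act a b c 1 (-1)
  cS : c ∈ F.S
  o : Rho F R (mcZ a n) (mcZ c n) b a c ρ

theorem Hy.exists_pre [Finite Γ] (y : Hy F R n a b) (h : Zc F (mcZ a n) t) (h1 : t ≠ mcZ a n)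
    (hr : r ∈ R) (c : r * t = t * r) (r2 : r ^ 2 ≠ 1) : ∃ c ρ, Pre F R n a b c ρ := by
  have key : ∀ t α, Zc F (mcZ a n) t → t ≠ mcZ a n → a * t = t * a → F.T (Dt F t) α →
      α * t * α⁻¹ = mcZ a n → Zc F (mcZ a n) (α * mcZ a n * α⁻¹) ∧ α * mcZ a n * α⁻¹ ≠ mcZ a n ∧
        ∃ c ∈ Rt F R (mcZ a n) (α * mcZ a n * α⁻¹), mcZ c n ≠ 1 := fun t α h h1 c H e =>
    ⟨y.Zz.conj H (y.zD h.mem), fun e' => y.ne_z h1 e' e, _,
      y.mem_Rt' H (y.zD h.mem) (mem_Dt'.2 ⟨y.aS, c⟩) y.aR, by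
        rw [conj_Z]; simpa using y.z1⟩
  obtain ⟨α, H, e⟩ := y.alpha h
  have h' := y.Zz.conj H (y.zD h.mem)
  have h1' : α * mcZ a n * α⁻¹ ≠ mcZ a n := fun e' => y.ne_z h1 e' e
  obtain ⟨β, H', e'⟩ := y.alpha h'
  obtain ⟨t, g, ⟨h, h1, c, hc, c1⟩, H, e, hg⟩ := y.exists_V (fun t => Zc F (mcZ a n) t ∧
    t ≠ mcZ a n ∧ ∃ c ∈ Rt F R (mcZ a n) t, mcZ c n ≠ 1) (fun _ h => h.1)
    (fun t φ ⟨h, h1, c, hc, c1⟩ H => by
      obtain ⟨c, e1, A, rfl⟩ := y.good_nf h h1 hc c1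
      have hc := e1.ge (mem_zpowers c)
      have V := le_N (y.V_le h.mem)
      have e := y.fix_z H (le_inf y.le (y.R_le_nz A hc.1.1))
      refine ⟨e, h.conj H (V t_mem_V), y.ne_z h1 e, _, y.Rt_conj h hc H (V t_mem_V)
        (F.C_le_N _ (y.C_V ▸ hc.1)), ?_⟩
      rw [conj_Z]; simpa using y.Zne h)
    (fun t α ⟨h, h1, c, hc, c1⟩ H e => key t α h h1 (y.cy h h1 hc fun e => c1 (by
      rw [mcZ, y.mc.pow_n', zpow_mul, zpow_ofNat, e, one_zpow])) H e)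
    (key _ β h' h1' (y.cy h' h1' (y.mem_Rt' H (y.zD h.mem) (mem_Dt'.2 ⟨y.le hr, c⟩) hr)
      (by rw [conj_pow]; simpa using r2)) H' e')
  obtain ⟨c, e1, A, rfl⟩ := y.good_nf h h1 hc c1
  have hc := e1.ge (mem_zpowers c)
  have ac : a * c = c * a := (mul_inv_eq_iff_eq_mul.1 (by simpa using A.1)).symm
  have aD : a ∈ Dt F (mcZ c n) := mem_Dt'.2 ⟨y.aS, (Commute.zpow_right ac _).eq⟩
  refine (y.rho h h1 H e hg y.bR (le_antisymm (fun r hr => ?_) (zpowers_le.2 ⟨y.aR, aD⟩))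
    e1 y.bab (A.bc y.bab) (y.bt A hc.1.1) y.bb).elim fun ρ o => ⟨c, ρ, y, h, h1, A, hc.1.1, o⟩
  · rcases y.cases hr.1 with ⟨i, rfl⟩ | ⟨i, rfl⟩
    · exact zpow_mem_zpowers _ _
    · have := (mem_Dt.1 ((Subgroup.mul_mem_cancel_left _ (zpow_mem aD i)).1 hr.2)).2
      rw [y.bt A hc.1.1, mul_eq_left] at this
      exact absurd this y.z1

/-- coordinates on a Sylow `2`-subgroup of `G₂(q)` -/
structure Co (S : Subgroup Γ) (n : ℕ) (a b c j : Γ) : Prop where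
  three : 3 ≤ n
  aS : a ∈ S
  bS : b ∈ S
  cS : c ∈ S
  jS : j ∈ S
  ind : ∀ k l : ℤ, a ^ k * c ^ l = 1 ↔ (2 : ℤ) ^ n ∣ k ∧ (2 : ℤ) ^ n ∣ l
  ac : a * c = c * a
  ba : b * a * b⁻¹ = a⁻¹
  bc : b * c * b⁻¹ = c * a
  bb : b * b = mcZ a n
  ja : j * a * j⁻¹ = a⁻¹
  jc : j * c * j⁻¹ = c⁻¹
  jj : j * j = 1
  jb : j * b = b * j
  cases : ∀ s ∈ S, ∃ k l : ℤ, s = a ^ k * c ^ l ∨ s = a ^ k * c ^ l * j ∨
    s = a ^ k * c ^ l * b ∨ s = a ^ k * c ^ l * j * b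

namespace Pre
variable [Finite Γ] (y : Pre F R n a b c ρ)
include y

theorem ac : a * c = c * a := (mul_inv_eq_iff_eq_mul.1 (by simpa using y.ca.1)).symm
theorem bc : b * c * b⁻¹ = c * a := y.ca.bc y.bab
theorem aD : a ∈ Dt F (mcZ c n) := mem_Dt'.2 ⟨y.aS, (Commute.zpow_right y.ac _).eq⟩
theorem cD : c ∈ Dt F (mcZ c n) := mem_Dt'.2 ⟨y.cS, (Commute.zpow_right rfl _).eq⟩
theorem uD (k l : ℤ) : a ^ k * c ^ l ∈ Dt F (mcZ c n) := mul_mem (zpow_mem y.aD _) (zpow_mem y.cD _)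
theorem ordc : orderOf c = 2 ^ n := by rw [← y.o.a, H25.orderOf_conj', y.mc.ord]
theorem c_one : c ^ k = 1 ↔ (2 : ℤ) ^ n ∣ k := H4.zpow_eq_one_of_dvd y.ordc
theorem c_eq : c ^ k = c ^ l ↔ (2 : ℤ) ^ n ∣ l - k := by
  rw [← y.c_one, zpow_sub, mul_inv_eq_one, eq_comm]

theorem c_invol (h : (2 : ℤ) ^ n ∣ 2 * k) : c ^ k = 1 ∨ c ^ k = mcZ c n := by
  rw [mcZ, ← y.o.a, conj_zpow, conj_zpow]
  rcases y.mc.zpow_of_dvd (y.mc.dvd_two_mul.1 h) with e | e <;> simp [e, mcZ]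

theorem ind (k l : ℤ) : a ^ k * c ^ l = 1 ↔ (2 : ℤ) ^ n ∣ k ∧ (2 : ℤ) ^ n ∣ l := by
  refine ⟨fun e => ?_, fun e => by rw [y.eq_one.2 e.1, y.c_one.2 e.2, one_mul]⟩
  suffices h : c ^ l = 1 from ⟨y.eq_one.1 (by simpa [h] using e), y.c_one.1 h⟩
  by_contra h
  obtain ⟨m, h3, h4⟩ := H4.exists_pow_notMem_pow_mem (p := 2) (M := ⊥) (x := c ^ l)
    (let ⟨m, hm⟩ := y.sat.pg ⟨_, zpow_mem y.cS l⟩; ⟨m, congrArg Subtype.val hm⟩) h
  have h5 := pow_mem (eq_inv_of_mul_eq_one_right e ▸ inv_mem (y.mc.zpow_mem k) : c ^ l ∈ R) (2 ^ m)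
  rw [mem_bot, ← zpow_natCast _ (2 ^ m), ← zpow_mul] at h3 h4
  rw [← zpow_natCast _ (2 ^ m), ← zpow_mul] at h5
  rw [← zpow_natCast, ← zpow_mul, y.c_one, mul_comm] at h4
  exact y.ZnR y.Z y.ne ((y.c_invol h4).resolve_left h3 ▸ h5)

theorem u_eq : a ^ i * c ^ j = a ^ k * c ^ l ↔ (2 : ℤ) ^ n ∣ i - k ∧ (2 : ℤ) ^ n ∣ j - l := by
  rw [← y.ind, ← mul_inv_eq_one, u_inv y.ac, u_mul y.ac, sub_eq_add_neg, sub_eq_add_neg]

theorem act_u (k l : ℤ) : Act a b (a ^ k * c ^ l) 1 (2 * k - l) := by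
  convert (y.acta k).mul (y.ca.zpow_one l) using 1 <;> ring

theorem d0 (he : e ∈ Dt F (mcZ c n)) (h : ρ * e * ρ⁻¹ = e) :
    ∃ i, Odd i ∧ Act a b e i 0 ∧ e * c * e⁻¹ = c ^ i := by
  obtain ⟨i, j, hi, A⟩ := y.act (y.nrm he.1)
  refine ⟨i, hi, ⟨A.1, by rw [← y.o.comm e he h]; simp⟩, ?_⟩
  calc _ = ρ * (e * a * e⁻¹) * ρ⁻¹ := by rw [← conj_mul, ← conj_mul, h, y.o.a, ← conj_inv, h]
    _ = _ := by rw [A.1, ← conj_zpow, y.o.a]

theorem d0_one (he : e ∈ Dt F (mcZ c n)) (h : ρ * e * ρ⁻¹ = e) (h' : e * a * e⁻¹ = a) : e = 1 :=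
  y.o.faith e he h (y.mem_cz_iff.2 ⟨h', by rw [← y.o.comm e he h]; simp⟩)

theorem d0_u (A : Act a b e i 0) (h : e * c * e⁻¹ = c ^ i) (k l : ℤ) :
    e * (a ^ k * c ^ l) * e⁻¹ = a ^ (i * k) * c ^ (i * l) := by
  rw [← conj_mul, A.za, ← conj_zpow, h, ← zpow_mul]

theorem d0_inv (he : e ∈ Dt F (mcZ c n)) (h : ρ * e * ρ⁻¹ = e) (h' : e * a * e⁻¹ = a⁻¹) :
    Act a b e (-1) 0 ∧ e * c * e⁻¹ = c ^ (-1 : ℤ) ∧ e * e = 1 := by
  obtain ⟨i, -, A, B⟩ := y.d0 he h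
  refine ⟨⟨by simpa using h', A.2⟩, ?_, y.d0_one (mul_mem he he) (by rw [← conj_mul, h]) ?_⟩
  · rw [B, y.c_eq, ← y.eq_iff, ← A.1, h', zpow_neg_one]
  · calc _ = e * (e * a * e⁻¹) * e⁻¹ := by group
      _ = _ := by rw [h', ← conj_inv, h', inv_inv]

theorem N_cases (hs : s ∈ F.S) (h : s ∈ nz (Vt (mcZ a n) (mcZ c n))) : ∃ k l : ℤ,
    ∃ e ∈ Dt F (mcZ c n), ρ * e * ρ⁻¹ = e ∧ (s = a ^ k * c ^ l * e ∨ s = a ^ k * c ^ l * e * b) := by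
  rcases y.memV y.Z (conj_mem_of_mem_nz h t_mem_V) with e | e | e | e
  · exact absurd (by simpa using e) (y.Zne y.Z)
  · exact absurd e (y.ne_z y.ne (y.zc hs))
  · obtain ⟨k, l, e, h1, h2, h3⟩ := y.o.split s (mem_Dt.2 ⟨hs, e⟩)
    exact ⟨k, l, e, h1, h2, .inl h3⟩
  · obtain ⟨k, l, e, h1, h2, h3⟩ := y.o.split (s * b⁻¹) (mem_Dt.2 ⟨mul_mem hs (inv_mem y.bS), by
      have e1 : b⁻¹ * mcZ c n * b = mcZ c n * mcZ a n := by
        rw [← mul_left_inj (mcZ a n), mul_assoc (mcZ c n), y.zz, mul_one, mul_assoc, y.zc' y.bS,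
          ← mul_assoc, mul_assoc b⁻¹, ← y.bt y.ca y.cS]
        group
      calc _ = s * (b⁻¹ * mcZ c n * b) * s⁻¹ := by group
        _ = _ := by rw [e1, ← conj_mul, e, y.zc hs, mul_assoc, y.zz, mul_one]⟩)
    exact ⟨k, l, e, h1, h2, .inr (by rw [← h3]; group)⟩

theorem cent_a (hs : s ∈ F.S) (h : s ∈ nz (Vt (mcZ a n) (mcZ c n))) (h' : s * a * s⁻¹ = a) :
    (∃ k l : ℤ, s = a ^ k * c ^ l) ∨ s ^ 2 ∈ R := by
  obtain ⟨k, l, e, h1, h2, rfl | rfl⟩ := y.N_cases hs h <;> obtain ⟨i, -, A, B⟩ := y.d0 h1 h2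
  · refine .inl ⟨k, l, ?_⟩
    rw [((y.act_u k l).mul A).1, one_mul] at h'
    rw [y.d0_one h1 h2 (A.1.trans h'), mul_one]
  · obtain ⟨A', B', C⟩ := y.d0_inv h1 h2 (by
      rw [(((y.act_u k l).mul A).mul y.actb).1, one_mul, mul_neg_one, zpow_neg] at h'
      rw [A.1, ← inv_inj, h', inv_inv])
    have e1 : (a ^ k * c ^ l * e * b) ^ 2 = a ^ k * c ^ l * (e * (b * (a ^ k * c ^ l) * b⁻¹) * e⁻¹) *
      (e * (b * e) * b) := by rw [sq]; group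
    rw [e1, w_u y.ac y.bab y.bc, y.d0_u A' B', u_mul y.ac, y.o.comm e h1 h2, ← mul_assoc e, C,
      one_mul, y.bb, show l + -1 * l = 0 by ring, zpow_zero, mul_one]
    exact .inr (mul_mem (y.mc.zpow_mem _) y.zR)

theorem T_invol (h : (a ^ k * c ^ l) ^ 2 = 1) : a ^ k * c ^ l ∈ Vt (mcZ a n) (mcZ c n) := by
  rw [sq, u_mul y.ac, y.ind, ← two_mul, ← two_mul] at h
  refine mul_mem ?_ ?_
  · rcases y.mc.zpow_of_dvd (y.mc.dvd_two_mul.1 h.1) with e | e <;> rw [e]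
    exacts [one_mem _, z_mem_V]
  · rcases y.c_invol h.2 with e | e <;> rw [e]
    exacts [one_mem _, t_mem_V]

theorem nV : F.S ≤ nz (Vt (mcZ a n) (mcZ c n)) := by
  by_contra h
  obtain ⟨s, hs, h1, h2⟩ := exists_mem_nz_of_lt y.sat.pg (P := F.N (Vt (mcZ a n) (mcZ c n)))
    (lt_of_le_of_ne inf_le_left fun e => h (inf_eq_left.1 e))
  have h3 := conj_mem_of_mem_nz h1 (F.C_le_N _ (y.C_V ▸ y.cD))
  have Z := y.Z.conjS hs
  have e : s * mcZ c n * s⁻¹ = (s * c * s⁻¹) ^ (2 : ℤ) ^ (n - 1) := by rw [conj_zpow, mcZ]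
  rcases y.cent_a h3.1 h3.2 (by
    obtain ⟨i, hi⟩ := y.conj_mem (inv_mem (y.nrm hs))
    simp only at hi
    calc _ = s * (c * (s⁻¹ * a * s⁻¹⁻¹) * c⁻¹) * s⁻¹ := by group
      _ = _ := by rw [← hi, y.ca.za, one_mul, hi]; group) with ⟨k, l, e1⟩ | e1
  · refine h2 ⟨hs, mem_nz_of_le ?_⟩
    rw [cj_V, y.zc hs]
    refine sup_le le_sup_left (zpowers_le.2 ?_)
    have := y.Zsq' Z
    rw [e, e1, Commute.mul_zpow (Commute.zpow_zpow y.ac k l), ← zpow_mul, ← zpow_mul] at this ⊢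
    exact y.T_invol this
  · refine y.ZnR Z (y.ne_z y.ne (y.zc hs)) ?_
    rw [e, y.mc.pow_n', zpow_mul, zpow_ofNat]
    exact zpow_mem e1 _

section
variable (h1 : ∀ P g, F.T P g → mcZ a n ∈ P → g * mcZ a n * g⁻¹ = mcZ a n → E.T P g)
  (h2 : E.T (Dt F (mcZ c n)) ρ)
include h1 h2

theorem gm0 (H : F.T (Dt F u) g) (hu : u ∈ F.S) (e : g * u * g⁻¹ = mcZ a n)
    (e' : g * mcZ a n * g⁻¹ = mcZ c n) : Gm F E (mcZ a n) u := by
  have a1 : cj g (Dt F u) ≤ Dt F (mcZ c n) := cj_le.2 fun x hx => mem_Dt'.2 ⟨H.conj_mem hx, by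
    rw [← e', conj_mul, conj_mul, y.zc' hx.1]⟩
  have := (h1 _ _ (H.mul' y.o.T' a1) (y.zD hu) (by
    calc _ = ρ⁻¹ * (g * mcZ a n * g⁻¹) * ρ := by group
      _ = _ := by rw [e', ← y.o.z]; group)).mul' h2 (by
    rw [← cj_cj]; exact (cj_mono _ a1).trans (mem_nz.1 (inv_mem y.o.nrm)).le)
  exact ⟨g, H, by simpa using this, e⟩

theorem gmA (hu : Zc F (mcZ a n) u) (u1 : u ≠ mcZ a n) (hr : r ∈ R) (c : r * u = u * r)
    (r2 : r ^ 2 ≠ 1) : Gm F E (mcZ a n) u := by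
  obtain ⟨α, H, e⟩ := y.alpha hu
  have h' := y.Zz.conj H (y.zD hu.mem)
  have h1' : α * mcZ a n * α⁻¹ ≠ mcZ a n := fun e' => y.ne_z u1 e' e
  have m := y.mem_Rt' H (y.zD hu.mem) (mem_Dt'.2 ⟨y.le hr, c⟩) hr
  have x2 : (α * r * α⁻¹) ^ 2 ≠ 1 := by rw [conj_pow]; simpa using r2
  rcases y.cent_a m.1.1 (y.nV m.1.1) (mul_inv_eq_iff_eq_mul.2
    (y.Rt_comm h' h1' m y.aR (y.cy h' h1' m x2))) with ⟨k, l, e1⟩ | e1
  · obtain ⟨p, hp⟩ := y.Rt_pow h' m fun e => x2 (by rw [e, one_pow])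
    have a1 := y.Zsq' h'
    rw [e1, Commute.mul_pow (Commute.zpow_zpow y.ac k l), ← zpow_natCast, ← zpow_natCast, ← zpow_mul,
      ← zpow_mul] at hp
    rw [← hp] at a1
    rcases y.memV y.Z (hp ▸ y.T_invol a1) with e2 | e2 | e2 | e2
    · exact absurd e2 (y.Zne h')
    · exact absurd e2 h1'
    · exact y.gm0 h1 h2 H hu.mem e e2
    · refine y.gm0 h1 h2 (H.mul_mem y.bS) hu.mem ?_ ?_
      · calc _ = b * (α * u * α⁻¹) * b⁻¹ := by group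
          _ = _ := by rw [e, y.zc y.bS]
      · calc _ = b * (α * mcZ a n * α⁻¹) * b⁻¹ := by group
          _ = _ := by rw [e2, ← conj_mul, y.bt y.ca y.cS, y.zc y.bS, mul_assoc, y.zz, mul_one]
  · exact absurd (y.Rt_R h' h1' (pow_mem m 2) e1) x2

theorem gmE (he : e ∈ Dt F (mcZ c n)) (h : ρ * e * ρ⁻¹ = e) (h' : e * a * e⁻¹ = a⁻¹)
    (hu : Zc F (mcZ a n) (a ^ k * c ^ (2 * l) * e)) : Gm F E (mcZ a n) (a ^ k * c ^ (2 * l) * e) := by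
  have A := (y.act_u k (2 * l)).mul (y.d0_inv he h h').1
  refine y.gmA h1 h2 hu (fun e => ?_) (r := a ^ (k - l) * b) (mul_mem (y.mc.zpow_mem _) y.bR)
    (mul_inv_eq_iff_eq_mul.1 ?_).symm (by rw [y.ab_sq]; exact y.z1)
  · have := (y.dvd_of_cz A (e ▸ mem_cz'.2 fun x hx => y.zc' (y.le hx))).1
    exact y.not_dvd_odd (x := -1) (by decide) (by simpa using this)
  · rw [A.zb]; congr 2; ring

theorem gen : F ≤ E := y.toHy.gen h1 fun u hu u1 => by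
  by_cases hI : ∀ r ∈ R, r * u = u * r → r ^ 2 = 1
  swap
  · push Not at hI
    obtain ⟨r, a1, a2, a3⟩ := hI
    exact y.gmA h1 h2 hu u1 a1 a2 a3
  obtain ⟨j, hj, A⟩ := y.actI hu hI
  have ev : ∀ {x : ℤ}, (2 : ℤ) ^ n ∣ x → 2 ∣ x := fun h => (Dvd.intro _ y.mc.pow_n.symm).trans h
  obtain ⟨k, l, e, he, e1, rfl | rfl⟩ := y.N_cases hu.mem (y.nV hu.mem) <;>
    obtain ⟨i, -, B, C⟩ := y.d0 he e1
  swap
  · obtain ⟨d1, d2⟩ := y.act_unique A (((y.act_u k l).mul B).mul y.actb)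
    obtain rfl := y.d0_one he e1 (by
      rw [B.1, ← zpow_one a, ← zpow_mul, y.eq_iff]; exact dv d1 (by ring))
    have a1 := y.Zsq hu
    have a2 : a ^ k * c ^ l * 1 * b * (a ^ k * c ^ l * 1 * b) =
      a ^ k * c ^ l * (b * (a ^ k * c ^ l) * b⁻¹) * (b * b) := by group
    rw [a2, w_u y.ac y.bab y.bc, u_mul y.ac, y.bb, y.zc' (y.uD _ _).1, ← mul_assoc, mcZ,
      ← zpow_add, y.ind, ← two_mul] at a1
    have := ev d2
    exact absurd a1.2 (y.not_dvd_odd (by rw [Int.odd_iff] at hj ⊢; omega))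
  obtain ⟨d1, d2⟩ := y.act_unique A ((y.act_u k l).mul B)
  have hl : Odd l := by have := ev d2; rw [Int.odd_iff] at hj ⊢; omega
  have e2 : e * a * e⁻¹ = a⁻¹ := by
    rw [B.1, ← zpow_neg_one, y.eq_iff, ← dvd_neg]; exact dv d1 (by ring)
  obtain ⟨B', C', -⟩ := y.d0_inv he e1 e2
  have hD : Dt F (a ^ k * c ^ l * e) ≤ Dt F (mcZ c n) := fun s hs => by
    obtain ⟨p, q, f, hf, f1, rfl | rfl⟩ := y.N_cases hs.1 (y.nV hs.1)
    · exact mul_mem (y.uD p q) hf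
    obtain ⟨m, hm, B'', C''⟩ := y.d0 hf f1
    have a1 : f * e * f⁻¹ = e := mul_inv_eq_one.1 (y.d0_one (mul_mem (mul_mem (mul_mem hf he)
      (inv_mem hf)) (inv_mem he)) (by
        rw [← conj_mul, ← conj_mul, ← conj_mul, ← conj_inv, ← conj_inv, f1, e1]) (by
        have : f * e * a * (f * e)⁻¹ = e * f * a * (e * f)⁻¹ := by
          rw [(B''.mul B').1, (B'.mul B'').1, mul_comm]
        obtain ⟨v, hv⟩ := y.conj_mem (inv_mem (y.nrm (mul_mem (Dt_S he) (Dt_S hf))))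
        simp only at hv
        calc _ = f * e * ((e * f)⁻¹ * a * (e * f)⁻¹⁻¹) * (f * e)⁻¹ := by group
          _ = a := by rw [← hv, ← conj_zpow, this, conj_zpow, hv]; group))
    have a2 := (mem_Dt.1 hs).2
    have a3 : a ^ p * c ^ q * f * b * (a ^ k * c ^ l * e) * (a ^ p * c ^ q * f * b)⁻¹ =
        a ^ p * c ^ q * (f * (b * (a ^ k * c ^ l) * b⁻¹) * f⁻¹) * (f * (b * e * b⁻¹) * f⁻¹ *
          (a ^ p * c ^ q)⁻¹ * e⁻¹) * e := by group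
    rw [a3, w_u y.ac y.bab y.bc, y.d0_u B'' C'', y.o.comm e he e1, mul_inv_cancel_right, a1,
      u_inv y.ac, y.d0_u B' C', u_mul y.ac, u_mul y.ac, mul_left_inj, y.u_eq] at a2
    have := ev a2.1
    obtain ⟨m, rfl⟩ := hm
    rw [Int.odd_iff] at hl
    have e3 : p + (2 * m + 1) * (l - k) + -1 * -p - k = 2 * (p + m * (l - k) - k) + l := by ring
    omega
  have r1 : ∀ k l : ℤ, ρ * (a ^ k * c ^ l * e) * ρ⁻¹ = a ^ (-l) * c ^ (k - l) * e := fun k l => by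
    rw [← conj_mul, e1, rho_u y.ac y.o.a y.o.c]
  have uD := mul_mem (y.uD k l) he
  obtain ⟨l, rfl⟩ := hl
  rcases k.even_or_odd' with ⟨m, rfl | rfl⟩
  · have T2 := y.o.T.mul' y.o.T (mem_nz.1 y.o.nrm).le
    have e3 : ρ * ρ * (a ^ (2 * m) * c ^ (2 * l + 1) * e) * (ρ * ρ)⁻¹ =
        a ^ (2 * l + 1 - 2 * m) * c ^ (2 * -m) * e := by
      calc _ = ρ * (ρ * (a ^ (2 * m) * c ^ (2 * l + 1) * e) * ρ⁻¹) * ρ⁻¹ := by group
        _ = _ := by rw [r1, r1]; congr 3 <;> ring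
    refine Gm.of (T2.mono hD) ((h2.mul' h2 (mem_nz.1 y.o.nrm).le).mono hD) ?_
    rw [e3]
    exact y.gmE h1 h2 he e1 e2 (e3 ▸ hu.conj T2 uD)
  · have e3 : ρ * (a ^ (2 * m + 1) * c ^ (2 * l + 1) * e) * ρ⁻¹ =
        a ^ (-(2 * l + 1)) * c ^ (2 * (m - l)) * e := by rw [r1]; congr 3; ring
    refine Gm.of (y.o.T.mono hD) (h2.mono hD) ?_
    rw [e3]
    exact y.gmE h1 h2 he e1 e2 (e3 ▸ hu.conj y.o.T uD)

end

theorem pm : F.S ≤ PM a := by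
  have a1 : R ≤ PM a := y.eq_sup ▸ sup_le (zpowers_le.2 (.inl (by group)))
    (zpowers_le.2 (.inr y.bab))
  refine inf_eq_left.1 (y.S_eq inf_le_left (fun s hs => ?_) y.o.T (fun d hd => mem_inf.2
    ⟨mul_mem (inv_mem (Dt_S hd)) (y.o.T.conj_mem hd), ?_⟩) fun E h1 h2 => y.gen h1 h2)
  · obtain ⟨r, hr, f, f1, f2, rfl⟩ := y.E_hyp hs
    exact ⟨mul_mem (y.le hr) f1, mul_mem (a1 hr) (.inl (mem_cz.1 f2 a y.aR))⟩
  · exact sup_le (zpowers_le.2 (a1 y.aR)) (zpowers_le.2 (.inl (by simpa using y.ca.1))) (y.o.st d hd)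

theorem card_T : Nat.card (zpowers a ⊔ zpowers c : Subgroup Γ) = 2 ^ n * 2 ^ n := by
  have a1 := card_sup_of_comm (A := zpowers a) (B := zpowers c) ((zpowers_le.2
    (mem_cz_zpowers.2 (by rw [y.ac]; group))).trans (cz_le_nz _))
  have a2 : zpowers a ⊓ zpowers c = ⊥ := eq_bot_iff.2 fun x ⟨⟨k, hk⟩, l, hl⟩ => by
    simp only at hk hl
    have := (y.ind k (-l)).1 (by rw [zpow_neg, hk, hl, mul_inv_cancel])
    rw [← hk, y.eq_one.2 this.1]; exact one_mem _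
  rwa [a2, card_bot, mul_one, Nat.card_zpowers, Nat.card_zpowers, y.mc.ord, y.ordc] at a1

theorem wr (h : ∀ e ∈ Dt F (mcZ c n), ρ * e * ρ⁻¹ = e → e = 1) :
    Wr F.S n c (c * a) (mcZ c n * b) := by
  have := y.three
  refine ⟨by omega, y.cS, mul_mem y.Z.mem y.bS, y.ordc, by rw [mul_assoc, y.ac],
    eq_bot_iff.2 fun x ⟨⟨k, hk⟩, l, hl⟩ => ?_, ?_, ?_, ?_⟩
  · simp only [ca_zpow y.ac] at hk hl
    have := (y.u_eq (i := l) (j := l) (k := 0) (l := k)).1 (by rw [zpow_zero, one_mul, hk, hl])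
    rw [← hl, (y.ind l l).2 (by simpa using this.1)]; exact one_mem _
  · calc _ = mcZ c n * (b * mcZ c n * b⁻¹) * (b * b) := by group
      _ = _ := by rw [y.bt y.ca y.cS, y.bb, ← mul_assoc, y.Zsq y.Z, one_mul, y.zz]
  · calc _ = mcZ c n * (b * c * b⁻¹) * (mcZ c n)⁻¹ := by group
      _ = _ := by rw [y.bc, ← (mem_Dt'.1 (mul_mem y.cD y.aD)).2]; group
  · have a1 : zpowers a ⊔ zpowers c ≤ F.S := sup_le (zpowers_le.2 y.aS) (zpowers_le.2 y.cS)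
    have a2 : (zpowers a ⊔ zpowers c).relIndex F.S = 2 := relIndex_eq_two_iff_exists_notMem_and.2
      ⟨b⁻¹, inv_mem y.bS, fun e => ?_, fun s hs => ?_⟩
    · rw [← H4.card_mul_relIndex a1, a2, y.card_T]; ring
    · obtain ⟨k, l, e⟩ := mem_sup_comm y.ac e
      exact y.not_dvd_odd (x := 1) odd_one (dv (y.act_unique y.actb' (e ▸ y.act_u k l)).1 (by ring))
    · obtain ⟨k, l, e, he, e1, rfl | rfl⟩ := y.N_cases hs (y.nV hs) <;> obtain rfl := h e he e1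
      · exact .inr (by simpa using u_mem a c k l)
      · exact .inl (by simpa using u_mem a c k l)

theorem co (he : e ∈ Dt F (mcZ c n)) (h : ρ * e * ρ⁻¹ = e) (h' : e ≠ 1) : Co F.S n a b c e := by
  have key : ∀ f ∈ Dt F (mcZ c n), ρ * f * ρ⁻¹ = f → f = 1 ∨ f * a * f⁻¹ = a⁻¹ := fun f hf e =>
    (y.pm hf.1).imp_left (y.d0_one hf e)
  have e1 := (key e he h).resolve_left h'
  obtain ⟨A, B, C⟩ := y.d0_inv he h e1
  refine ⟨y.three, y.aS, y.bS, y.cS, he.1, y.ind, y.ac, y.bab, y.bc, y.bb, e1, by simpa using B, C,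
    (y.o.comm e he h).symm, fun s hs => ?_⟩
  obtain ⟨k, l, f, hf, f1, e2⟩ := y.N_cases hs (y.nV hs)
  refine ⟨k, l, ?_⟩
  rcases key f hf f1 with rfl | f2
  · simp only [mul_one] at e2; tauto
  · obtain rfl : f = e := by
      have := y.d0_one (mul_mem hf he) (by rw [← conj_mul, f1, h]) (by
        simpa using ((y.d0_inv hf f1 f2).1.mul A).1)
      rw [eq_inv_of_mul_eq_one_left this, inv_eq_of_mul_eq_one_right C]
    tauto

end Pre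

theorem Hy.tri [Finite Γ] (y : Hy F R n a b) : (∃ x t, QD F.S (n + 1) x t) ∨
    (∃ x v w, Wr F.S n x v w) ∨ ∃ c j ρ, Pre F R n a b c ρ ∧ Co F.S n a b c j ∧ ρ * j * ρ⁻¹ = j := by
  by_cases hI : ∀ t, Zc F (mcZ a n) t → t ≠ mcZ a n → ∀ r ∈ R, r * t = t * r → r ^ 2 = 1
  · exact .inl (y.caseI hI)
  push Not at hI
  obtain ⟨t, h, h1, r, hr, c, r2⟩ := hI
  obtain ⟨c, ρ, p⟩ := y.exists_pre h h1 hr c r2
  by_cases h : ∀ e ∈ Dt F (mcZ c n), ρ * e * ρ⁻¹ = e → e = 1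
  · exact .inr (.inl ⟨_, _, _, p.wr h⟩)
  push Not at h
  obtain ⟨e, a1, a2, a3⟩ := h
  exact .inr (.inr ⟨c, e, ρ, p, p.co a1 a2 a3, a2⟩)

end H20.QF
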