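import Cfsg.Agent.H20.QF5

/-!
# Fusion systems with a tightly embedded quaternion subgroup, VI: realization by a model group
-/

set_option autoImplicit false
set_option linter.unusedSectionVars false

namespace H20.QF

open Subgroup H25 H25.FS H10
open scoped commutatorElement

variable {Γ G : Type*} [Group Γ] [Group G] {F : FS Γ} {R S : Subgroup Γ} {T R' : Subgroup G} {n : ℕ}
  {a b c j s ρ : Γ} {a' b' c' j' : G} {i : G →* Γ}

theorem nf [Finite Γ] {N : ℤ} (ac : a * c = c * a) (ba : b * a * b⁻¹ = a⁻¹)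
    (bc : b * c * b⁻¹ = c * a) (bb : b * b = a ^ N) (ja : j * a * j⁻¹ = a⁻¹) (jc : j * c * j⁻¹ = c⁻¹)
    (jj : j * j = 1) (jb : j * b = b * j) (hs : s ∈ zpowers a ⊔ zpowers c ⊔ zpowers j ⊔ zpowers b) :
    ∃ k l : ℤ, s = a ^ k * c ^ l ∨ s = a ^ k * c ^ l * j ∨ s = a ^ k * c ^ l * b ∨
      s = a ^ k * c ^ l * j * b := by
  have a1 : a ∈ zpowers a ⊔ zpowers c := mem_sup_left (mem_zpowers a)
  have c1 : c ∈ zpowers a ⊔ zpowers c := mem_sup_right (mem_zpowers c)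
  obtain ⟨x, hx, _, ⟨p, rfl⟩, rfl⟩ := (mem_sup_of_le_nz_left (zpowers_le.2 (mem_nz_sup (mem_nz_of_le (by
    rw [cj_sup, cj_zpowers, cj_zpowers, ba, bc]
    exact sup_le (zpowers_le.2 (inv_mem a1)) (zpowers_le.2 (mul_mem c1 a1))))
      (cz_le_nz _ (mem_cz_zpowers.2 (by rw [← jb]; group)))))).1 hs
  obtain ⟨u, hu, _, ⟨q, rfl⟩, rfl⟩ := (mem_sup_of_le_nz_left (zpowers_le.2 (mem_nz_of_le (by
    rw [cj_sup, cj_zpowers, cj_zpowers, ja, jc]
    exact sup_le (zpowers_le.2 (inv_mem a1)) (zpowers_le.2 (inv_mem c1)))))).1 hx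
  obtain ⟨k, l, rfl⟩ := mem_sup_comm ac hu
  have e1 : ∀ m : ℤ, b ^ (2 * m) = a ^ (N * m) := fun m => by rw [zpow_mul, zpow_two, bb, ← zpow_mul]
  have e2 : ∀ m : ℤ, a ^ k * c ^ l * a ^ m = a ^ (k + m) * c ^ l := fun m => by
    simpa using u_mul ac k l m 0
  have e3 : ∀ m : ℤ, a ^ k * c ^ l * j * a ^ m = a ^ (k + -m) * c ^ l * j := fun m => by
    rw [← e2, ← inv_zpow', ← ja, conj_zpow]; group
  simp only
  rcases zpow_of_sq jj q with e | e <;> rw [e] <;> obtain ⟨m, rfl | rfl⟩ := p.even_or_odd'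
  · exact ⟨_, _, .inl (by rw [mul_one, e1, e2])⟩
  · exact ⟨_, _, .inr (.inr (.inl (by rw [mul_one, zpow_add_one, e1, ← mul_assoc, e2])))⟩
  · exact ⟨_, _, .inr (.inl (by rw [e1, e3]))⟩
  · exact ⟨_, _, .inr (.inr (.inr (by rw [zpow_add_one, e1, ← mul_assoc, e3])))⟩

theorem un_co [Finite Γ] [Finite G] (hU : H4.Un S G) (h : Co S n a b c j) (k : Co T n a' b' c' j') :
    ∃ i : G →* Γ, Function.Injective i ∧ i a' = a ∧ i b' = b ∧ i c' = c ∧ i j' = j ∧ T.map i = S := by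
  have key := fun s => nf (s := s) (a := (a, a')) (b := (b, b')) (c := (c, c')) (j := (j, j'))
    (N := 2 ^ (n - 1)) (Prod.ext h.ac k.ac) (Prod.ext h.ba k.ba) (Prod.ext h.bc k.bc)
    (Prod.ext h.bb k.bb) (Prod.ext h.ja k.ja) (Prod.ext h.jc k.jc) (Prod.ext h.jj k.jj)
    (Prod.ext h.jb k.jb)
  set D := zpowers (a, a') ⊔ zpowers (c, c') ⊔ zpowers (j, j') ⊔ zpowers (b, b')
  have m1 : (a, a') ∈ D := mem_sup_left (mem_sup_left (mem_sup_left (mem_zpowers _)))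
  have m2 : (c, c') ∈ D := mem_sup_left (mem_sup_left (mem_sup_right (mem_zpowers _)))
  have m3 : (j, j') ∈ D := mem_sup_left (mem_sup_right (mem_zpowers _))
  have m4 : (b, b') ∈ D := mem_sup_right (mem_zpowers _)
  obtain ⟨i, a1, a2⟩ := hU.graph D (fun t ht => by
    obtain ⟨p, q, e | e | e | e⟩ := key _ ht <;> obtain ⟨e1, e2⟩ := Prod.ext_iff.1 e
    · exact e2.trans ((k.ind p q).2 ((h.ind p q).1 e1.symm))
    · exact absurd e1.symm (h.u_ne p q).1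
    · exact absurd e1.symm (h.u_ne p q).2.1
    · exact absurd e1.symm (h.u_ne p q).2.2) (fun t ht => by
    obtain ⟨p, q, e | e | e | e⟩ := key _ ht <;> obtain ⟨e1, e2⟩ := Prod.ext_iff.1 e
    · exact e1.trans ((h.ind p q).2 ((k.ind p q).1 e2.symm))
    · exact absurd e2.symm (k.u_ne p q).1
    · exact absurd e2.symm (k.u_ne p q).2.1
    · exact absurd e2.symm (k.u_ne p q).2.2) fun s hs => by
    have := fun p q : ℤ => mul_mem (zpow_mem m1 p) (zpow_mem m2 q)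
    obtain ⟨p, q, rfl | rfl | rfl | rfl⟩ := h.cases s hs
    exacts [⟨_, this p q⟩, ⟨_, mul_mem (this p q) m3⟩, ⟨_, mul_mem (this p q) m4⟩,
      ⟨_, mul_mem (mul_mem (this p q) m3) m4⟩]
  have b1 := a2 _ h.aS _ m1
  have b2 := a2 _ h.cS _ m2
  have b3 := a2 _ h.jS _ m3
  have b4 := a2 _ h.bS _ m4
  refine ⟨i, a1, b1, b4, b2, b3, le_antisymm ?_ fun s hs => ?_⟩
  · rintro _ ⟨t, ht, rfl⟩
    have := fun p q : ℤ => mul_mem (zpow_mem h.aS p) (zpow_mem h.cS q)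
    obtain ⟨p, q, rfl | rfl | rfl | rfl⟩ := k.cases t ht <;>
      simp only [map_mul, map_zpow, b1, b2, b3, b4]
    exacts [this p q, mul_mem (this p q) h.jS, mul_mem (this p q) h.bS,
      mul_mem (mul_mem (this p q) h.jS) h.bS]
  · have := fun p q : ℤ => mul_mem (zpow_mem k.aS p) (zpow_mem k.cS q)
    obtain ⟨p, q, rfl | rfl | rfl | rfl⟩ := h.cases s hs
    · exact ⟨_, this p q, by simp only [map_mul, map_zpow, b1, b2]⟩
    · exact ⟨_, mul_mem (this p q) k.jS, by simp only [map_mul, map_zpow, b1, b2, b3]⟩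
    · exact ⟨_, mul_mem (this p q) k.bS, by simp only [map_mul, map_zpow, b1, b2, b4]⟩
    · exact ⟨_, mul_mem (mul_mem (this p q) k.jS) k.bS, by
        simp only [map_mul, map_zpow, b1, b2, b3, b4]⟩

/-- the hypotheses for a model group -/
structure HG (T R : Subgroup G) (n : ℕ) (a b : G) : Prop extends Qt R n a b where
  pg : IsPGroup 2 T
  idx : ¬ 2 ∣ T.index
  le : R ≤ T
  nrm : T ≤ nz R
  scz : ∀ g r, g * mcZ a n * g⁻¹ = mcZ a n → r ∈ R → g * r * g⁻¹ ∈ T → g * r * g⁻¹ ∈ R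
  inv : ∀ y ∈ T, y ∈ cz R → y ^ 2 = 1 → y = 1 ∨ y = mcZ a n
  foc : T ≤ commutator G
  ncen : ∃ g, g * mcZ a n * g⁻¹ ∈ T ∧ g * mcZ a n * g⁻¹ ≠ mcZ a n
  card : Nat.card T = 2 ^ (2 * n + 2)

theorem HG.hy [Finite Γ] (m : HG T R' n a' b') (hi : Function.Injective i) :
    Hy (ofSub i.range (T.map i)) (R'.map i) n (i a') (i b') := by
  have e : mcZ (i a') n = i (mcZ a' n) := (map_zpow _ _ _).symm
  have q : Qt (R'.map i) n (i a') (i b') := by
    rw [← m.eq_sup, Subgroup.map_sup, MonoidHom.map_zpowers, MonoidHom.map_zpowers]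
    exact .of_rel m.three ((orderOf_injective i hi _).trans m.mc.ord)
      (by simpa using congrArg i m.bab) (by rw [e, ← m.bb, map_mul])
  have key : ∀ {P g}, (ofSub i.range (T.map i)).T P g → ∃ k, ∀ x, i x ∈ P →
      g * i x * g⁻¹ = i (k * x * k⁻¹) ∧ k * x * k⁻¹ ∈ T := fun {P g} H => by
    obtain ⟨-, h1, _, ⟨k, rfl⟩, h2⟩ := (ofSub_T (map_le_range _ _)).1 H
    refine ⟨k, fun x hx => ?_⟩
    have : g * i x * g⁻¹ = i (k * x * k⁻¹) := by rw [h2 _ hx, map_mul, map_mul, map_inv]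
    exact ⟨this, (mem_map_iff_mem hi).1 (this ▸ h1 (conj_mem_cj g hx))⟩
  have hc : ∀ y, i y ∈ cz (R'.map i) → y ∈ cz R' := fun y h => mem_cz.2 fun x hx =>
    hi (by simpa using mem_cz.1 h _ (mem_map_of_mem i hx))
  refine ⟨q, sat_ofSub (m.pg.map i) (H4.syl_map hi m.idx), map_mono m.le, ?_, ?_, ?_, ?_, ?_, ?_⟩
  · rintro _ ⟨t, ht, rfl⟩
    exact le_normalizer_map i ⟨t, m.nrm ht, rfl⟩
  · rintro P g H hz e1 _ hr ⟨r, hr', rfl⟩
    obtain ⟨k, hk⟩ := key H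
    rw [e] at hz e1
    rw [(hk r hr).1]
    exact mem_map_of_mem i (m.scz k r (hi ((hk _ hz).1.symm.trans e1)) hr' (hk r hr).2)
  · intro g H h1
    obtain ⟨k, hk⟩ := key H
    rw [e] at h1 hk ⊢
    obtain ⟨a1, a2⟩ := hk _ (mem_zpowers _)
    rw [a1] at h1 ⊢
    rw [(m.inv _ a2 (hc _ h1) (by rw [conj_pow, m.mc.z_sq]; simp)).resolve_left (by simpa using m.z1)]
  · intro P g y H hz hy h1 h2 h3 h4
    obtain ⟨v, hv, rfl⟩ := H.le hy
    rcases m.inv v hv (hc _ h1) (hi (by simpa using h2)) with rfl | rfl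
    · exact absurd (map_one i) h3
    · rwa [e]
  · rw [H4.foc_map hi m.pg m.idx, inf_eq_left.2 m.foc]; rfl
  · obtain ⟨g, h1, h2⟩ := m.ncen
    have a1 : i g * i (mcZ a' n) * (i g)⁻¹ = i (g * mcZ a' n * g⁻¹) := by simp
    rw [e]
    refine ⟨i g, ofSub_T_of_mem (zpowers_le.2 (mem_map_of_mem i (m.le m.zR))) ⟨g, rfl⟩ ?_, ?_⟩
    · rw [cj_zpowers, a1]; exact zpowers_le.2 (mem_map_of_mem i h1)
    · rw [a1]; exact hi.ne h2

theorem HG.co [Finite G] (m : HG T R' n a' b') : ∃ c j ρ, Co T n a' b' c j ∧ ρ * a' * ρ⁻¹ = c ∧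
    ρ * c * ρ⁻¹ = (c * a')⁻¹ ∧ ρ * j * ρ⁻¹ = j := by
  have y := m.hy (i := .id G) Function.injective_id
  have e : (ofSub (MonoidHom.id G).range (T.map (.id G))).S = T := map_id T
  have := m.three
  rcases y.tri with ⟨x, t, h⟩ | ⟨x, v, w, h⟩ | ⟨c, j, ρ, h1, h2, h3⟩
  · have := h.mc.card
    rw [e, m.card, Nat.pow_right_inj one_lt_two] at this
    omega
  · have := h.card
    rw [e, m.card, Nat.pow_right_inj one_lt_two] at this
    omega
  · exact ⟨c, j, ρ, e ▸ h2, h1.o.a, h1.o.c, h3⟩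

theorem Pre.rz [Finite Γ] [Finite G] (y : Pre F R n a b c ρ) (h : Co F.S n a b c j)
    (r : ρ * j * ρ⁻¹ = j) (hU : H4.Un F.S G) (m : HG T R' n a' b') : H4.Rz 2 F G := by
  obtain ⟨c', j', ρ', k, r1, r2, r3⟩ := m.co
  obtain ⟨i, hi, rfl, rfl, rfl, rfl, e⟩ := un_co hU h k
  have y' := m.hy hi
  have e' : R'.map i = R := by
    rw [← m.eq_sup, Subgroup.map_sup, MonoidHom.map_zpowers, MonoidHom.map_zpowers, y.eq_sup]
  have b1 := H4.syl_map hi m.idx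
  rw [e] at y' b1
  rw [e'] at y'
  have r3' : i ρ' * i j' * (i ρ')⁻¹ = i j' := by simpa using congrArg i r3
  have p := y'.pre (ρ := i ρ') h (by simpa using congrArg i r1) (by simpa using congrArg i r2) r3'
    fun P h1 h2 => ofSub_T_of_mem h1 ⟨ρ', rfl⟩ h2
  exact ⟨i, hi, b1, le_antisymm (y.le_of h p rfl r r3') (p.le_of h y rfl r3' r)⟩

end H20.QF
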