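import Cfsg.Agent.H20.QF6
import Cfsg.Agent.H8.EAG2b

/-!
# Fusion systems with a tightly embedded quaternion subgroup, VII: the model `G₂(q)`
-/

set_option autoImplicit false
set_option linter.unusedSectionVars false
set_option linter.unnecessarySeqFocus false

namespace H20.QF

open Subgroup H25 H25.FS H10

section
variable {G : Type*} [Group G] [Finite G] {T : Subgroup G} {n : ℕ} {a b c j ρ : G}

theorem Co.card (h : Co T n a b c j) : Nat.card T = 2 ^ (2 * n + 2) := by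
  have a1 : a ∈ zpowers a ⊔ zpowers c := mem_sup_left (mem_zpowers a)
  have c1 : c ∈ zpowers a ⊔ zpowers c := mem_sup_right (mem_zpowers c)
  have n1 : j ∈ nz (zpowers a ⊔ zpowers c) := mem_nz_of_le (by
    rw [cj_sup, cj_zpowers, cj_zpowers, h.ja, h.jc]
    exact sup_le (zpowers_le.2 (inv_mem a1)) (zpowers_le.2 (inv_mem c1)))
  have n2 : b ∈ nz (zpowers a ⊔ zpowers c ⊔ zpowers j) := mem_nz_sup (mem_nz_of_le (by
    rw [cj_sup, cj_zpowers, cj_zpowers, h.ba, h.bc]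
    exact sup_le (zpowers_le.2 (inv_mem a1)) (zpowers_le.2 (mul_mem c1 a1))))
      (cz_le_nz _ (mem_cz_zpowers.2 (by rw [← h.jb]; group)))
  have e1 := card_sup_of_comm (A := zpowers a) (B := zpowers c) ((zpowers_le.2
    (mem_cz_zpowers.2 (by rw [h.ac]; group))).trans (cz_le_nz _))
  have e2 : zpowers a ⊓ zpowers c = ⊥ := eq_bot_iff.2 fun x ⟨⟨k, hk⟩, l, hl⟩ => by
    simp only at hk hl
    have := (h.ind k (-l)).1 (by rw [zpow_neg, hk, hl, mul_inv_cancel])
    rw [← hk, h.qt.eq_one.2 this.1]; exact one_mem _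
  have oc : orderOf c = 2 ^ n := (orderOf_eq_orderOf_iff.2 fun m => by
    have := (h.ind 0 m).trans (and_comm.trans (h.ind m 0).symm)
    simpa using this).trans h.orda
  rw [e2, card_bot, mul_one, Nat.card_zpowers, Nat.card_zpowers, h.orda, oc] at e1
  have e3 := H4.card_sup_zpowers_prime Nat.prime_two n1 (fun e => by
    obtain ⟨k, l, e⟩ := mem_sup_comm h.ac (inv_mem e)
    exact (h.u_ne k l).1 (by rw [← e, inv_mul_cancel])) (by rw [sq, h.jj]; exact one_mem _)
  have e4 := H4.card_sup_zpowers_prime Nat.prime_two n2 (fun e => by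
    obtain ⟨u, hu, _, ⟨q, rfl⟩, e⟩ := (mem_sup_of_le_nz_left (zpowers_le.2 n1)).1 (inv_mem e)
    obtain ⟨k, l, rfl⟩ := mem_sup_comm h.ac hu
    simp only at e
    rcases zpow_of_sq h.jj q with e' | e' <;> rw [e'] at e
    · exact (h.u_ne k l).2.1 (by rw [← mul_one (a ^ k * _), e, inv_mul_cancel])
    · exact (h.u_ne k l).2.2 (by rw [e, inv_mul_cancel]))
    (by rw [sq, h.bb]; exact mem_sup_left (zpow_mem a1 _))
  have e5 : T = zpowers a ⊔ zpowers c ⊔ zpowers j ⊔ zpowers b := le_antisymm (fun s hs => by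
    have m1 := fun k l : ℤ => (mem_sup_left (mem_sup_left (mul_mem (zpow_mem a1 k) (zpow_mem c1 l))) :
      _ ∈ zpowers a ⊔ zpowers c ⊔ zpowers j ⊔ zpowers b)
    have m2 : j ∈ zpowers a ⊔ zpowers c ⊔ zpowers j ⊔ zpowers b :=
      mem_sup_left (mem_sup_right (mem_zpowers _))
    have m3 : b ∈ zpowers a ⊔ zpowers c ⊔ zpowers j ⊔ zpowers b := mem_sup_right (mem_zpowers _)
    obtain ⟨k, l, rfl | rfl | rfl | rfl⟩ := h.cases s hs
    exacts [m1 k l, mul_mem (m1 k l) m2, mul_mem (m1 k l) m3, mul_mem (mul_mem (m1 k l) m2) m3])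
    (by simp [h.aS, h.bS, h.cS, h.jS])
  rw [e5, e4, e3, e1]; ring

theorem Co.hg_le (h : Co T n a b c j) : zpowers a ⊔ zpowers b ≤ T := by simp [h.aS, h.bS]

theorem Co.hg (h : Co T n a b c j) (idx : ¬ 2 ^ (2 * n + 3) ∣ Nat.card G)
    (scz : ∀ g r, g * mcZ a n * g⁻¹ = mcZ a n → r ∈ zpowers a ⊔ zpowers b → g * r * g⁻¹ ∈ T →
      g * r * g⁻¹ ∈ zpowers a ⊔ zpowers b) (foc : T ≤ commutator G) (r : ρ * a * ρ⁻¹ = c) :
    HG T (zpowers a ⊔ zpowers b) n a b := by
  refine ⟨h.qt, .of_card h.card, fun e => idx ?_, h.hg_le, h.nrm, scz,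
    fun y hy h1 h2 => ?_, foc, ⟨ρ, ?_, ?_⟩, h.card⟩
  · rw [← T.card_mul_index, h.card, pow_succ]
    exact mul_dvd_mul_left _ e
  · rw [← h.mcZ_e]
    exact h.symm.qt.invol (h.cz_sub (m := 0) hy (cz_anti (h.qt.Q0_le 0) h1)) h2
  · rw [← conj_Z, r]; exact zpow_mem h.cS _
  · rw [← conj_Z, r]; exact h.t_ne
end

open H8 H4 H13.GL2 H27 Matrix Matrix.SpecialLinearGroup Cfsg.Lie
open scoped MatrixGroups

variable {K : Type} [Field K] {n k : ℕ} {ζ : Kˣ}

/-- the long root `SL₂` -/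
def lK (K : Type) [Field K] : SL(2, K) →* KZ K :=
  (MonoidHom.prod 1 toGL).codRestrict _ fun _ => Units.ext (by simp)

/-- the short root `SL₂` -/
def mK (K : Type) [Field K] : SL(2, K) →* KZ K :=
  (MonoidHom.prod toGL 1).codRestrict _ fun _ => Units.ext (by simp)

/-- a one parameter torus -/
def cK (K : Type) [Field K] : Kˣ →* KZ K :=
  .mk' (fun x => ⟨(dg 1 x, dg 1 x), rfl⟩) fun x y => Subtype.ext (by simp [dg_mul])

theorem lK_val (s : SL(2, K)) : (lK K s).1 = (1, toGL s) := rfl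
theorem mK_val (s : SL(2, K)) : (mK K s).1 = (toGL s, 1) := rfl
theorem cK_val (x : Kˣ) : (cK K x).1 = (dg 1 x, dg 1 x) := rfl
theorem dg_inv' (x y : Kˣ) : (dg x y)⁻¹ = dg x⁻¹ y⁻¹ :=
  inv_eq_of_mul_eq_one_right (by rw [dg_mul, mul_inv_cancel, mul_inv_cancel, dg_one])

/-- the long root `SL₂` in `G₂` -/
def lG (K : Type) [Field K] : SL(2, K) →* autZ K := (thZ K).comp (lK K)

theorem lG_apply (s : SL(2, K)) (x : Fin 8 → K) :
    tauZ K ((lG K s).1 x) = ((tauZ K x).1, s.1 * (tauZ K x).2) := by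
  simp [lG, thZ_apply, actZ_apply, lK_val]

theorem lG_inj : Function.Injective (lG K) := (injective_iff_map_eq_one _).2 fun _ h =>
  toGL_injective ((thZ_eq_one h).choose_spec.2.trans (map_one _).symm)

theorem mem_range_lG {g : autZ K} (h : ∀ x, (tauZ K x).2 = 0 → g.1 x = x) : g ∈ (lG K).range := by
  obtain ⟨x, y, e⟩ : ∃ x y, tauZ K (g.1 ((tauZ K).symm (0, 1))) = (x, y) := ⟨_, _, rfl⟩
  have m : ∀ u v, tauZ K (g.1 ((tauZ K).symm (cdMul u v))) =
      cdMul (tauZ K (g.1 ((tauZ K).symm u))) (tauZ K (g.1 ((tauZ K).symm v))) := fun u v => by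
    rw [← tauZ_mul, ← autZ_mul, ← (tauZ K).symm_apply_apply (zornMul _ _), tauZ_mul]; simp
  have f : ∀ X, tauZ K (g.1 ((tauZ K).symm (X, 0))) = (X, 0) := fun X => by
    rw [h _ (by simp)]; simp
  have a1 : ∀ X, tauZ K (g.1 ((tauZ K).symm (0, X))) = (X * x, y * X) := fun X => by
    simpa [f, e, cdMul] using m (X, 0) (0, 1)
  have a2 : ∀ X, X * x = x * adjugate X := fun X => by
    have := m (0, 1) (adjugate X, 0)
    simp only [f, e, cdMul] at this
    simpa [adjugate_adjugate, a1] using this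
  obtain rfl : x = 0 := by
    have b1 := a2 !![1, 0; 0, 0]
    have b2 := a2 !![0, 1; 0, 0]
    have b3 := a2 !![0, 0; 1, 0]
    have c1 := congrFun (congrFun b1 0) 0
    have c2 := congrFun (congrFun b1 1) 1
    have c3 := congrFun (congrFun b2 0) 0
    have c4 := congrFun (congrFun b3 1) 1
    simp [Matrix.mul_apply, Fin.sum_univ_two, adjugate_fin_two] at c1 c2 c3 c4
    ext i j
    fin_cases i <;> fin_cases j <;> simp [*]
  have a3 : y.det = 1 := by
    have := m (0, 1) (0, 1)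
    simp only [e, cdMul] at this
    have := congrFun (congrFun (congrArg Prod.fst this) 0) 0
    simpa [f, adjugate_mul] using this.symm
  refine ⟨⟨y, a3⟩, Subtype.ext (LinearEquiv.ext fun v => (tauZ K).injective ?_)⟩
  obtain ⟨⟨X, Y⟩, rfl⟩ := (tauZ K).symm.surjective v
  refine (lG_apply _ _).trans ?_
  rw [show (X, Y) = (X, 0) + (0, Y) by simp, map_add, map_add, map_add, map_add, f, a1]
  simp

/-- the triality-like Weyl element -/
def rG (K : Type) [Field K] : autZ K :=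
  ⟨LinearEquiv.funCongrLeft K K ⟨![0, 3, 1, 2, 6, 4, 5, 7], ![0, 2, 3, 1, 5, 6, 4, 7], by decide,
    by decide⟩, fun x y => by apply fin8_ext <;> simp [zornMul_eq] <;> ring⟩

theorem rG_conj (ζ : Kˣ) : rG K * lG K (dS ζ) * (rG K)⁻¹ = thZ K (cK K ζ) := by
  rw [mul_inv_eq_iff_eq_mul]
  refine Subtype.ext (LinearEquiv.ext fun x => ?_)
  apply fin8_ext <;> simp [rG, lG, lK_val, cK_val, thZ_apply, actZ_apply, tauZ, Matrix.mul_apply,
    Fin.sum_univ_two, dg_inv', -coe_units_inv, mul_comm _ (ζ : K)⁻¹]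

theorem g2_co [Finite K] (hn : 3 ≤ n) (ho : orderOf ζ = 2 ^ n) :
    Co (zpowers (lG K (dS ζ)) ⊔ zpowers (thZ K (cK K ζ)) ⊔ zpowers (thZ K (mK K (wS K) * lK K (wS K))) ⊔
      zpowers (lG K (wS K))) n (lG K (dS ζ)) (lG K (wS K)) (thZ K (cK K ζ))
      (thZ K (mK K (wS K) * lK K (wS K))) := by
  have w0 : toGL (wS K) = gl2 0 1 (-1) 0 (by simp) := toGL_mkS _ _
  have cm : ∀ s t, mK K s * lK K t = lK K t * mK K s := fun s t =>
    Subtype.ext (by simp [lK_val, mK_val])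
  have ac : lG K (dS ζ) * thZ K (cK K ζ) = thZ K (cK K ζ) * lG K (dS ζ) := by
    simp only [lG, MonoidHom.comp_apply, ← map_mul]
    exact congrArg _ (Subtype.ext (by simp [lK_val, cK_val, dg_mul]))
  have ba : lG K (wS K) * lG K (dS ζ) * (lG K (wS K))⁻¹ = (lG K (dS ζ))⁻¹ := by
    simpa using congrArg (lG K) (wS_dS ζ)
  have bc : lG K (wS K) * thZ K (cK K ζ) * (lG K (wS K))⁻¹ = thZ K (cK K ζ) * lG K (dS ζ) := by
    simp only [mul_inv_eq_iff_eq_mul, lG, MonoidHom.comp_apply, ← map_mul]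
    refine congrArg _ (Subtype.ext (Prod.ext (by simp [lK_val, cK_val]) ?_))
    simp only [Subgroup.coe_mul, Prod.snd_mul, lK_val, cK_val, toGL_dS, dg_mul, w0]
    apply gl_ext <;> simp [gl_mul_apply, -Units.val_mul]
  have bb : lG K (wS K) * lG K (wS K) = mcZ (lG K (dS ζ)) n := by
    obtain ⟨m, rfl⟩ := Nat.exists_eq_add_of_le' (show 1 ≤ n by omega)
    rw [← sq, ← map_pow, wS_sq, ← half_pow ho, mcZ, map_pow, map_pow, ← zpow_natCast]
    simp
  have ja : thZ K (mK K (wS K) * lK K (wS K)) * lG K (dS ζ) * (thZ K (mK K (wS K) * lK K (wS K)))⁻¹ =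
      (lG K (dS ζ))⁻¹ := by
    rw [← ba, mul_inv_eq_iff_eq_mul]
    simp only [lG, MonoidHom.comp_apply, ← map_inv, ← map_mul (thZ K)]
    rw [mul_assoc (mK K _), ← map_mul, cm, cm, ← mul_assoc, ← map_mul]
    simp
  have jc : thZ K (mK K (wS K) * lK K (wS K)) * thZ K (cK K ζ) *
      (thZ K (mK K (wS K) * lK K (wS K)))⁻¹ = (thZ K (cK K ζ))⁻¹ := by
    rw [eq_inv_iff_mul_eq_one, ← map_inv, ← map_mul, ← map_mul, ← map_mul]
    refine thZ_scalar (c := ζ) ?_ (by simp [lK_val, mK_val, cK_val])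
    have : toGL (wS K) * dg 1 ζ * (toGL (wS K))⁻¹ * dg 1 ζ = dg ζ ζ := by
      rw [← eq_mul_inv_iff_mul_eq, mul_inv_eq_iff_eq_mul, dg_inv', dg_mul, w0]
      apply gl_ext <;> simp [gl_mul_apply, -Units.val_mul]
    simp only [Subgroup.coe_mul, Subgroup.coe_inv, Prod.fst_mul, Prod.fst_inv, lK_val, cK_val, mK_val, mul_one, this]
    ext i j
    fin_cases i <;> fin_cases j <;> simp
  have jj : thZ K (mK K (wS K) * lK K (wS K)) * thZ K (mK K (wS K) * lK K (wS K)) = 1 := by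
    rw [← map_mul]
    refine thZ_scalar (c := -1) ?_ (by simp [lK_val, mK_val])
    simp only [Subgroup.coe_mul, Prod.fst_mul, lK_val, mK_val, mul_one]
    rw [← map_mul, ← sq, wS_sq, toGL_dS]
    ext i j
    fin_cases i <;> fin_cases j <;> simp
  have jb : thZ K (mK K (wS K) * lK K (wS K)) * lG K (wS K) =
      lG K (wS K) * thZ K (mK K (wS K) * lK K (wS K)) := by
    simp only [lG, MonoidHom.comp_apply, ← map_mul (thZ K)]
    rw [← mul_assoc, ← cm]
  refine ⟨hn, mem_sup_left (mem_sup_left (mem_sup_left (mem_zpowers _))), mem_sup_right (mem_zpowers _),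
    mem_sup_left (mem_sup_left (mem_sup_right (mem_zpowers _))),
    mem_sup_left (mem_sup_right (mem_zpowers _)), fun p q => ?_, ac, ba, bc, bb, ja, jc, jj, jb,
    fun s => nf ac ba bc bb ja jc jj jb⟩
  have e : ∀ p : ℤ, (2 : ℤ) ^ n ∣ p ↔ ζ ^ p = 1 := fun p => by
    rw [← orderOf_dvd_iff_zpow_eq_one, ho]; simp
  simp only [e, lG, MonoidHom.comp_apply, ← map_zpow, ← map_mul]
  refine ⟨fun h => ?_, fun ⟨h1, h2⟩ => by simp [h1, h2]⟩
  obtain ⟨x, h1, h2⟩ := thZ_eq_one h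
  simp only [Subgroup.coe_mul, Prod.fst_mul, Prod.snd_mul, lK_val, cK_val, one_mul, toGL_dS, dg_mul] at h1 h2
  have a1 := congrArg (fun g : GL (Fin 2) K => g 0 0) h2
  have a2 := congrFun (congrFun h1 0) 0
  have a3 := congrFun (congrFun h1 1) 1
  simp only [dg_00, dg_11, mul_one, Matrix.smul_apply, one_apply_eq, smul_eq_mul] at a1 a2 a3
  exact ⟨Units.ext a1, Units.ext (a3.trans a2.symm)⟩

theorem g2_hg [Fintype K] (hn : 3 ≤ n) (h : Fintype.card K = 2 ^ n * k + 1) (hk : Odd k) :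
    ∃ T R a b, HG (G := autZ K) T R n a b := by
  classical
  obtain ⟨ζ, ho⟩ := exists_ord h
  obtain ⟨m, rfl⟩ := Nat.exists_eq_add_of_le' (show 2 ≤ n by omega)
  obtain ⟨u, hu, e⟩ := card_sl2 h hk
  have hK : Odd (Fintype.card K) := h ▸ Even.add_one (by simp [pow_succ, parity_simps])
  have y := g2_co hn ho
  have hz : mcZ (lG K (dS ζ)) (m + 2) = lG K (dS (-1)) := by rw [← y.bb, ← sq, ← map_pow, wS_sq]
  have fx : ∀ x, (lG K (dS (-1))).1 x = x ↔ (tauZ K x).2 = 0 := fun x => by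
    rw [← (tauZ K).injective.eq_iff, lG_apply, Prod.ext_iff, show (dS (-1) : SL(2, K)).1 = -1 by
      ext i j; fin_cases i <;> fin_cases j <;> simp [dS_00, dS_01, dS_10, dS_11]]
    simp only [true_and, neg_mul, one_mul, neg_eq_iff_add_eq_zero, ← two_smul K]
    simp [two_ne_zero_of_odd hK]
  have r1 : zpowers (lG K (dS ζ)) ⊔ zpowers (lG K (wS K)) ≤ (lG K).range := by simp
  have pf : ∀ f : SL(2, K) →* autZ K, ∀ s, f s ∈ commutator (autZ K) := fun f s =>
    (perfect_range (sl2_perfect (by omega) ho) f).ge.trans (commutator_mono le_top le_top) ⟨s, rfl⟩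
  refine ⟨_, _, _, _, y.hg (fun a => ?_) (fun g r a1 a2 a3 => ?_) ?_ (rG_conj ζ)⟩
  · have a1 := fact_autZ hK
    have a2 := (Nat.prime_two.pow_dvd_iff_le_factorization Nat.card_pos.ne').1 a
    rw [← fact_card_SL2 hK, e, fact_mul' (by positivity) hu.pos.ne', fact_two_odd hu,
      Nat.prime_two.factorization_pow, Finsupp.single_eq_same] at a1
    omega
  · have a4 : g * r * g⁻¹ ∈ (lG K).range := mem_range_lG fun x hx => by
      obtain ⟨s, rfl⟩ := r1 a2
      have b1 : (tauZ K (g⁻¹.1 x)).2 = 0 := by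
        rw [← fx] at hx ⊢
        have b2 : lG K (dS (-1)) * g⁻¹ = g⁻¹ * lG K (dS (-1)) := by
          rw [hz] at a1
          conv_rhs => rw [← a1]
          group
        simpa [hx] using LinearEquiv.congr_fun (congrArg Subtype.val b2) x
      have b2 : (lG K s).1 (g⁻¹.1 x) = g⁻¹.1 x := (tauZ K).injective (by
        rw [lG_apply, b1, Matrix.mul_zero, ← b1])
      change g.1 ((lG K s).1 (g⁻¹.1 x)) = x
      rw [b2]; simp
    have b1 : Syl 2 _ (lG K).range := ⟨r1, fun b => hu.not_two_dvd_nat (by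
      have := H4.card_mul_relIndex r1
      rw [y.qt.mc.card, ← Nat.card_congr (MonoidHom.ofInjective lG_inj).toEquiv, e,
        Nat.mul_right_inj (by positivity)] at this
      exact this ▸ b)⟩
    exact (b1.eq_of_le ((IsPGroup.of_card y.card).to_inf_left) (le_inf y.hg_le r1) inf_le_right).le
      ⟨a3, a4⟩
  · have := rG_conj ζ ▸ (commutator_normal ⊤ ⊤).conj_mem _ (pf (lG K) (dS ζ)) (rG K)
    simp only [sup_le_iff, zpowers_le, map_mul]
    exact ⟨⟨⟨pf _ _, this⟩, mul_mem (pf ((thZ K).comp (mK K)) _) (pf (lG K) _)⟩, pf _ _⟩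

end H20.QF
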