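/-
S3159, chunk DL: the families of simple groups without elements of order six.
-/
import Cfsg.Agent.H25.R2S
import Cfsg.Agent.H28.T3a
import Cfsg.Agent.S0811

set_option autoImplicit false
open Cfsg Subgroup
open scoped MatrixGroups
namespace H20.SX

/-- real elements of order divisible by three have order three -/
def Re3 (X : Type*) [Group X] : Prop := ∀ x g : X, g * x * g⁻¹ = x⁻¹ → 3 ∣ orderOf x → orderOf x = 3

theorem Re3.of_inj {X Y : Type*} [Group X] [Group Y] (h : Re3 Y) (f : X →* Y) (hf : Function.Injective f) : Re3 X := by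
  intro x g e d
  rw [← orderOf_injective f hf] at d ⊢
  exact h _ (f g) (by simpa using congrArg f e) d

theorem syl2 {X : Type*} [Group X] [Finite X] (S : Sylow 2 X) {a m c : ℕ} (h : c * Nat.card X = 2 ^ a * m)
    (hm : Odd m) (hc : Odd c) : Nat.card S = 2 ^ a := by
  rw [S.card_eq_multiplicity]
  congr 1
  have h0 : m ≠ 0 := by rintro rfl; simp at hm
  have h1 : c ≠ 0 := by rintro rfl; simp at hc
  have := congrArg (fun n => n.factorization 2) h
  simp only [Nat.factorization_mul h1 Nat.card_pos.ne', Nat.factorization_mul (pow_pos two_pos a).ne' h0,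
    Finsupp.add_apply, Nat.factorization_eq_zero_of_not_dvd hm.not_two_dvd_nat,
    Nat.factorization_eq_zero_of_not_dvd hc.not_two_dvd_nat, Nat.factorization_pow_self Nat.prime_two] at this
  omega

variable {F : Type} [Field F] [Fintype F]

theorem mod3 {n : ℕ} (ho : Odd n) : 2 ^ n % 3 = 2 := by
  obtain ⟨m, rfl⟩ := ho
  rw [pow_succ, pow_mul, Nat.mul_mod, Nat.pow_mod]; simp

theorem odd_sub {n : ℕ} (hn : 1 ≤ n) : Odd (2 ^ n - 1) :=
  Nat.Even.sub_odd Nat.one_le_two_pow (Nat.even_pow.2 ⟨even_two, by omega⟩) odd_one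

theorem not_re2 {n : ℕ} (hn : 3 ≤ n) (ho : Odd n) (hF : Fintype.card F = 2 ^ n) : ¬ Re3 PSL(2, F) := by
  intro h
  have h8 : 8 ≤ 2 ^ n := Nat.pow_le_pow_right two_pos hn
  have h3 := mod3 ho
  obtain ⟨H, -, ⟨e⟩⟩ := Agent.S0811.result hF (by simp; omega)
  have g : Nat.gcd 2 (2 ^ n - 1) = 1 := (Nat.coprime_two_left.2 (odd_sub (by omega)))
  rw [g, Nat.div_one] at e
  have := h.of_inj (H.subtype.comp e.symm.toMonoidHom) (H.subtype_injective.comp e.symm.injective) (.r 1) (.sr 0)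
    (by simp) (by rw [DihedralGroup.orderOf_r_one]; omega)
  rw [DihedralGroup.orderOf_r_one] at this
  omega

theorem mk_inj {ι : Type} [Fintype ι] [DecidableEq ι] [Nonempty ι]
    (h : Nat.gcd (Fintype.card ι) (Fintype.card F - 1) = 1) :
    Function.Injective (QuotientGroup.mk' (center (Matrix.SpecialLinearGroup ι F))) := by
  rw [← MonoidHom.ker_eq_bot_iff, QuotientGroup.ker_mk', ← card_eq_one, H11.card_center_sl, h]

theorem not_re2' {n : ℕ} (hn : 3 ≤ n) (ho : Odd n) (hF : Fintype.card F = 2 ^ n) : ¬ Re3 SL(2, F) := fun h =>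
  not_re2 hn ho hF (h.of_inj (MulEquiv.ofBijective (QuotientGroup.mk' (center SL(2, F)))
    ⟨mk_inj (by rw [hF]; exact Nat.coprime_two_left.2 (odd_sub (by omega))), QuotientGroup.mk'_surjective _⟩).symm.toMonoidHom
    (MulEquiv.injective _))

/-- upper block -/
def blk : SL(2, F) →* SL(3, F) :=
  MonoidHom.mk' (fun g => ⟨!![g 0 0, g 0 1, 0; g 1 0, g 1 1, 0; 0, 0, 1], by
    have := g.det_coe; rw [Matrix.det_fin_two] at this; simpa [Matrix.det_fin_three] using this⟩)
    fun a b => Subtype.ext (by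
      change _ = (_ * _ : Matrix _ _ F); ext i j; fin_cases i <;> fin_cases j <;> simp [Matrix.mul_apply, Fin.sum_univ_succ])

theorem blk_inj : Function.Injective (blk (F := F)) := fun a b h => by
  have := congrArg (fun g : SL(3, F) => g.1) h
  ext i j
  have := congrFun (congrFun this i.castSucc) j.castSucc
  fin_cases i <;> fin_cases j <;> exact this

theorem not_re3 {n : ℕ} (hn : 3 ≤ n) (ho : Odd n) (hF : Fintype.card F = 2 ^ n) : ¬ Re3 PSL(3, F) := fun h =>
  not_re2' hn ho hF (h.of_inj ((QuotientGroup.mk' (center SL(3, F))).comp blk) ((mk_inj (by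
    have := mod3 ho
    rw [hF, Fintype.card_fin]
    exact (Nat.Prime.coprime_iff_not_dvd Nat.prime_three).2 (by omega))).comp blk_inj))

section
variable {X : Type*} [Group X] [Finite X] (S : Sylow 2 X) {k : ℕ} (hS : Nat.card S = 2 ^ (2 * k + 3))
include hS

theorem dl2 (hr : Re3 X) (α : MulAut S) (h3 : α ^ 3 = 1) (h1 : α ≠ 1) (e : X ≃* PSL(2, F)) : False := by
  rcases Nat.even_or_odd (Fintype.card F) with h | h
  · obtain ⟨p, _, n, hp, hn⟩ := FiniteField.card' F
    obtain rfl : p = 2 := by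
      rw [hn] at h
      exact ((Nat.Prime.even_iff hp).1 (Nat.even_pow.1 h).1)
    have c := H11.card_psl_two (F := F)
    have n1 : 1 ≤ (n : ℕ) := n.2
    rw [hn, ← Nat.card_congr e.toEquiv, ← pow_mul] at c
    have := syl2 S c (odd_sub (by omega)) ((odd_sub n1).of_dvd_nat (Nat.gcd_dvd_right _ _))
    rw [hS] at this
    have := Nat.pow_right_injective le_rfl this
    exact not_re2 (n := n) (by omega) ⟨k + 1, by omega⟩ hn (hr.of_inj e.symm.toMonoidHom e.symm.injective)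
  · obtain ⟨j, -, ⟨d⟩⟩ := H25.psl2_dihedral (Nat.odd_iff.1 h) (S.mapSurjective (f := e.toMonoidHom) e.surjective)
    have d' : S ≃* DihedralGroup (2 ^ j) := (S.1.equivMapOfInjective e.toMonoidHom e.injective).trans d
    have c := Nat.card_congr d'.toEquiv
    rw [hS, DihedralGroup.nat_card] at c
    have h4 : 4 ≤ 2 ^ j := by
      have : 2 ^ 3 ≤ 2 ^ (2 * k + 3) := Nat.pow_le_pow_right two_pos (by omega)
      omega
    obtain ⟨m, hm⟩ := Agent.S3116.result S.2 (.inl ⟨_, h4, ⟨d'⟩⟩) α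
    exact h1 (orderOf_eq_one_iff.1 (Nat.eq_one_of_dvd_coprimes (Nat.Coprime.pow_left m (by norm_num : Nat.Coprime 2 3))
      (orderOf_dvd_of_pow_eq_one hm) (orderOf_dvd_of_pow_eq_one h3)))

theorem dl3 (hr : Re3 X) {n : ℕ} (hn : 2 ≤ n) (hF : Fintype.card F = 2 ^ n) (e : X ≃* PSL(3, F)) : False := by
  have c := H11.card_psl (ι := Fin 3) (F := F)
  have c1 := H11.card_units_mul_card_sl (ι := Fin 3) (F := F)
  rw [H11.card_gl, ← c, hF, ← Nat.card_congr e.toEquiv, ← mul_assoc] at c1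
  replace c1 : _ = ∏ i : Fin 3, ((2 ^ n) ^ 3 - (2 ^ n) ^ (i : ℕ)) := c1
  simp only [Fintype.card_fin, Fin.prod_univ_three, Fin.val_zero, Fin.val_one, Fin.val_two] at c1
  have e1 : (2 ^ n) ^ 3 - (2 ^ n) ^ 1 = 2 ^ n * (2 ^ (n * 2) - 1) := by
    rw [Nat.mul_sub, pow_mul]; congr 1 <;> ring
  have e2 : (2 ^ n) ^ 3 - (2 ^ n) ^ 2 = 2 ^ (n * 2) * (2 ^ n - 1) := by
    rw [Nat.mul_sub, pow_mul]; congr 1 <;> ring
  have := syl2 S (a := 3 * n) (m := (2 ^ (n * 3) - 1) * (2 ^ (n * 2) - 1) * (2 ^ n - 1))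
    (c1.trans (by rw [e1, e2, pow_zero, ← pow_mul]; ring))
    (((odd_sub (by omega)).mul (odd_sub (by omega))).mul (odd_sub (by omega)))
    ((odd_sub (by omega)).mul ((by decide : Odd 3).of_dvd_nat (Nat.gcd_dvd_left _ _)))
  rw [hS] at this
  have := Nat.pow_right_injective le_rfl this
  exact not_re3 (n := n) (by omega) ⟨n / 2, by omega⟩ hF (hr.of_inj e.symm.toMonoidHom e.symm.injective)

theorem dlu (h9 : ¬ 9 ∣ Nat.card X) {n : ℕ} (hn : 2 ≤ n) (hF : Fintype.card F = (2 ^ n) ^ 2)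
    (e : X ≃* PSU 3 F (2 ^ n)) : False := by
  have c := H11.card_psu hF (n := 3) (by omega)
  rw [← Nat.card_congr e.toEquiv, ← mul_assoc] at c
  simp only [Finset.prod_range_succ, Finset.range_zero, Finset.prod_empty] at c
  norm_num at c
  have o1 : ∀ j, 1 ≤ j → Odd (2 ^ j + 1) := fun j h => (Nat.even_pow.2 ⟨even_two, by omega⟩).add_one
  have := syl2 S (a := n * 3) (m := (2 ^ n + 1) * (2 ^ (n * 2) - 1) * (2 ^ (n * 3) + 1))
    (c.trans (by rw [← pow_mul, ← pow_mul]))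
    (((o1 _ (by omega)).mul (odd_sub (by omega))).mul (o1 _ (by omega)))
    (((by decide : Odd 3).of_dvd_nat (Nat.gcd_dvd_left _ _)).mul (o1 _ (by omega)))
  rw [hS] at this
  have := Nat.pow_right_injective le_rfl this
  have h3 := mod3 (n := n) ⟨n / 2, by omega⟩
  generalize 2 ^ n = q at c h3
  obtain ⟨t, rfl⟩ : ∃ t, q = 3 * t + 2 := ⟨q / 3, by omega⟩
  rw [show Nat.gcd 3 (3 * t + 2 + 1) = 3 from Nat.gcd_eq_left (by omega),
    show (3 * t + 2) ^ 2 - 1 = 3 * (t + 1) * (3 * t + 1) by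
      rw [show (3 * t + 2) ^ 2 = 3 * (t + 1) * (3 * t + 1) + 1 by ring]; rfl] at c
  apply h9
  refine ⟨(3 * t + 2) ^ 3 * (t + 1) * (3 * t + 1) * (t + 1) * (3 * t ^ 2 + 3 * t + 1), ?_⟩
  apply Nat.eq_of_mul_eq_mul_left (show 0 < 3 * (3 * t + 2 + 1) by omega)
  rw [c]; ring
end

end H20.SX
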