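/-
S3159, chunk NA: `Aut(F₄(2))` is not of characteristic 2 type.
-/
import Cfsg.Agent.H26.SX0
import Cfsg.Agent.H11.FE2

set_option autoImplicit false
open Cfsg Subgroup H19 H23.F4
open H11.TC (Ch2)
open scoped commutatorElement
namespace H20.SX
universe u

theorem na1 {Γ : Type*} [Group Γ] [Finite Γ] [IsSimpleGroup (commutator Γ)] (h : 13 ∣ #(commutator Γ)) :
    ∃ y : Γ, orderOf y = 13 ∧ ∀ P : Subgroup Γ, P.Normal → PG 2 P → ∀ p ∈ P, Commute p y := by
  obtain ⟨y, hy, o⟩ := exists_orderOf_eq_prime (by norm_num) h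
  refine ⟨y, o, fun P n p x hx => commute_of_normal_of_disjoint P _ n inferInstance ?_ x y hx hy⟩
  rcases (n.subgroupOf (commutator Γ)).eq_bot_or_eq_top with e | e
  · exact subgroupOf_eq_bot.1 e
  · have := p.elt (subgroupOf_eq_top.1 e hy) 13 (by norm_num) (o ▸ dvd_rfl)
    simp at this

theorem na2 {A : Type*} [Group A] [Finite A] [IsSimpleGroup A] (nc : ¬ IsMulCommutative A) {σ : MulAut A} (ss : σ * σ = 1)
    (s1 : σ ≠ 1) {F : Subgroup A} (hF : ∀ x, x ∈ F ↔ σ x = x)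
    (h : ∃ y : F, orderOf y = 13 ∧ ∀ P : Subgroup F, P.Normal → PG 2 P → ∀ p ∈ P, Commute p y)
    {G : Type*} [Group G] [Finite G] (ch : Ch2 G) (e : G ≃* MulAut A) : False := by
  obtain ⟨y, o, h⟩ := h
  have ci : Function.Injective (MulAut.conj (G := A)) := by
    rw [← MonoidHom.ker_eq_bot_iff]
    refine (MonoidHom.normal_ker _).eq_bot_or_eq_top.resolve_right fun t => nc ⟨⟨fun a b => ?_⟩⟩
    exact mul_inv_eq_iff_eq_mul.1 (DFunLike.congr_fun (t.ge (mem_top a)) b)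
  let ι : A →* G := e.symm.toMonoidHom.comp MulAut.conj
  have ii : Function.Injective ι := e.symm.injective.comp ci
  have cj : ∀ g a, g * ι a * g⁻¹ = ι (e g a) := fun g a => e.injective (by ext; simp [ι])
  have s2 : e.symm σ * e.symm σ = 1 := by rw [← map_mul, ss, map_one]
  have s1' : e.symm σ ≠ 1 := mt e.symm.map_eq_one_iff.1 s1
  have fx : ∀ a, ι a ∈ N(zpowers (e.symm σ)) ↔ a ∈ F := fun a => by
    rw [hF, ← ii.eq_iff, ← e.apply_symm_apply σ, ← cj, e.symm_apply_apply, mul_inv_eq_iff_eq_mul]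
    exact ⟨fun h => (mul_inv_eq_iff_eq_mul.1 ((H26.SX.zp2 s2 (conj_mem_of_norm h (mem_zpowers _))).resolve_left
      (mt conj_eq_one_iff.1 s1'))).symm, fun h => cent1_le_norm_zpowers _ (mem_cent1.2 h.symm)⟩
  set Q := Oc {2} N(zpowers (e.symm σ))
  have pQ : PG 2 Q := Oc_pi _ _
  have o' : orderOf (ι y) = 13 := by rw [orderOf_injective ι ii, orderOf_coe, o]
  have n2 : PiE {2}ᶜ (ι y) := by rw [PiE, o']; exact PiN.of_not_dvd (by decide)
  have hc : zpowers (ι y) ≤ C(Q ⊓ ι.range) := zpowers_le.2 (mem_cent.2 fun _ ⟨hq, a, ha⟩ => by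
    subst ha
    let j := ι.comp F.subtype
    exact ((h (Q.comap j) ⟨fun n hn g => by
      simpa [j] using conj_mem_of_norm (Oc_norm _ _ ((fx g).2 g.2)) hn⟩
      (pQ.dvd (card_comap_dvd_of_injective _ _ (ii.comp F.subtype_injective)))
      ⟨a, (fx a).1 (Oc_le _ _ hq)⟩ hq).map j).eq)
  have : zpowers (ι y) ≤ C(Q) := cents_of_stable ((pQ.infl _).coprime (piG_zpowers.2 n2)) hc (le_inf
    (commg_le_left (zpowers_le.2 (Oc_norm _ _ ((fx y).2 y.2)))) (commutator_le.2 fun g _ _ ⟨i, hi⟩ => by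
      rw [← hi]; dsimp only; rw [← map_zpow, commutatorElement_def, cj, ← map_inv, ← map_mul]; exact ⟨_, rfl⟩))
  have := pQ.elt (ch _ (piG_zpowers.2 ((PiN.prime_pow Nat.prime_two 1).dvd (orderOf_dvd_of_pow_eq_one (by rw [pow_one, sq, s2]))))
    (by rwa [Ne, zpowers_eq_bot]) ⟨(fx y).2 y.2, this (mem_zpowers _)⟩)
  rw [PiN.e_eq_one this n2] at o'
  simp at o'

open H11.FE H14 H14.F4 Cfsg.Lie in
theorem na : H26.SX.NA.{u} := by
  intro G _ _ ch ⟨e⟩
  have := (Cfsg.Agent.S1054.result (F := ZMod 2) chevF4 (by simp)).1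
  have h := Cfsg.Agent.S1074.result
  have := h.2.1
  obtain ⟨y, o, k⟩ := na1 (Γ := twistedF4 (ZMod 2) 1) (by rw [h.2.2.2]; decide)
  let j : T4.fix ≃* twistedF4 (ZMod 2) 1 := (T4.fix.equivMapOfInjective _ (chevF4.group (ZMod 2)).subtype_injective).trans
    (MulEquiv.subgroupCongr (isTw (e := 1) (h2 := tits_sq) fun t => (pow_one t).symm).eq)
  refine na2 dt4.nc dt4.ss (fun s => dt4.nab (by rw [← dt4.sa, s]; exact IsConj.refl _)) (F := T4.fix) (fun _ => Iff.rfl)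
    ⟨j.symm y, by rw [MulEquiv.orderOf_eq, o], fun P n p x hx => j.injective ?_⟩ ch e
  rw [map_mul, map_mul, j.apply_symm_apply]
  exact k (P.map j.toMonoidHom) (n.map _ j.surjective) (p.dvd (card_map_dvd _ _)) _ (mem_map_of_mem _ hx)

end H20.SX
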