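import Cfsg.Agent.H20.US2
import Cfsg.Agent.H20.WU2
import Cfsg.Agent.H4.US1
import Cfsg.Agent.H12.D5d

/-! S5810 part 4: the endgame (chunk FN). -/

set_option autoImplicit false
set_option linter.unusedSectionVars false

namespace H20.US
open H4.US Module Matrix Cfsg.Geo H27.Asch H20.WL H12.D5 H11.T5 Finset

universe u

variable {F K : Type u} [Field F] [Fintype F] [Field K] [Fintype K] [Algebra F K] {q : ℕ} {J : Subgroup (K ≃ₗ[F] K)}

/-- the transvection with the given data lies in `J` -/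
def TT (q : ℕ) (J : Subgroup (K ≃ₗ[F] K)) (e : K) (l : F) : Prop := ∃ t ∈ J, ∀ x, t x = x + (l * fm F q x e) • e

theorem TT.conj (hy : Hy q J) {e : K} {l : F} (h : TT q J e l) {g : K ≃ₗ[F] K} (hg : g ∈ J) : TT q J (g e) l := by
  obtain ⟨t, ht, h⟩ := h
  refine ⟨g * t * g⁻¹, mul_mem (mul_mem hg ht) (inv_mem hg), fun x => ?_⟩
  obtain ⟨y, rfl⟩ := g.surjective x
  rw [hy.iso g hg]
  simp [h]

section fd
variable (fd : Fd F K q)
include fd

theorem fm_l (c : F) (x y : K) : fm F q (c • x) y = c * fm F q x y := by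
  rw [← fd.fl_apply, map_smul]; rfl

theorem fm_r (c : F) (x y : K) : fm F q x (c • y) = c ^ q * fm F q x y := by
  rw [← fd.fl_apply, LinearMap.map_smulₛₗ]; rfl

theorem TT.smul {e : K} {l : F} (c : F) : TT q J (c • e) l ↔ TT q J e (c * c ^ q * l) := by
  simp only [TT, fm_r fd, smul_smul]
  exact exists_congr fun t => and_congr_right fun _ => forall_congr' fun x => by rw [iff_eq_eq]; congr 3; ring

theorem skew {t : K ≃ₗ[F] K} (h : Iso F q t) {e : K} {l : F} (e0 : e ≠ 0) (he : fm F q e e = 0)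
    (ht : ∀ x, t x = x + (l * fm F q x e) • e) : l ^ q = -l := by
  obtain ⟨y, hy⟩ := fd.fm_sur e0 1
  have hy' : fm F q y e = 1 := by rw [fd.fm_sy, hy, map_one]
  have := h y y
  rw [ht, hy', mul_one, ← fd.fl_apply, map_add, map_add, LinearMap.add_apply, LinearMap.add_apply] at this
  simp only [fd.fl_apply, fm_l fd, fm_r fd, hy, hy', he] at this
  linear_combination this

theorem tr_real {c : Kˣ} (h : c ^ cc q = 1)
    (ht : ∀ j : ℤ, Algebra.trace F K (c ^ j : Kˣ) = Algebra.trace F K (c ^ (-j) : Kˣ)) : c = 1 := by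
  have co := (ar q (q2 fd)).2.2.2.2.2.2.2.1 2 two_pos (by norm_num)
  have k1 : ∀ {n}, 0 < n → (cc q).Coprime (n - 1) → c ^ n = c → c = 1 := fun n0 a b =>
    (pow_eq_one_iff_of_coprime a).1 ⟨h, by rw [← mul_left_inj c, ← pow_succ, Nat.sub_add_cancel n0, one_mul, b]⟩
  have k : ((c : K) + (c⁻¹ : Kˣ)) ^ q ^ 2 ≠ c + (c⁻¹ : Kˣ) ∨ c = 1 := or_iff_not_imp_left.2 fun z => by
    refine k1 (by have := q2 fd; positivity) co ?_
    have e : (fd.fr 2 c - c) * (fd.fr 2 c - (c⁻¹ : Kˣ)) = 0 := by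
      have := not_not.1 z
      rw [← fd.fr_apply, map_add] at this
      have a : fd.fr 2 c * fd.fr 2 (c⁻¹ : Kˣ) = 1 := by rw [← map_mul, Units.mul_inv, map_one]
      linear_combination fd.fr 2 c * this + c.mul_inv - a
    rw [sq, pow_mul]
    rcases mul_eq_zero.1 e with e | e <;> rw [sub_eq_zero, fd.fr_apply, ← Units.val_pow_eq_pow_val, Units.val_inj] at e
    · rw [e, e]
    · rw [e, inv_pow, e, inv_inv]
  refine k.resolve_left fun k => ?_
  let S : Subalgebra F K :=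
    { carrier := {d | ∀ x, (∀ j : ℤ, Algebra.trace F K (x * ((c ^ j : Kˣ) - (c ^ (-j) : Kˣ))) = 0) →
        ∀ j : ℤ, Algebra.trace F K (d * x * ((c ^ j : Kˣ) - (c ^ (-j) : Kˣ))) = 0}
      mul_mem' := fun {a b} ha hb x hx => by rw [mul_assoc]; exact ha _ (hb _ hx)
      add_mem' := fun {a b} ha hb x hx j => by rw [add_mul, add_mul, map_add, ha _ hx, hb _ hx, add_zero]
      algebraMap_mem' := fun s x hx j => by rw [mul_assoc, ← Algebra.smul_def, map_smul, hx, smul_zero] }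
  have := fun d => gen fd S (d := c + (c⁻¹ : Kˣ)) (fun x hx j => by
    rw [← add_zero 0, ← congrArg₂ (· + ·) (hx (j + 1)) (hx (j - 1)), ← map_add]
    congr 1
    simp only [neg_add, neg_neg, sub_eq_add_neg j, _root_.zpow_add, _root_.zpow_neg c 1, zpow_one, Units.val_mul]
    ring) k d 1 (fun j => by rw [one_mul, map_sub, ht, sub_self]) 1
  have e : ((c ^ (1 : ℤ) : Kˣ) : K) - (c ^ (-1 : ℤ) : Kˣ) = 0 := by_contra fun n => by
    obtain ⟨z, hz⟩ := Algebra.trace_surjective F K 1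
    have := this (z / ((c ^ (1 : ℤ) : Kˣ) - (c ^ (-1 : ℤ) : Kˣ)))
    rw [mul_one, div_mul_cancel₀ _ n, hz] at this
    exact one_ne_zero this
  rw [sub_eq_zero, Units.val_inj, zpow_one, _root_.zpow_neg, zpow_one] at e
  have : c = 1 := (pow_eq_one_iff_of_coprime (ar q (q2 fd)).2.2.2.2.1.coprime_two_right).1
    ⟨h, by rw [sq]; exact mul_eq_one_iff_eq_inv.2 e⟩
  simp [this, ← fd.fr_apply] at k

theorem cnt1 {e : K} (hy : Hy q J) (e0 : e ≠ 0) (he : fm F q e e = 0)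
    (h : {y : K | y ≠ 0 ∧ fm F q y y = 0}.ncard ≤ 7 * (H4.US.orb J e).ncard) :
    q ^ 2 - 1 ≤ 7 * {c : F | c ≠ 0 ∧ c • e ∈ H4.US.orb J e}.ncard := by
  classical
  have := card_le_mul_card_image_of_maps_to (f := fun a : F × K => a.1 • a.2)
    (s := (univ.erase 0) ×ˢ (H4.US.orb J e).toFinset) (t := {y : K | y ≠ 0 ∧ fm F q y y = 0}.toFinset) (by
      simp only [mem_product, mem_erase, Set.mem_toFinset]
      rintro ⟨c, _⟩ ⟨⟨c0, -⟩, g, hg, rfl⟩
      exact ⟨smul_ne_zero c0 (by simpa using e0), by rw [fm_l fd, fm_r fd, hy.iso g hg, he, mul_zero, mul_zero]⟩)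
    {c : F | c ≠ 0 ∧ c • e ∈ H4.US.orb J e}.ncard fun b _ => by
      rcases eq_empty_or_nonempty {a ∈ (univ.erase 0) ×ˢ (H4.US.orb J e).toFinset | (fun a : F × K => a.1 • a.2) a = b}
        with z | ⟨⟨c, x⟩, z⟩
      · simp [z]
      simp only [mem_filter, mem_product, mem_erase, Set.mem_toFinset] at z
      obtain ⟨⟨⟨c0, -⟩, g, hg, rfl⟩, rfl⟩ := z
      rw [Set.ncard_eq_toFinset_card']
      refine card_le_card_of_injOn (fun a => c / a.1) ?_ ?_
      · simp only [Set.MapsTo, coe_filter, mem_product, mem_erase, Set.mem_toFinset, Set.mem_ofPred_eq, Set.coe_toFinset]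
        rintro ⟨d, _⟩ ⟨⟨⟨d0, -⟩, g', hg', rfl⟩, z⟩
        refine ⟨div_ne_zero c0 d0, g⁻¹ * g', mul_mem (inv_mem hg) hg', g.injective ?_⟩
        simp only at z
        rw [map_smul, div_eq_inv_mul, mul_smul, ← z, inv_smul_smul₀ d0]; simp
      · simp only [Set.InjOn, coe_filter, mem_product, mem_erase, Set.mem_toFinset, Set.mem_ofPred_eq]
        rintro ⟨d, x⟩ ⟨⟨⟨d0, -⟩, -⟩, z⟩ ⟨d', x'⟩ ⟨-, z'⟩ e
        obtain rfl : d = d' := by simpa [div_eq_mul_inv, c0] using e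
        exact Prod.ext rfl (smul_right_injective _ d0 (z.trans z'.symm))
  rw [card_product, card_erase_of_mem (mem_univ _), card_univ, fd.hF, ← Set.ncard_eq_toFinset_card',
    ← Set.ncard_eq_toFinset_card'] at this
  have o0 : 0 < (H4.US.orb J e).ncard := (Set.ncard_pos (Set.toFinite _)).2 ⟨e, 1, one_mem _, rfl⟩
  exact Nat.le_of_mul_le_mul_right (this.trans ((Nat.mul_le_mul_left _ h).trans_eq (by ring))) o0

theorem cnt2 {A : Set F} {K0 : Subfield F} (h7 : 7 ∣ q + 1) (h : ∀ c ∈ A, c ≠ 0 ∧ c * c ^ q ∈ K0)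
    (hA : q ^ 2 - 1 ≤ 7 * A.ncard) (hk : ∀ x ∈ K0, x ^ q = x) : Nat.card K0 = q := by
  classical
  have h1 := card_le_mul_card_image_of_maps_to (f := fun c : F => c * c ^ q) (s := A.toFinset)
    (t := (K0 : Set F).toFinset.erase 0) (fun c hc => by
      have := h c (Set.mem_toFinset.1 hc)
      simpa [this.1] using this.2) (q + 1) fun b _ =>
      (card_le_card (t := (Polynomial.nthRoots (q + 1) b).toFinset) fun c hc => by
        simpa [pow_succ'] using (mem_filter.1 hc).2).trans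
        ((Multiset.toFinset_card_le _).trans (Polynomial.card_nthRoots _ _))
  rw [card_erase_of_mem (by simp), ← Set.ncard_eq_toFinset_card', ← Set.ncard_eq_toFinset_card', ← Nat.card_coe_set_eq (K0 : Set F)] at h1
  obtain ⟨m, m0, hm⟩ := H27.subfield_card_pow_of_le (F₀ := K0) (F₁ := fd.sg.eqLocusField (RingHom.id F)) hk
  have e : Nat.card (fd.sg.eqLocusField (RingHom.id F)) = q := fd.card_k
  have s2 := H27.two_le_card_subfield K0
  have q2 := q2 fd
  change _ ≤ (q + 1) * (Nat.card K0 - 1) at h1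
  generalize Nat.card K0 = s at *
  have h2 : q - 1 ≤ 7 * (s - 1) := Nat.le_of_mul_le_mul_left (c := q + 1) (by
    rw [← one_pow 2, Nat.sq_sub_sq] at hA; nlinarith) q.succ_pos
  rw [e] at hm
  by_contra n
  have m2 : 2 ≤ m := by by_contra! z; exact n (by rw [hm, show m = 1 by omega, pow_one])
  have h3 := Nat.pow_le_pow_right (n := s) (by omega) m2
  have s6 : s ≤ 6 := by
    obtain ⟨r, rfl⟩ : ∃ r, s = r + 1 := ⟨s - 1, by omega⟩
    rw [← hm] at h3
    by_contra! z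
    simp only [add_tsub_cancel_right] at h2
    have : q ≤ 7 * r + 1 := by omega
    nlinarith
  have m6 : m < 6 := (Nat.pow_lt_pow_iff_right (a := 2) one_lt_two).1 ((Nat.pow_le_pow_left s2 m).trans_lt (by omega))
  subst hm
  interval_cases s <;> interval_cases m <;> omega

variable (hy : Hy q J) {n : ℕ} (em : K ≃ₗ[F] (Fin n → F))
include hy

theorem nrm {N : Subgroup (GL (Fin n) F)} (h : N ≤ J.map (Θ em).toMonoidHom) (hn : Nm (J.map (Θ em).toMonoidHom) N) :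
    N ≤ scalars _ F ∨ ∃ c : Kˣ, c ≠ 1 ∧ c ^ cc q = 1 ∧ Θ em (ml F c) ∈ N := by
  by_cases k : ∀ c : Kˣ, ml F c ∈ N.comap (Θ em).toMonoidHom → c ^ (q + 1) = 1
  · refine .inl fun y hy' => ?_
    obtain ⟨y, rfl⟩ := (Θ em).surjective y
    obtain ⟨c, hc⟩ := grc fd hy (N.comap (Θ em).toMonoidHom) (fun g hg y hy => by
      rw [Subgroup.mem_comap, map_mul, map_mul, map_inv]; exact hn _ ⟨g, hg, rfl⟩ _ hy) k y hy'
    exact ((Θ_sc em (c := Units.mk0 c fun z => by simpa [z] using hc 1)).2 hc) ▸ sc_mem _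
  push Not at k
  obtain ⟨c, h1, h2⟩ := k
  obtain ⟨g, hg, e⟩ := h h1
  refine .inr ⟨_, h2, ?_, by rw [map_pow, map_pow]; exact pow_mem (show Θ em _ ∈ N from h1) _⟩
  rw [← pow_mul, mul_comm, (ar q (q2 fd)).2.1]
  exact (hy.tor c).1 ((Θ em).injective e ▸ hg)

theorem na : NA (J.map (Θ em).toMonoidHom) := fun N h hn => (nrm fd hy em h hn).imp_right fun ⟨c, c1, h1, hc⟩ => by
  have k := notF fd h1 c1
  have : Nonempty (Fin n) := by_contra fun z => by
    rw [not_nonempty_iff] at z; exact one_ne_zero (em.injective (Subsingleton.elim (em 1) (em 0)))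
  refine alg_eq_top_of (irr_of fd em k hc) fun a ha => ?_
  let j : K →ₗ[F] K := em.symm.toLinearMap ∘ₗ toLin' a ∘ₗ em.toLinearMap
  have hj : ∀ x, a *ᵥ em x = em (j x) := fun x => (em.apply_symm_apply _).symm
  have cm : ∀ g, Θ em g ∈ N → ∀ x, j (g x) = g (j x) := fun g hg x => em.injective (by
    rw [← hj, ← Θ_mulVec, ← Θ_mulVec, ← hj, mulVec_mulVec, mulVec_mulVec, ha _ hg])
  have e := mu_of_comm fd k (cm _ hc)
  by_cases b : j 1 ^ q ^ 2 = j 1
  · obtain ⟨s, hs⟩ := (memF fd).1 b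
    exact ⟨em 1, s, by simp, by rw [hj, ← hs, ← map_smul, Algebra.algebraMap_eq_smul_one]⟩
  obtain ⟨g, hg, m⟩ := hy.big
  have := hn _ ⟨g, hg, rfl⟩ _ hc
  rw [← map_inv, MulEquiv.coe_toMonoidHom, ← map_mul, ← map_mul] at this
  have e2 := mu_of_comm fd (j := (g * ml F c * g⁻¹).toLinearMap) b fun x => by
    rw [← e, ← e]; exact (cm _ this x).symm
  exact absurd (mon_of fd g c _ k fun x => by simpa [ml_apply] using e2 (g x)) m
end fd

theorem fn : FN.{u} := fun F K _ _ _ _ _ q J fd hy ⟨t0, h0, e0, l0, e00, l00, i0, ht0⟩ hO t ht ⟨e, l, e1, l1, i1, hl⟩ => by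
  have sk0 := skew fd (hy.iso _ h0) e00 i0 ht0
  have T0 : TT q J e0 l0 := ⟨t0, h0, ht0⟩
  replace hO := hO e0 e00 i0
  rcases (ar q (q2 fd)).2.2.2.2.2.1 with g | g <;> rw [g] at hO
  · have := Set.eq_of_subset_of_ncard_le (s := H4.US.orb J e0) (t := {y : K | y ≠ 0 ∧ fm F q y y = 0})
      (by rintro _ ⟨g, hg, rfl⟩; exact ⟨by simpa using e00, by rw [hy.iso g hg, i0]⟩) (by simpa using hO)
    obtain ⟨c, hc⟩ := H11.exists_norm_eq fd.hF (c := l / l0) (by rw [div_pow, sk0, skew fd ht e1 i1 hl, neg_div_neg_eq])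
    obtain ⟨g, hg, h⟩ := this.ge (show c • e ∈ _ from ⟨smul_ne_zero (fun z => div_ne_zero l1 l00 (by simp [← hc, z])) e1,
      by rw [fm_l fd, fm_r fd, i1, mul_zero, mul_zero]⟩)
    obtain ⟨s, hs, h⟩ := (TT.smul fd c).1 (h ▸ T0.conj hy hg)
    rw [hc, div_mul_cancel₀ _ l00] at h
    exact (LinearEquiv.ext fun x => (h x).trans (hl x).symm : s = t) ▸ hs
  obtain ⟨em, hm⟩ := fd.md
  have hd : ∀ x y, (fun i => H11.frob fd.hF (em y i)) ⬝ᵥ em x = fm F q x y := fun x y => by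
    rw [← hm, dotProduct_comm]; rfl
  have br : ∀ {t : K ≃ₗ[F] K} {e l}, (Θ em t).val = 1 - vecMulVec (em e) ((-l) • fun i => H11.frob fd.hF (em e i)) ↔
      ∀ x, t x = x + (l * fm F q x e) • e := fun {t e l} => by
    have : ∀ x, (1 - vecMulVec (em e) ((-l) • fun i => H11.frob fd.hF (em e i))) *ᵥ em x =
        em (x + (l * fm F q x e) • e) := fun x => by
      rw [ro_mulVec, smul_dotProduct, hd]; simp
    exact ⟨fun h x => em.injective (by rw [← Θ_mulVec, h, this]), fun h => ext_mulVec fun v => by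
      obtain ⟨x, rfl⟩ := em.surjective v
      rw [Θ_mulVec, this, h]⟩
  have gu : ∀ {t : K ≃ₗ[F] K}, Iso F q t → Θ em t ∈ Cfsg.GU 7 F q := fun h u v => by
    obtain ⟨x, rfl⟩ := em.surjective u
    obtain ⟨y, rfl⟩ := em.surjective v
    simp only [Units.coeHom_apply, Θ_mulVec, hm, h x y]
  obtain ⟨G, hG⟩ : ∃ G, G = J.map (Θ em).toMonoidHom := ⟨_, rfl⟩
  have hU : ∀ {v φ}, Rk (-1) G v φ → ∃ g ∈ Cfsg.GU 7 F q, g.val = 1 - vecMulVec v φ := fun ⟨_, g, hg, e⟩ => by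
    obtain ⟨s, hs, rfl⟩ := hG ▸ hg
    exact ⟨_, gu (hy.iso s hs), e⟩
  have rk : ∀ {l}, TT q J e0 l → Rk (-1) G (em e0) ((-l) • fun i => H11.frob fd.hF (em e0 i)) := fun ⟨t, a, b⟩ =>
    tv_mk (by rw [smul_dotProduct, hd, i0, smul_zero]) (hG ▸ ⟨t, a, rfl⟩) (br.2 b)
  have v0 : em e0 ≠ 0 := by simpa using e00
  have f0 : ((-l0) • fun i => H11.frob fd.hF (em e0 i)) ≠ 0 := smul_ne_zero (neg_ne_zero.2 l00) fun z => v0 (by
    ext i; simpa [-H11.frob_apply] using congrFun z i)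
  have na : NA G := hG ▸ na fd hy em
  obtain ⟨K0, ok, -⟩ := na.oneK (by simp) (rk T0) v0 f0
  have h7 : 7 ∣ q + 1 := g ▸ Nat.gcd_dvd_right 7 (q + 1)
  have hk : ∀ x ∈ K0, x ^ q = x := fun x hx => by
    by_cases x0 : x = 0
    · rw [x0, zero_pow (by have := q2 fd; omega)]
    have r := (ok (rk T0) v0 f0 x).2 hx
    obtain ⟨g, hg, e⟩ := hU r
    obtain ⟨c, c1, -, e⟩ := gu_tv fd.hF hg e r.dot0 v0 (smul_ne_zero x0 f0)
    rw [smul_smul] at e
    obtain rfl := smul_left_injective F (right_ne_zero_of_smul f0) e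
    rw [map_mul, map_neg, H11.frob_apply, H11.frob_apply, sk0] at c1
    exact mul_right_cancel₀ l00 (by linear_combination c1)
  have cK0 := cnt2 fd h7 (K0 := K0) (A := {c : F | c ≠ 0 ∧ c • e0 ∈ H4.US.orb J e0}) (fun c ⟨c0, g, hg, e⟩ => ⟨c0, (ok (rk T0) v0 f0 _).1 (by
    rw [smul_smul, mul_neg]; exact rk ((TT.smul fd c).1 (e ▸ T0.conj hy hg)))⟩) (cnt1 fd hy e00 i0 hO) hk
  have hK : ∀ x, H11.frob fd.hF x = x ↔ x ∈ K0 := fun x => by rw [H27.mem_subfield_iff_pow, cK0, H11.frob_apply]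
  have sy : Sy (-1) G := fun v φ w ψ a b h1 h2 h => by
    by_cases z : v = 0 ∨ ψ = 0
    · rcases z with z | z <;> simp [z]
    push Not at z
    obtain ⟨g, hg, e⟩ := hU a
    obtain ⟨c, -, c0, rfl⟩ := gu_tv fd.hF hg e a.dot0 z.1 h1
    obtain ⟨g, hg, e⟩ := hU b
    obtain ⟨d, -, -, rfl⟩ := gu_tv fd.hF hg e b.dot0 h2 z.2
    obtain ⟨x, rfl⟩ := em.surjective v
    obtain ⟨y, rfl⟩ := em.surjective w
    rw [smul_dotProduct, hd, smul_eq_zero, or_iff_right c0] at h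
    rw [smul_dotProduct, hd, fd.fm_sy, h, map_zero, smul_zero]
  obtain ⟨v, φ, w, ψ, u, χ, a, b, c, n⟩ : ∃ v φ w ψ u χ, Rk (-1) G v φ ∧ Rk (-1) G w ψ ∧ Rk (-1) G u χ ∧
      φ ⬝ᵥ w * ψ ⬝ᵥ u * χ ⬝ᵥ v + φ ⬝ᵥ u * χ ⬝ᵥ w * ψ ⬝ᵥ v ≠ 0 := by
    by_contra! h
    have t := cyc neg_one_sq' (RingHom.id F) rfl sy (fun _ _ _ _ _ _ => rfl)
      fun _ _ _ _ _ _ a b c => by rw [RingHom.id_apply]; linear_combination h _ _ _ _ _ _ a b c
    obtain ⟨x, -, e⟩ := (rk T0).2
    obtain ⟨c, c1, h1, hc⟩ := (nrm fd hy em (N := H12.D5.gen (Rk (-1) G)) (hG ▸ gen_le (G := G) fun _ _ a => a)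
      (hG ▸ gen_nm (G := G) fun _ _ a _ hg => Rk.conj a hg)).resolve_left fun z =>
      not_scalar (by simp) e v0 f0 (z (Subgroup.subset_closure ⟨_, _, rk T0, e⟩))
    have tr : ∀ c : Kˣ, (Θ em (ml F c)).val.trace = Algebra.trace F K c := fun c => by
      rw [← trace_toLin'_eq, Algebra.trace_apply, ← LinearMap.trace_conj' _ em]
      congr 1
      refine LinearMap.ext fun v => ?_
      obtain ⟨x, rfl⟩ := em.surjective v
      simp [Θ_mulVec, ml_apply]
    refine c1 (tr_real fd h1 fun j => ?_)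
    have := t _ (zpow_mem hc j)
    rw [← map_zpow, ← map_zpow, ← map_inv, ← map_inv, tr, tr, ← _root_.zpow_neg] at this
    exact this.symm
  obtain ⟨s, hs, e⟩ := hG ▸ H20.WU.uniG fd.hF (by norm_num) (na.cl_all (by simp) neg_one_sq' (rk T0) v0 f0) ok hK (by
    by_contra! z
    have := Set.ncard_le_ncard (s := (K0 : Set F)) (t := {0, 1}) fun c hc => or_iff_not_imp_left.2 (z c hc)
    rw [← Nat.card_coe_set_eq, Set.ncard_pair zero_ne_one] at this
    have := cK0.ge.trans this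
    omega) hU a b c n ⟨gu ht, mem_SL.2 (by rw [br.2 hl, det_ro, smul_dotProduct, hd, i1]; simp)⟩
  exact (Θ em).injective e ▸ hs

end H20.US
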