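import Cfsg.Agent.H20.US4

/-! S5810 part 4: Gauss sums of invariant functions (chunk DD). -/

set_option autoImplicit false
set_option linter.unusedSectionVars false
set_option linter.style.haveILetI false

namespace H20.US
open H4.US Module Finset

universe u

variable {F K : Type u} [Field F] [Fintype F] [Field K] [Fintype K] [Algebra F K] {q : ℕ}

theorem card_cm {G H : Type*} [Group G] [Group H] [Finite G] {f : G →* H} (hf : Function.Surjective f) (X : Subgroup H) :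
    Nat.card (X.comap f) = Nat.card X * Nat.card f.ker := by
  have := Finite.of_surjective f hf
  refine Nat.eq_of_mul_eq_mul_right (Nat.pos_of_ne_zero (Subgroup.index_ne_zero_of_finite (H := X))) ?_
  conv_lhs => rw [← X.index_comap_of_surjective hf, Subgroup.card_mul_index, ← f.ker.card_mul_index, Subgroup.index_ker,
    MonoidHom.range_eq_top.2 hf, Subgroup.card_top, ← X.card_mul_index]
  ring

theorem ml_inj : Function.Injective (ml F : Kˣ → K ≃ₗ[F] K) := fun a b h =>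
  Units.ext (by simpa [ml_apply] using DFunLike.congr_fun h 1)

theorem cj_ml {g : K ≃ₗ[F] K} {a : K} {n : ℕ} (h : ∀ x, g x = a * x ^ n) (c : Kˣ) : g * ml F c * g⁻¹ = ml F (c ^ n) :=
  mul_inv_eq_of_eq_mul (LinearEquiv.ext fun x => by
    simp only [LinearEquiv.mul_apply, ml_apply, h, mul_pow, Units.val_pow_eq_pow_val, mul_left_comm])

theorem ml_fix {t : Kˣ} (h : t ≠ 1) (v : K) (e : ml F t v = v) : v = 0 :=
  by_contra fun n => h (Units.ext ((mul_eq_right₀ n).1 e))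

/-- the cocycle -/
noncomputable def bb (q : ℕ) (ψ : AddChar F ℂ) (κ : F) (x y : K) : ℂ := ψ (κ * fm F q x y + (κ * fm F q x y) ^ q)

section fd
variable (fd : Fd F K q)
include fd

theorem sum_eq (ψ : AddChar F ℂ) (Φ : K → ℂ) {κ : F} (hκ : κ ^ q ≠ κ) {γ : K} (hγ : Ek q γ) :
    ∃ t : Kˣ, ((t ^ cc q : Kˣ) : K) = ((γ + algebraMap F K κ) ^ NN q)⁻¹ ∧ (t : K) ^ q ^ 2 ≠ t ∧
      ∑ v, Φ (v - t * v) * bb q ψ κ (v - t * v) (t * v) = Gs q ψ Φ γ := by
  have nF : ∀ s : F, algebraMap F K s ≠ γ := fun s e => fd.Ek_F hγ ((memF fd).2 ⟨s, e⟩)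
  have w0 : ∀ s : F, γ + algebraMap F K s ≠ 0 := fun s e => nF (-s) (by rw [map_neg]; linear_combination -e)
  have bγ : fd.br γ = γ := hγ.1
  have d0 : algebraMap F K κ - algebraMap F K (fd.sg κ) ≠ 0 := sub_ne_zero.2 fun e => hκ ((algebraMap F K).injective e).symm
  obtain ⟨t, ht⟩ : ∃ t : Kˣ, (t : K) = (γ + algebraMap F K κ) / (γ + algebraMap F K (fd.sg κ)) :=
    ⟨Units.mk0 _ (div_ne_zero (w0 _) (w0 _)), rfl⟩
  have t1 : 1 - (t : K) ≠ 0 := fun e => d0 (by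
    rw [ht, sub_eq_zero, eq_div_iff (w0 _)] at e; linear_combination -e)
  refine ⟨t, ?_, fun e => ?_, ?_⟩
  · rw [Units.val_pow_eq_pow_val, ht, ← fd.br_alg, ← bγ, ← map_add, bγ, H11.frob_apply, NN, pow_mul, ← inv_pow,
      pow_sub₀ _ (w0 _) (Nat.one_le_pow _ _ (by have := q2 fd; omega)), pow_one, mul_inv_rev, inv_inv, div_eq_mul_inv]
  · obtain ⟨s, hs⟩ := (memF fd).1 e
    rw [← hs] at t1
    rw [ht, eq_div_iff (w0 _)] at hs
    refine nF ((s * fd.sg κ - κ) / (1 - s)) ?_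
    rw [map_div₀, map_sub, map_sub, map_one, div_eq_iff t1, map_mul]
    linear_combination hs
  refine Fintype.sum_bijective _ (mulLeft_bijective₀ _ t1) _ _ fun v => ?_
  rw [show v - t * v = (1 - t) * v by ring]
  congr 1
  rw [bb, ← H11.frob_apply fd.hF, fd.fm_eq, ← smul_eq_mul, ← map_smul, ← fd.tr_br, ← map_add, pow_succ,
    ← H11.frob_apply fd.cK', Algebra.smul_def]
  congr 2
  have := w0 κ
  have := w0 (fd.sg κ)
  simp only [map_mul, map_sub, map_one, ht, map_div₀, map_add, bγ, fd.br_alg, fd.sg_sg, fd.br_br]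
  field_simp
  ring

theorem split {t : Kˣ} (h : t ^ mm q = 1) {u v : ℤ} (e : u * cc q + v * (q + 1 : ℕ) = 1) :
    (t ^ (u * cc q)) ^ (q + 1) = 1 ∧ (t ^ (v * (q + 1 : ℕ))) ^ cc q = 1 ∧ t ^ (u * cc q) * t ^ (v * (q + 1 : ℕ)) = t := by
  have h5 : ∀ w : ℤ, t ^ (w * (cc q * (q + 1 : ℕ))) = 1 := fun w => by
    rw [← Nat.cast_mul, (ar q (q2 fd)).2.1, mul_comm, zpow_mul, zpow_natCast, h, one_zpow]
  exact ⟨by rw [← zpow_natCast, ← zpow_mul, mul_assoc, h5],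
    by rw [← zpow_natCast, ← zpow_mul, mul_assoc, mul_comm _ (cc q : ℤ), h5], by rw [← zpow_add, e, zpow_one]⟩
end fd

theorem dd (wr : WR.{u}) (ex : EX.{u}) : DD.{u} := by
  intro F K _ _ _ _ _ q J ψ Φ fd hy ⟨a0, a1, a2⟩ hΦ κ γ γ' hκ hγ hγ' e1 e2
  haveI : Finite (K ≃ₗ[F] K) := Finite.of_injective _ DFunLike.coe_injective
  obtain ⟨r1, r2, r3, r4, r5, r6, ⟨t, r7, r8⟩, r9, -⟩ := ar q (q2 fd)
  obtain ⟨n, Γ, _, _, π, ρ, hn, sur, hk, w1, hA⟩ := wr K (bb q ψ κ) J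
    (fun x y z => by
      rw [bb, bb, bb, ← ψ.map_add_eq_mul, ← fd.fl_apply, fd.fl.map_add, LinearMap.add_apply, mul_add]
      simp only [← H11.frob_apply fd.hF, map_add, fd.fl_apply]; congr 1; ring)
    (fun x y z => by
      rw [bb, bb, bb, ← ψ.map_add_eq_mul, ← fd.fl_apply, (fd.fl x).map_add, mul_add]
      simp only [← H11.frob_apply fd.hF, map_add, fd.fl_apply]; congr 1; ring)
    (fun x y => (ψ.val_isUnit _).ne_zero)
    (fun x x0 => by
      obtain ⟨y, hy⟩ := fd.fm_sur x0 (a0 * κ / (κ - fd.sg κ) ^ 2)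
      refine ⟨y, fun e => a2 (mul_right_cancel₀ (ψ.val_isUnit _).ne_zero (.trans ?_ (e.trans (one_mul _).symm)))⟩
      have d : κ - fd.sg κ ≠ 0 := sub_ne_zero.2 hκ.symm
      have d' : fd.sg κ - κ ≠ 0 := sub_ne_zero.2 hκ
      rw [← ψ.map_add_eq_mul, bb, fd.fm_sy x y, hy]
      simp only [← H11.frob_apply fd.hF, map_mul, map_div₀, map_pow, map_sub, fd.sg_sg, show fd.sg a0 = a0 from a1]
      congr 1
      field_simp
      ring)
    fun g x y => by rw [bb, bb]; exact congrArg (fun s => ψ (κ * s + (κ * s) ^ q)) (hy.iso g g.2 x y)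
  obtain rfl : n = q ^ 7 := Nat.pow_left_injective two_ne_zero (hn.trans fd.cK')
  have L : ∀ {a b : Γ} (m : ℕ), m.Coprime q → π a = π b → a ^ m = b ^ m → a = b := fun {a b} m hm h e => by
    obtain ⟨h1, h2, -⟩ := hk (a * b⁻¹) (by rw [map_mul, map_inv, h, mul_inv_cancel])
    refine mul_inv_eq_one.1 ((pow_eq_one_iff_of_coprime (hm.pow_right 7)).1 ⟨?_, h1⟩)
    have : Commute (a * b⁻¹) b := (Subgroup.mem_center_iff.1 h2 b).symm
    rw [← mul_left_inj (b ^ m), ← this.mul_pow, inv_mul_cancel_right, one_mul, e]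
  let p : Γ →* (K ≃ₗ[F] K) := J.subtype.comp π
  have pe : ∀ {a b}, p a = p b → π a = π b := Subtype.ext
  have lift : ∀ g ∈ J, ∃ x, p x = g := fun g hg => let ⟨x, h⟩ := sur ⟨g, hg⟩; ⟨x, congrArg Subtype.val h⟩
  obtain ⟨⟨c1, hc1⟩, gc⟩ := IsCyclic.exists_generator (α := (powMonoidHom (cc q) : Kˣ →* Kˣ).ker)
  have oc1 : orderOf c1 = cc q := (Subgroup.orderOf_mk _ hc1).symm.trans ((orderOf_eq_card_of_forall_mem_zpowers gc).trans
    (H11.card_pow_eq_one_units K ((cc_dvd fd).trans (mm_dvd fd))))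
  obtain ⟨c, pc, hc⟩ : ∃ c, p c = ml F c1 ∧ c ^ cc q = 1 := by
    obtain ⟨c, pc⟩ := lift _ ((hy.tor c1).2 (pow_mm fd hc1))
    obtain ⟨u, v, h⟩ := Nat.isCoprime_iff_coprime.2 (r4.pow_right 7)
    refine ⟨c ^ (v * (q ^ 7 : ℕ)), ?_, ?_⟩
    · rw [map_zpow, pc, ← map_zpow, eq_sub_iff_add_eq'.2 h, zpow_sub, mul_comm u, zpow_mul, zpow_natCast,
        show c1 ^ cc q = 1 from hc1]; simp
    · rw [← zpow_natCast, ← zpow_mul, mul_comm v, mul_assoc, mul_comm v, ← mul_assoc, zpow_mul, ← Nat.cast_mul,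
        zpow_natCast, mul_comm, pow_mul, (hk _ (pe (b := 1) (by
          rw [map_pow, pc, ← map_pow, show c1 ^ cc q = 1 from hc1, map_one, map_one]) |>.trans (map_one π))).1, one_zpow]
  have zc : ∀ {a}, a ∈ Subgroup.zpowers c → a ^ cc q = 1 ∧ ∃ d : Kˣ, d ^ cc q = 1 ∧ p a = ml F d := by
    rintro _ ⟨k, rfl⟩
    refine ⟨?_, c1 ^ k, ?_, by rw [map_zpow, pc, map_zpow]⟩ <;>
      rw [← zpow_natCast, ← zpow_mul, mul_comm, zpow_mul, zpow_natCast]
    · rw [hc, one_zpow]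
    · rw [show c1 ^ cc q = 1 from hc1, one_zpow]
  have zc' : ∀ {d : Kˣ}, d ^ cc q = 1 → ∃ a ∈ Subgroup.zpowers c, p a = ml F d := fun {d} h => by
    obtain ⟨k, hk⟩ := gc ⟨d, h⟩
    exact ⟨_, ⟨k, rfl⟩, by rw [map_zpow, pc, ← map_zpow]; exact congrArg (fun x => ml F x.1) hk⟩
  have z1 : ∀ {a}, a ∈ Subgroup.zpowers c → p a = 1 → a = 1 := fun h e =>
    L _ r4 (pe (e.trans (map_one p).symm)) (by rw [(zc h).1, one_pow])
  have oc : orderOf c = cc q := Nat.dvd_antisymm (orderOf_dvd_of_pow_eq_one hc) (by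
    rw [← oc1, ← orderOf_injective (ml F) ml_inj, ← pc]; exact orderOf_map_dvd _ _)
  obtain ⟨y, py⟩ : ∃ y, ∀ x, p y x = 1 * x ^ q ^ 2 := by
    obtain ⟨g, hg, e⟩ := hy.fro
    obtain ⟨y, rfl⟩ := lift g hg
    exact ⟨y, by simpa using e⟩
  have cj : ∀ {x a m}, (∀ v, p x v = a * v ^ m) → x * c * x⁻¹ = c ^ m := fun {x a m} h =>
    L _ r4 (pe (by rw [map_mul, map_mul, map_inv, map_pow, pc, cj_ml h, map_pow])) (by
      rw [conj_pow, ← pow_mul, mul_comm m, pow_mul, hc]; simp)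
  obtain ⟨N, hN, cN⟩ := grb fd hy
  let Z : Subgroup (K ≃ₗ[F] K) := (powMonoidHom (q + 1) : Kˣ →* Kˣ).ker.map (ml F)
  have ZJ : Z ≤ J := by
    rintro _ ⟨z, hz, rfl⟩
    exact (hy.tor z).2 (by rw [← r2, mul_comm, pow_mul, show z ^ (q + 1) = 1 from hz, one_pow])
  have cp : ∀ X ≤ J, Nat.card (X.comap p) = Nat.card X * Nat.card π.ker := fun X hX => by
    rw [← Subgroup.comap_comap, card_cm sur, ← Nat.card_congr (Subgroup.subgroupOfEquivOfLe hX).toEquiv]; rfl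
  have cZ : Nat.card (Z.comap p) = (q + 1) * Nat.card π.ker := by
    rw [cp Z ZJ, Subgroup.card_map_of_injective ml_inj,
      H11.card_pow_eq_one_units K ((Dvd.intro_left _ r2).trans (mm_dvd fd))]
  have cN' : Nat.card (N.comap p) = 7 * (7 * t + 1) * Nat.card (Z.comap p) := by
    rw [cp N fun g h => ((hN g).1 h).1, cN, cZ, ← r7, ← r2]; ring
  have z0 : π.ker ≤ Z.comap p := fun z hz => by
    rw [Subgroup.mem_comap, show p z = 1 from congrArg Subtype.val hz]; exact one_mem _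
  have fp : ∀ z ∈ Z.comap p, ∀ a ∈ Subgroup.zpowers c, z * a ∉ π.ker → ∀ v : K, π (z * a) • v = v → v = 0 := by
    rintro z ⟨ζ, -, hζ⟩ a ha h v e
    obtain ⟨-, d, -, hd⟩ := zc ha
    have : p (z * a) = ml F (ζ * d) := by rw [map_mul, map_mul, hζ, hd]
    exact ml_fix (t := ζ * d) (fun k => h (Subtype.ext (this.trans (by rw [k, map_one]; rfl)))) v
      ((DFunLike.congr_fun this v).symm.trans e)
  have za : ∀ z ∈ Z.comap p, ∀ a ∈ Subgroup.zpowers c, a ≠ 1 → ∃ d : Kˣ, (d : K) ^ q ^ 2 ≠ d ∧ p (z * a) = ml F d := by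
    rintro z ⟨ζ, h, hζ⟩ a ha a1
    obtain ⟨-, d, h', hd⟩ := zc ha
    refine ⟨ζ * d, fun e => notF fd h' (fun k => a1 (z1 ha (by rw [hd, k, map_one]))) ?_, by rw [map_mul, map_mul, hζ, hd]⟩
    rwa [Units.val_mul, mul_pow, inF fd (congrArg Units.val h), mul_right_inj' ζ.ne_zero] at e
  have xh : XH ρ π.ker (Z.comap p) (N.comap p) c y (q ^ 2) t (gg q) := by
    refine ⟨fun z ⟨ζ, h, hζ⟩ => ?_, z0, oc.trans r7, r7 ▸ r5, by omega, r8, ?_, cj py, ?_, fun a ha i i0 i7 e => ?_, cN',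
      fun x hx => ?_, fun x z hz z' hz' a ha a' ha' a1 e => ?_, fun z hz => (hk z hz).2.2.1, fun z hz => (hk z hz).2.2.2,
      fun z hz a ha h => w1 _ (fp z hz a ha h), by rw [cZ, ← r7, ← r1, ← r2]; ring⟩
    · refine Subgroup.mem_center_iff.2 fun x => mul_inv_eq_iff_eq_mul.1 (L (q + 1) (by simp) (pe ?_) ?_)
      · obtain ⟨s, hs⟩ := (memF fd).1 (inF fd (congrArg Units.val h))
        rw [map_mul, map_mul, map_inv, ← hζ, mul_inv_eq_iff_eq_mul]
        ext v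
        simp only [LinearEquiv.mul_apply, ml_apply, ← hs, ← Algebra.smul_def, map_smul]
      · rw [conj_pow, Subgroup.mem_center_iff.1 (hk _ (Subtype.ext (show p (z ^ (q + 1)) = 1 by
          rw [map_pow, ← hζ, ← map_pow, show ζ ^ (q + 1) = 1 from h, map_one]))).2.1 x, mul_inv_cancel_right]
    · refine (Subgroup.eq_bot_iff_forall _).2 fun a ⟨⟨ζ, h, hζ⟩, ha⟩ => z1 ha ?_
      obtain ⟨-, d, h', hd⟩ := zc ha
      obtain rfl := ml_inj (hζ.trans hd)
      rw [hd, (pow_eq_one_iff_of_coprime r3).1 ⟨h', h⟩, map_one]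
    · exact (cj (x := 1) (a := 1) fun v => by simp [pw fd]).symm.trans (by simp)
    · exact (pow_eq_one_iff_of_coprime (r9 i i0 i7)).1 ⟨(zc ha).1, by
        rw [← mul_left_inj a, ← pow_succ, Nat.sub_add_cancel (Nat.one_le_pow _ _ (by have := q2 fd; positivity)), one_mul, e]⟩
    · obtain ⟨-, a, i, h⟩ := (hN _).1 hx
      exact ⟨i, cj h⟩
    · obtain ⟨d, k, hd⟩ := za z hz a ha a1
      obtain ⟨ζ, -, hζ⟩ := hz'
      obtain ⟨-, d', -, hd'⟩ := zc ha'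
      have := congrArg p (mul_inv_eq_iff_eq_mul.1 e)
      rw [map_mul, hd, map_mul, map_mul p z', ← hζ, hd', ← map_mul (ml F)] at this
      exact (hN _).2 ⟨(π x).2, mon_of fd _ d _ k fun v => DFunLike.congr_fun this v⟩
  rcases ex Γ _ ρ _ _ _ _ _ _ _ _ xh with ⟨Y, nY, h1, h2, h3⟩ | h
  · have k : ∀ d : Kˣ, ml F d ∈ Y.map p → d ^ (q + 1) = 1 := fun d ⟨w, hw, e⟩ => by
      obtain ⟨a, ha, e'⟩ := zc' (d := d ^ (q + 1)) (by
        rw [← pow_mul, mul_comm, r2]; exact (hy.tor d).1 (e ▸ (π w).2))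
      have : a ∈ Y := (mul_mem_cancel_right (inv_mem (pow_mem hw (q + 1)))).1 (h1 (z0 (Subtype.ext (show p _ = 1 by
        rw [map_mul, map_inv, map_pow, e, e', map_pow, mul_inv_cancel]))))
      rw [(Subgroup.eq_bot_iff_forall _).1 h2 a ⟨this, ha⟩, map_one] at e'
      exact ml_inj (e'.symm.trans (map_one _).symm)
    have h4 : Y ≤ Z.comap p := fun w hw => by
      obtain ⟨s, hs⟩ := grc fd hy (Y.map p) (by
        rintro g hg _ ⟨w, hw, rfl⟩
        obtain ⟨x, rfl⟩ := lift g hg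
        exact ⟨_, nY.conj_mem w hw x, by simp⟩) k _ ⟨w, hw, rfl⟩
      have : p w = ml F (Units.mk0 (p w 1) (by simp)) := LinearEquiv.ext fun v => by simp [ml_apply, hs]
      exact ⟨_, k _ (this ▸ ⟨w, hw, rfl⟩), this.symm⟩
    have h5 : N.comap p = ⊤ := Subgroup.eq_top_of_le_card _ (by
      rw [h3, cN']; exact Nat.mul_le_mul_left _ (Subgroup.card_le_of_le h4))
    obtain ⟨g, hg, m⟩ := hy.big
    obtain ⟨x, rfl⟩ := lift g hg
    exact absurd ((hN _).1 (h5.ge (Subgroup.mem_top x))).2 m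
  obtain ⟨s, s1, s2, s3⟩ := sum_eq fd ψ Φ hκ hγ
  obtain ⟨s', s1', s2', s3'⟩ := sum_eq fd ψ Φ hκ hγ'
  have e3 : s ^ cc q = s' ^ cc q := Units.ext (by rw [s1, s1', e1])
  have e4 : s ^ mm q = 1 := Units.ext (by rw [← r2, pow_mul, Units.val_pow_eq_pow_val, s1, inv_pow, e2]; simp)
  have e5 : s' ^ mm q = 1 := by rw [← e4, ← r2, pow_mul, pow_mul, e3]
  obtain ⟨u, v, huv⟩ := Nat.isCoprime_iff_coprime.2 r3
  obtain ⟨b1, b2, b3⟩ := split fd e4 huv
  obtain ⟨-, b2', b3'⟩ := split fd e5 huv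
  rw [mul_comm u, zpow_mul, zpow_natCast, ← e3, ← zpow_natCast, ← zpow_mul, mul_comm _ u] at b3'
  obtain ⟨z, pz⟩ := lift _ (ZJ ⟨_, b1, rfl⟩)
  have hz : z ∈ Z.comap p := ⟨_, b1, pz.symm⟩
  obtain ⟨A, A1, A2⟩ := hA Φ fun g => hΦ g g.2
  have key : ∀ {s' d : Kˣ}, (s' : K) ^ q ^ 2 ≠ s' → d ^ cc q = 1 → s ^ (u * cc q) * d = s' → ∃ a ∈ Subgroup.zpowers c,
      a ≠ 1 ∧ (ρ (z * a)).trace ≠ 0 ∧ (A * ρ (z * a)).trace =
        (ρ (z * a)).trace * ∑ v, Φ (v - s' * v) * bb q ψ κ (v - s' * v) (s' * v) := fun {s' d} k h e => by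
    obtain ⟨a, ha, pa⟩ := zc' h
    have e' : p (z * a) = ml F s' := by rw [map_mul, pz, pa, ← map_mul, e]
    have f : ∀ v : K, π (z * a) • v = s' * v := fun v => DFunLike.congr_fun e' v
    have f' : ∀ v : K, π (z * a) • v = v → v = 0 := fun v h => ml_fix (F := F) (t := s') (fun z => k (by simp [z])) v
      ((f v).symm.trans h)
    refine ⟨a, ha, fun a1 => k ?_, fun h0 => by simpa [-map_mul, h0] using w1 _ f', by simpa only [f] using A2 _ f'⟩
    rw [a1, mul_one, pz] at e'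
    rw [← ml_inj e']; exact inF fd (congrArg Units.val b1)
  obtain ⟨a, ha, a1, t0, ta⟩ := key s2 b2 b3
  obtain ⟨a', ha', a1', -, ta'⟩ := key s2' b2' b3'
  have := h 1 (by simp) z hz a ha a' ha' a1 a1'
  rw [one_mul, one_mul] at this
  rw [h A A1 z hz a ha a' ha' a1 a1', ta', ← this, mul_right_inj' t0, s3, s3'] at ta
  exact ta.symm

end H20.US
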